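import Cfsg.Agent.Lib.Helper35.Frobenius

set_option autoImplicit false

namespace Cfsg.Agent.Lib.Helper35

open scoped Pointwise

variable {G : Type*} [Group G]

/-- Nonidentity elements lying in some conjugate of `H`. -/
def conjUnion (H : Subgroup G) : Set G := {x | x ≠ 1 ∧ ∃ g : G, x ∈ MulAut.conj g • H}

lemma frobeniusKernel_eq_compl (H : Subgroup G) : Cfsg.frobeniusKernel H = (conjUnion H)ᶜ := by
  ext x
  simp only [Cfsg.frobeniusKernel, conjUnion, Set.mem_ofPred_eq, Set.mem_compl_iff, not_and, not_exists]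
  constructor
  · rintro (h | h)
    · intro h1; exact absurd h h1
    · intro _; exact h
  · intro h
    by_cases h1 : x = 1
    · exact Or.inl h1
    · exact Or.inr (h h1)

/-- The parametrisation of `conjUnion H` by cosets and nonidentity elements of `H`. -/
noncomputable def conjParam (H : Subgroup G) (p : (G ⧸ H) × {h : H // h ≠ 1}) : G :=
  p.1.out * (p.2.1 : G) * p.1.out⁻¹

lemma conjParam_injective {H : Subgroup G} (hH : Cfsg.IsFrobeniusComplement H) :
    Function.Injective (conjParam H) := by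
  rintro ⟨q₁, ⟨h₁, hh₁⟩⟩ ⟨q₂, ⟨h₂, hh₂⟩⟩ heq
  simp only [conjParam] at heq
  have hh₁' : (h₁ : G) ≠ 1 := fun h => hh₁ (Subtype.ext h)
  have hx1 : q₁.out * (h₁ : G) * q₁.out⁻¹ ≠ 1 := by
    intro h
    apply hh₁'
    have : (h₁ : G) = q₁.out⁻¹ * (q₁.out * (h₁ : G) * q₁.out⁻¹) * q₁.out := by group
    rw [this, h]; group
  have hmem := inv_mul_mem_of_mem_conj_conj hH hx1 (conj_mem_conj_smul h₁.2)
    (heq ▸ conj_mem_conj_smul h₂.2)
  have hq : q₁ = q₂ := by
    rw [← QuotientGroup.out_eq' q₁, ← QuotientGroup.out_eq' q₂]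
    exact QuotientGroup.eq.mpr hmem
  subst hq
  have : (h₁ : G) = h₂ := by
    have h3 : (h₁ : G) = q₁.out⁻¹ * (q₁.out * (h₁ : G) * q₁.out⁻¹) * q₁.out := by group
    rw [h3, heq]; group
  have h4 : h₁ = h₂ := Subtype.ext this
  subst h4
  rfl

lemma range_conjParam (H : Subgroup G) : Set.range (conjParam H) = conjUnion H := by
  ext x
  constructor
  · rintro ⟨⟨q, ⟨h, hh⟩⟩, rfl⟩
    refine ⟨?_, q.out, conj_mem_conj_smul h.2⟩
    intro h1
    apply hh
    have : (h : G) = q.out⁻¹ * (q.out * (h : G) * q.out⁻¹) * q.out := by group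
    have h2 : (h : G) = 1 := by
      simp only [conjParam] at h1
      rw [this, h1]; group
    exact Subtype.ext h2
  · rintro ⟨hx1, g, hg⟩
    rw [mem_conj_smul] at hg
    -- representative of the coset of g
    set q : G ⧸ H := (g : G ⧸ H) with hq
    have hrel : g⁻¹ * q.out ∈ H := by
      have : ((q.out : G) : G ⧸ H) = (g : G ⧸ H) := QuotientGroup.out_eq' q
      exact QuotientGroup.eq.mp this.symm
    set h' : G := q.out⁻¹ * x * q.out with hh'
    have hh'H : h' ∈ H := by
      have : h' = (g⁻¹ * q.out)⁻¹ * (g⁻¹ * x * g) * (g⁻¹ * q.out) := by rw [hh']; group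
      rw [this]
      exact H.mul_mem (H.mul_mem (H.inv_mem hrel) hg) hrel
    have hh'1 : (⟨h', hh'H⟩ : H) ≠ 1 := by
      intro h
      apply hx1
      have h2 : h' = 1 := congrArg Subtype.val h
      have : x = q.out * h' * q.out⁻¹ := by rw [hh']; group
      rw [this, h2]; group
    refine ⟨⟨q, ⟨⟨h', hh'H⟩, hh'1⟩⟩, ?_⟩
    simp only [conjParam]
    rw [hh']; group

lemma card_conjUnion [Finite G] {H : Subgroup G} (hH : Cfsg.IsFrobeniusComplement H) :
    Nat.card (conjUnion H) = H.index * (Nat.card H - 1) := by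
  classical
  rw [← range_conjParam, Nat.card_range_of_injective (conjParam_injective hH), Nat.card_prod,
    ← Subgroup.index_eq_card]
  congr 1
  have : Nat.card {h : H // h ≠ 1} = Nat.card H - 1 := by
    have := Fintype.ofFinite H
    rw [Nat.card_eq_fintype_card, Nat.card_eq_fintype_card, Fintype.card_subtype_compl,
      Fintype.card_subtype_eq]
  exact this

lemma card_frobeniusKernel [Finite G] {H : Subgroup G} (hH : Cfsg.IsFrobeniusComplement H) :
    Nat.card (Cfsg.frobeniusKernel H) = H.index := by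
  classical
  have h1 : Nat.card (conjUnion H) + Nat.card ((conjUnion H)ᶜ : Set G) = Nat.card G := by
    rw [Nat.card_coe_set_eq, Nat.card_coe_set_eq]
    exact Set.ncard_add_ncard_compl _
  rw [frobeniusKernel_eq_compl]
  rw [card_conjUnion hH] at h1
  have h2 : Nat.card H * H.index = Nat.card G := Subgroup.card_mul_index H
  have h3 : 0 < Nat.card H := Nat.card_pos
  have h4 : H.index * (Nat.card H - 1) + H.index = Nat.card G := by
    rw [← h2]
    obtain ⟨m, hm⟩ : ∃ m, Nat.card H = m + 1 := ⟨Nat.card H - 1, by omega⟩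
    rw [hm]
    simp only [Nat.add_sub_cancel]
    ring
  omega

end Cfsg.Agent.Lib.Helper35
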