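import Cfsg.Agent.Lib.Helper35.Frobenius

set_option autoImplicit false

namespace Cfsg.Agent.Lib.Helper35

open scoped Pointwise

variable {G : Type*} [Group G]

lemma fixedBy_quotient_eq_singleton {H : Subgroup G} (hH : Cfsg.IsFrobeniusComplement H)
    (h : H) (hh : h ≠ 1) (q : G ⧸ H) (hq : h • q = q) : q = ((1 : G) : G ⧸ H) := by
  induction q using QuotientGroup.induction_on with
  | H g =>
    have h1 : (((h : G) * g : G) : G ⧸ H) = (g : G ⧸ H) := hq
    rw [QuotientGroup.eq] at h1
    have h2 : g⁻¹ * (h : G) * g ∈ H := by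
      have : g⁻¹ * (h : G) * g = (((h : G) * g)⁻¹ * g)⁻¹ := by group
      rw [this]; exact H.inv_mem h1
    have hh' : (h : G) ≠ 1 := fun e => hh (Subtype.ext e)
    have hg : g ∈ H := mem_of_mem_inf_conj hH hh' h.2 (mem_conj_smul.mpr h2)
    rw [QuotientGroup.eq]
    simpa using hg

lemma index_mod_card [Finite G] {H : Subgroup G} (hH : Cfsg.IsFrobeniusComplement H) :
    H.index % Nat.card H = 1 % Nat.card H := by
  classical
  have := Fintype.ofFinite G
  have := Fintype.ofFinite H
  have : Fintype (G ⧸ H) := Fintype.ofFinite _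
  have : Fintype (MulAction.orbitRel.Quotient H (G ⧸ H)) := Fintype.ofFinite _
  have hB := MulAction.sum_card_fixedBy_eq_card_orbits_mul_card_group H (G ⧸ H)
  have h1 : Fintype.card (MulAction.fixedBy (G ⧸ H) (1 : H)) = H.index := by
    rw [Subgroup.index_eq_card, Nat.card_eq_fintype_card]
    apply Fintype.card_of_subtype Finset.univ
    intro x
    simp
  have h2 : ∀ h : H, h ≠ 1 → Fintype.card (MulAction.fixedBy (G ⧸ H) h) = 1 := by
    intro h hh
    rw [Fintype.card_eq_one_iff]
    refine ⟨⟨((1 : G) : G ⧸ H), ?_⟩, ?_⟩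
    · rw [MulAction.mem_fixedBy]
      show (((h : G) * 1 : G) : G ⧸ H) = ((1 : G) : G ⧸ H)
      rw [QuotientGroup.eq]
      simp
    · rintro ⟨q, hq⟩
      exact Subtype.ext (fixedBy_quotient_eq_singleton hH h hh q hq)
  rw [← Finset.add_sum_erase Finset.univ _ (Finset.mem_univ (1 : H)), h1] at hB
  have h3 : ∑ h ∈ Finset.univ.erase (1 : H), Fintype.card (MulAction.fixedBy (G ⧸ H) h)
      = Fintype.card H - 1 := by
    rw [Finset.sum_congr rfl (fun h hh => h2 h (Finset.ne_of_mem_erase hh))]
    simp [Finset.card_erase_of_mem]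
  rw [h3] at hB
  rw [Nat.card_eq_fintype_card]
  have hpos : 0 < Fintype.card H := Fintype.card_pos
  set c := Fintype.card (MulAction.orbitRel.Quotient H (G ⧸ H)) with hc
  set m := Fintype.card H with hm
  have h4 : H.index + m = c * m + 1 := by omega
  have h5 : (H.index + m) % m = (c * m + 1) % m := by rw [h4]
  rw [Nat.add_mod_right, Nat.mul_add_mod_self_right] at h5
  exact h5

end Cfsg.Agent.Lib.Helper35
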