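import Cfsg.Agent.Lib.Helper35.FrobeniusConj
import Cfsg.Agent.Lib.Helper35.FrobeniusMod

set_option autoImplicit false

namespace Cfsg.Agent.Lib.Helper35

open scoped Pointwise

variable {G : Type*} [Group G]

lemma mem_conj_of_commute {H : Subgroup G} (hH : Cfsg.IsFrobeniusComplement H) {g c x : G}
    (hx1 : x ≠ 1) (hx : x ∈ MulAut.conj g • H) (hc : c * x = x * c) : c ∈ MulAut.conj g • H := by
  rw [mem_conj_smul] at hx ⊢
  refine mem_of_commute hH (x := g⁻¹ * x * g) ?_ hx ?_
  · intro h
    apply hx1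
    have : x = g * (g⁻¹ * x * g) * g⁻¹ := by group
    rw [this, h]; group
  · calc g⁻¹ * c * g * (g⁻¹ * x * g) = g⁻¹ * (c * x) * g := by group
      _ = g⁻¹ * (x * c) * g := by rw [hc]
      _ = g⁻¹ * x * g * (g⁻¹ * c * g) := by group

lemma coprime_index_card [Finite G] {H : Subgroup G} (hH : Cfsg.IsFrobeniusComplement H) :
    Nat.Coprime H.index (Nat.card H) := by
  have h := index_mod_card hH
  rw [Nat.Coprime, Nat.gcd_comm, Nat.gcd_rec, h, ← Nat.gcd_rec, Nat.gcd_one_right]

/-- A subgroup acting freely on the cosets of `H` has order dividing the index. -/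
lemma card_dvd_index_of_free [Finite G] {H : Subgroup G} (Z : Subgroup G)
    (hZ : ∀ z ∈ Z, z ≠ 1 → ∀ g : G, z ∉ MulAut.conj g • H) : Nat.card Z ∣ H.index := by
  classical
  have := Fintype.ofFinite G
  have := Fintype.ofFinite Z
  have : Fintype (G ⧸ H) := Fintype.ofFinite _
  have : Fintype (MulAction.orbitRel.Quotient Z (G ⧸ H)) := Fintype.ofFinite _
  have hB := MulAction.sum_card_fixedBy_eq_card_orbits_mul_card_group Z (G ⧸ H)
  have h1 : Fintype.card (MulAction.fixedBy (G ⧸ H) (1 : Z)) = H.index := by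
    rw [Subgroup.index_eq_card, Nat.card_eq_fintype_card]
    apply Fintype.card_of_subtype Finset.univ
    intro x
    simp
  have h2 : ∀ z : Z, z ≠ 1 → Fintype.card (MulAction.fixedBy (G ⧸ H) z) = 0 := by
    intro z hz
    rw [Fintype.card_eq_zero_iff]
    constructor
    rintro ⟨q, hq⟩
    induction q using QuotientGroup.induction_on with
    | H g =>
      have h1 : (((z : G) * g : G) : G ⧸ H) = (g : G ⧸ H) := hq
      rw [QuotientGroup.eq] at h1
      have h2 : g⁻¹ * (z : G) * g ∈ H := by
        have : g⁻¹ * (z : G) * g = (((z : G) * g)⁻¹ * g)⁻¹ := by group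
        rw [this]; exact H.inv_mem h1
      exact hZ z z.2 (fun e => hz (Subtype.ext e)) g (mem_conj_smul.mpr h2)
  rw [← Finset.add_sum_erase Finset.univ _ (Finset.mem_univ (1 : Z)), h1,
    Finset.sum_eq_zero (fun z hz => h2 z (Finset.ne_of_mem_erase hz)), add_zero] at hB
  rw [Nat.card_eq_fintype_card, hB]
  exact Dvd.intro_left _ rfl

/-- An element whose order divides the order of a Frobenius complement lies in a conjugate. -/
lemma exists_mem_conj_of_orderOf_dvd [Finite G] {H : Subgroup G} (hH : Cfsg.IsFrobeniusComplement H)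
    (u : G) (hu1 : u ≠ 1) (hu : orderOf u ∣ Nat.card H) : ∃ g : G, u ∈ MulAut.conj g • H := by
  by_contra hcon
  push Not at hcon
  have hfree : ∀ z ∈ Subgroup.zpowers u, z ≠ 1 → ∀ g : G, z ∉ MulAut.conj g • H := by
    intro z hz hz1 g hzg
    obtain ⟨k, rfl⟩ := Subgroup.mem_zpowers_iff.mp hz
    have hc : u * u ^ k = u ^ k * u := by
      rw [← zpow_one_add, ← zpow_add_one, add_comm]
    exact hcon g (mem_conj_of_commute hH hz1 hzg hc)
  have h1 := card_dvd_index_of_free (H := H) (Subgroup.zpowers u) hfree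
  rw [Nat.card_zpowers] at h1
  have h2 := Nat.eq_one_of_dvd_coprimes (coprime_index_card hH) h1 hu
  rw [orderOf_eq_one_iff] at h2
  exact hu1 h2

end Cfsg.Agent.Lib.Helper35
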