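import Mathlib
import Cfsg.Agent.S4207
import Cfsg.Agent.Lib.Helper2.PGroup

set_option autoImplicit false

namespace Cfsg.Agent.Lib.Helper35

open Subgroup

/-- In a `2`-group the Frattini quotient has order at most twice the index of any cyclic
subgroup. -/
theorem frattini_index_le_two_mul {Q : Type*} [Group Q] [Finite Q] (hQ : IsPGroup 2 Q) (c : Q) :
    (frattini Q).index ≤ 2 * (zpowers c).index := by
  have h2 : c ^ 2 ∈ frattini Q := Cfsg.Agent.Lib.Helper2.pow_mem_frattini hQ c
  have hle : zpowers (c ^ 2) ≤ frattini Q := (zpowers_le).mpr h2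
  have h1 : (frattini Q).index ∣ (zpowers (c ^ 2)).index := index_dvd_of_le hle
  have h3 : (zpowers (c ^ 2)).index ≤ 2 * (zpowers c).index := by
    have e1 : (zpowers (c ^ 2)).index * Nat.card (zpowers (c ^ 2)) = Nat.card Q :=
      index_mul_card _
    have e2 : (zpowers c).index * Nat.card (zpowers c) = Nat.card Q := index_mul_card _
    rw [Nat.card_zpowers] at e1 e2
    have e3 : orderOf (c ^ 2) * Nat.gcd (orderOf c) 2 = orderOf c := by
      rw [orderOf_pow]; exact Nat.div_mul_cancel (Nat.gcd_dvd_left _ _)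
    have e4 : Nat.gcd (orderOf c) 2 ≤ 2 := Nat.gcd_le_right _ (by norm_num)
    have hpos : 0 < orderOf (c ^ 2) := orderOf_pos _
    have e5 : (zpowers (c ^ 2)).index * orderOf (c ^ 2) ≤
        (2 * (zpowers c).index) * orderOf (c ^ 2) := by
      rw [e1, ← e2, ← e3]
      calc (zpowers c).index * (orderOf (c ^ 2) * Nat.gcd (orderOf c) 2)
          ≤ (zpowers c).index * (orderOf (c ^ 2) * 2) :=
            Nat.mul_le_mul_left _ (Nat.mul_le_mul_left _ e4)
        _ = (2 * (zpowers c).index) * orderOf (c ^ 2) := by ring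
    exact Nat.le_of_mul_le_mul_right e5 hpos
  have hpos : 0 < (zpowers (c ^ 2)).index := Nat.pos_of_ne_zero (index_ne_zero_of_finite)
  exact le_trans (Nat.le_of_dvd hpos h1) h3

/-- The Frattini quotient of a `2`-group with a cyclic subgroup of index `≤ 2` has order `≤ 4`. -/
theorem frattini_index_le_four {Q : Type*} [Group Q] [Finite Q] (hQ : IsPGroup 2 Q) (c : Q)
    (hc : (zpowers c).index ≤ 2) : (frattini Q).index ≤ 4 :=
  le_trans (frattini_index_le_two_mul hQ c) (by omega)

/-- automorphisms acting trivially on the Frattini quotient -/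
def trivModFrattini (Q : Type*) [Group Q] : Subgroup (MulAut Q) where
  carrier := {β | ∀ x : Q, β x * x⁻¹ ∈ frattini Q}
  one_mem' := fun x => by simp
  mul_mem' := by
    intro β γ hβ hγ x
    have : (β * γ) x * x⁻¹ = (β (γ x) * (γ x)⁻¹) * (γ x * x⁻¹) := by
      rw [MulAut.mul_apply]; group
    rw [this]
    exact mul_mem (hβ _) (hγ _)
  inv_mem' := by
    intro β hβ x
    have h := hβ (β⁻¹ x)
    rw [MulAut.apply_inv_self] at h
    have : β⁻¹ x * x⁻¹ = (x * (β⁻¹ x)⁻¹)⁻¹ := by group
    rw [this]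
    exact inv_mem h

/-- An automorphism of a `2`-group whose order is odd and prime to `|Q/Φ(Q)|!` is trivial. -/
theorem mulAut_eq_one_of_coprime_factorial {Q : Type*} [Group Q] [Finite Q] (hQ : IsPGroup 2 Q)
    (α : MulAut Q) (m : ℕ) (hm : α ^ m = 1) (hm2 : m.Coprime 2)
    (hmF : m.Coprime ((frattini Q).index).factorial) : α = 1 := by
  classical
  have hchar : ∀ β : MulAut Q, (frattini Q).map β.toMonoidHom = frattini Q :=
    fun β => Subgroup.characteristic_iff_map_eq.mp inferInstance β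
  -- the induced permutation of the Frattini quotient
  let ind : MulAut Q → (Q ⧸ frattini Q ≃* Q ⧸ frattini Q) := fun β =>
    QuotientGroup.congr (frattini Q) (frattini Q) β (hchar β)
  have hind : ∀ (β : MulAut Q) (x : Q), ind β (x : Q ⧸ frattini Q) = ((β x : Q) : Q ⧸ frattini Q) :=
    fun β x => QuotientGroup.congr_mk _ _ _ _ x
  let σ : Equiv.Perm (Q ⧸ frattini Q) := (ind α).toEquiv
  have hσpow : ∀ (k : ℕ) (x : Q), (σ ^ k) (x : Q ⧸ frattini Q) = (((α ^ k) x : Q) : Q ⧸ frattini Q) := by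
    intro k
    induction k with
    | zero => intro x; simp
    | succ k ih =>
      intro x
      rw [pow_succ, Equiv.Perm.mul_apply, pow_succ, MulAut.mul_apply]
      have : σ (x : Q ⧸ frattini Q) = ((α x : Q) : Q ⧸ frattini Q) := hind α x
      rw [this, ih]
  have hσm : σ ^ m = 1 := by
    ext y
    obtain ⟨x, rfl⟩ := QuotientGroup.mk_surjective y
    rw [hσpow, hm]; simp
  have hσ1 : σ = 1 := by
    have h1 : orderOf σ ∣ m := orderOf_dvd_of_pow_eq_one hσm
    have h2 : orderOf σ ∣ Nat.card (Equiv.Perm (Q ⧸ frattini Q)) := orderOf_dvd_natCard σ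
    have h3 : Nat.card (Equiv.Perm (Q ⧸ frattini Q)) = ((frattini Q).index).factorial := by
      have := Fintype.ofFinite (Q ⧸ frattini Q)
      rw [Nat.card_eq_fintype_card, Fintype.card_perm, ← Nat.card_eq_fintype_card]
      rfl
    rw [h3] at h2
    have h4 : orderOf σ ∣ Nat.gcd m ((frattini Q).index).factorial := Nat.dvd_gcd h1 h2
    rw [hmF.gcd_eq_one, Nat.dvd_one, orderOf_eq_one_iff] at h4
    exact h4
  have hαtriv : α ∈ trivModFrattini Q := by
    intro x
    have h1 : σ (x : Q ⧸ frattini Q) = ((α x : Q) : Q ⧸ frattini Q) := hind α x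
    rw [hσ1, Equiv.Perm.one_apply] at h1
    rw [← QuotientGroup.eq_one_iff, QuotientGroup.mk_mul, QuotientGroup.mk_inv, ← h1,
      mul_inv_cancel]
  -- now S4207
  obtain ⟨n, hn⟩ := (IsPGroup.iff_card.mp hQ)
  have hidx : (frattini Q).index ∣ 2 ^ n := by rw [← hn]; exact index_dvd_card _
  obtain ⟨r, -, hr⟩ := (Nat.dvd_prime_pow Nat.prime_two).mp hidx
  have : Fact (Nat.Prime 2) := ⟨Nat.prime_two⟩
  have hA : ∀ β ∈ zpowers α, ∀ x : Q, β x * x⁻¹ ∈ frattini Q := by
    intro β hβ
    exact (zpowers_le.mpr hαtriv) hβ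
  have hdvd := Cfsg.Agent.S4207.result hn hr (zpowers α) hA
  rw [Nat.card_zpowers] at hdvd
  have h1 : orderOf α ∣ m := orderOf_dvd_of_pow_eq_one hm
  have h2 : orderOf α ∣ Nat.gcd m (2 ^ (r * (n - r))) := Nat.dvd_gcd h1 hdvd
  rw [(hm2.pow_right _).gcd_eq_one, Nat.dvd_one, orderOf_eq_one_iff] at h2
  exact h2

/-- An automorphism of order prime to `6` of a `2`-group with a cyclic subgroup of index `≤ 2`
is trivial. -/
theorem mulAut_eq_one_of_cyclic_index_two {Q : Type*} [Group Q] [Finite Q] (hQ : IsPGroup 2 Q)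
    (c : Q) (hc : (zpowers c).index ≤ 2) (α : MulAut Q) (m : ℕ) (hm : α ^ m = 1)
    (hm2 : m.Coprime 2) (hm3 : m.Coprime 3) : α = 1 := by
  apply mulAut_eq_one_of_coprime_factorial hQ α m hm hm2
  have h4 : (frattini Q).index ≤ 4 := frattini_index_le_four hQ c hc
  have h24 : Nat.factorial 4 = 24 := by decide
  have hd : ((frattini Q).index).factorial ∣ 24 := by
    rw [← h24]; exact Nat.factorial_dvd_factorial h4
  have : Nat.Coprime m (2 ^ 3 * 3) := Nat.Coprime.mul_right (hm2.pow_right 3) hm3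
  exact Nat.Coprime.coprime_dvd_right hd (by simpa using this)

/-- An automorphism of odd order of a cyclic `2`-group is trivial. -/
theorem mulAut_eq_one_of_cyclic {Q : Type*} [Group Q] [Finite Q] (hQ : IsPGroup 2 Q)
    (c : Q) (hc : zpowers c = ⊤) (α : MulAut Q) (m : ℕ) (hm : α ^ m = 1)
    (hm2 : m.Coprime 2) : α = 1 := by
  apply mulAut_eq_one_of_coprime_factorial hQ α m hm hm2
  have h2 : (frattini Q).index ≤ 2 := by
    have := frattini_index_le_two_mul hQ c
    rwa [hc, index_top, mul_one] at this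
  have h22 : Nat.factorial 2 = 2 := by decide
  have hd : ((frattini Q).index).factorial ∣ 2 := by
    rw [← h22]; exact Nat.factorial_dvd_factorial h2
  exact Nat.Coprime.coprime_dvd_right hd hm2

end Cfsg.Agent.Lib.Helper35
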