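import Mathlib
import Cfsg.Agent.Lib.Helper24.Coprime

set_option autoImplicit false

universe u

namespace Cfsg.Agent.Lib.Helper35

open Subgroup MonoidHom
open Cfsg.Agent.Lib.Helper33 Cfsg.Agent.Lib.Helper24

section transfer
variable {G : Type*} [Group G] [Finite G]

open scoped IsMulCommutative in
/-- An abelian Hall subgroup in which no fusion takes place has a normal complement
(the kernel of the transfer). -/
theorem exists_normal_complement_of_fusion (H : Subgroup G) [IsMulCommutative H]
    (hHall : Nat.Coprime (Nat.card H) H.index)
    (hfus : ∀ h ∈ H, ∀ g : G, g⁻¹ * h * g ∈ H → g⁻¹ * h * g = h) :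
    ∃ N : Subgroup G, N.Normal ∧ N.IsComplement' H := by
  let T : G →* H := transfer (MonoidHom.id H)
  have key : ∀ g ∈ H, ∀ (k : ℕ) (g₀ : G), g₀⁻¹ * g ^ k * g₀ ∈ H →
      g₀⁻¹ * g ^ k * g₀ = g ^ k :=
    fun g hg k g₀ hk => hfus (g ^ k) (H.pow_mem hg k) g₀ hk
  have hT : ∀ g : H, T g = g ^ H.index := by
    intro g
    have := transfer_eq_pow (MonoidHom.id H) (g : G) (key g g.2)
    apply Subtype.ext
    rw [this]; rfl
  have hf : Function.Bijective (T.domRestrict H) := by
    have : ⇑(T.domRestrict H) = fun x : H => x ^ H.index := funext hT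
    rw [this]
    exact (powCoprime hHall).bijective
  refine ⟨T.ker, inferInstance, ?_⟩
  rw [Function.Bijective, ← range_eq_top, domRestrict_range] at hf
  have := range_eq_top.mp (top_le_iff.mp (hf.2.ge.trans (map_le_range T H)))
  rw [← (comap_injective this).eq_iff, comap_top, comap_map_eq, sup_comm, SetLike.ext'_iff,
    normal_mul, ← ker_eq_bot_iff, ← map_subtype_inj,
    ker_domRestrict, subgroupOf_map_subtype, Subgroup.map_bot, coe_top] at hf
  exact isComplement'_of_disjoint_and_mul_eq_univ (disjoint_iff.2 hf.1) hf.2

end transfer

/-- Hall's version of Burnside's transfer theorem, inductive form. -/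
theorem hall_burnside_aux (n : ℕ) : ∀ (G : Type u) [Group G] [Finite G], Nat.card G ≤ n →
    ∀ (H : Subgroup G), Nat.Coprime (Nat.card H) H.index →
      normalizer (H : Set G) ≤ centralizer (H : Set G) →
      ∃ N : Subgroup G, N.Normal ∧ N.IsComplement' H := by
  induction n with
  | zero =>
    intro G _ _ hn
    exact absurd hn (by have := Nat.card_pos (α := G); omega)
  | succ n ih =>
    intro G _ _ hn H hHall hNC
    have hcomm : H ≤ centralizer (H : Set G) := le_normalizer.trans hNC
    have : IsMulCommutative H := le_centralizer_iff_isMulCommutative.mp hcomm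
    apply exists_normal_complement_of_fusion H hHall
    intro h hh g hg
    by_cases hC : centralizer {h} = (⊤ : Subgroup G)
    · have hgC : g ∈ centralizer {h} := hC ▸ mem_top g
      rw [mem_centralizer_singleton_iff] at hgC
      rw [mul_assoc, ← hgC, inv_mul_cancel_left]
    · set C := centralizer ({h} : Set G) with hCdef
      have hlt : Nat.card C < Nat.card G := by
        rcases lt_or_eq_of_le (Subgroup.card_le_card_group C) with h1 | h1
        · exact h1
        · exact absurd ((Subgroup.card_eq_iff_eq_top C).mp h1) hC
      have hHC : H ≤ C := by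
        intro y hy
        rw [hCdef, mem_centralizer_singleton_iff]
        exact (hcomm hy h hh).symm
      -- the conjugate
      have hh' : h ∈ cj g H := by
        rw [mem_cj]; exact hg
      have hH'C : cj g H ≤ C := by
        intro y hy
        rw [mem_cj] at hy
        rw [hCdef, mem_centralizer_singleton_iff]
        have h1 := hcomm hy (g⁻¹ * h * g) hg
        -- (g⁻¹ y g) commutes with g⁻¹ h g
        have h2 : g⁻¹ * (y * h) * g = g⁻¹ * (h * y) * g := by
          have : g⁻¹ * (y * h) * g = (g⁻¹ * y * g) * (g⁻¹ * h * g) := by group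
          rw [this, ← h1]; group
        exact mul_left_cancel (mul_right_cancel h2)
      -- apply the induction hypothesis in C
      have hcardHC : Nat.card (H.subgroupOf C) = Nat.card H :=
        Nat.card_congr (subgroupOfEquivOfLe hHC).toEquiv
      have hidx : (H.subgroupOf C).index ∣ H.index := by
        exact Dvd.intro _ (relIndex_mul_index hHC)
      have hcop : Nat.Coprime (Nat.card (H.subgroupOf C)) (H.subgroupOf C).index := by
        rw [hcardHC]
        exact Nat.Coprime.coprime_dvd_right hidx hHall
      have hNC' : normalizer ((H.subgroupOf C : Subgroup C) : Set C) ≤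
          centralizer ((H.subgroupOf C : Subgroup C) : Set C) := by
        intro x hx
        have hx' : (x : G) ∈ normalizer (H : Set G) := by
          have := (subgroupOf_normalizer_eq hHC) ▸ hx
          exact this
        have hxc := hNC hx'
        intro y hy
        apply Subtype.ext
        exact hxc (y : G) hy
      obtain ⟨K, hKn, hKc⟩ := ih C (by omega) (H.subgroupOf C) hcop hNC'
      have hKidx : K.index = Nat.card H := by
        rw [← hcardHC]; exact (card_eq_index_of_isComplement' K _ hKc).symm
      have hKcard : Nat.card K = (H.subgroupOf C).index := hKc.index_eq_card.symm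
      have hKcop : Nat.Coprime (Nat.card K) K.index := by
        rw [hKidx, hKcard, ← hcardHC]; exact hcop.symm
      have hcardH'C : Nat.card ((cj g H).subgroupOf C) = K.index := by
        rw [hKidx, Nat.card_congr (subgroupOfEquivOfLe hH'C).toEquiv, card_cj]
      have hKc' : IsComplement' K ((cj g H).subgroupOf C) :=
        isComplement'_of_card_eq_index K _ hKcop hcardH'C
      have hsolv : Group.IsSolvable (H.subgroupOf C) := by
        have : IsMulCommutative (H.subgroupOf C) :=
          ⟨⟨fun a b => Subtype.ext (Subtype.ext (hcomm b.2 a a.2))⟩⟩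
        open scoped IsMulCommutative in
        exact Group.isSolvable_of_comm (fun a b => mul_comm a b)
      obtain ⟨x, -, hx⟩ := sz_conj_of_solvable_compl K hKcop (H.subgroupOf C)
        ((cj g H).subgroupOf C) hsolv hKc hKc'
      have hxg : cj (x : G) H = cj g H := cj_subgroupOf_eq hHC hH'C x hx
      -- so g⁻¹ x normalises H
      have hnorm : g⁻¹ * (x : G) ∈ normalizer (H : Set G) := by
        rw [← cj_eq_self_iff, cj_mul, hxg, ← cj_mul, inv_mul_cancel]
        exact cj_eq_self_of_mem H.one_mem
      have hcen := hNC hnorm h hh
      have hxC : (x : G) * h = h * x := by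
        have : (x : G) ∈ centralizer ({h} : Set G) := x.2
        rwa [mem_centralizer_singleton_iff] at this
      -- conclude
      have h3 : g⁻¹ * h * g = (g⁻¹ * x) * h * (g⁻¹ * x)⁻¹ := by
        have : (g⁻¹ * (x : G)) * h * (g⁻¹ * x)⁻¹ = g⁻¹ * ((x : G) * h) * (x : G)⁻¹ * g := by group
        rw [this, hxC]; group
      rw [h3, ← hcen]; group

/-- **Hall's version of Burnside's transfer theorem**: a Hall subgroup `H` with
`N_G(H) ≤ C_G(H)` has a normal complement. -/
theorem hall_burnside {G : Type u} [Group G] [Finite G] (H : Subgroup G)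
    (hHall : Nat.Coprime (Nat.card H) H.index)
    (h : normalizer (H : Set G) ≤ centralizer (H : Set G)) :
    ∃ N : Subgroup G, N.Normal ∧ N.IsComplement' H :=
  hall_burnside_aux (Nat.card G) G le_rfl H hHall h

end Cfsg.Agent.Lib.Helper35
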