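import Mathlib
import Cfsg.Agent.Lib.Helper76.PSolvable
import Cfsg.Agent.Lib.Helper30.PPrimeCore
import Cfsg.Agent.Lib.Helper22.Fitting
import Cfsg.Agent.Lib.Helper46.CharP

set_option autoImplicit false

/-! The dual of Hall–Higman's Lemma 1.2.3: in a `p`-solvable group with `O_p = 1`, the
`p'`-core contains its centralizer; here in the form: an element of order `p` does not
centralize `O_{p'}`. -/

namespace Cfsg.Agent.Lib.Helper35.DualHH

open Cfsg Cfsg.Agent.Lib.Helper76 Cfsg.Agent.Lib.Helper30 Cfsg.Agent.Lib.Helper22

universe u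

/-- a `p`-solvable group with trivial `O_p` and central `O_{p'}` is a `p'`-group -/
theorem coprime_card_of_central {G : Type u} [Group G] [Finite G] {p : ℕ} [Fact p.Prime]
    (hG : IsPSolvable p G) (hO : pCore p G = ⊥)
    (hZ : pPrimeCore p G ≤ Subgroup.center G) : (Nat.card G).Coprime p := by
  set Z := pPrimeCore p G with hZdef
  haveI : Z.Normal := inferInstance
  have hGb : IsPSolvable p (G ⧸ Z) := isPSolvable_quotient Z hG
  have hOb : pPrimeCore p (G ⧸ Z) = ⊥ := pPrimeCore_quotient_eq_bot p
  have hsub : Subsingleton (G ⧸ Z) := by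
    by_contra hns
    rw [not_subsingleton_iff_nontrivial] at hns
    obtain ⟨N₀, hN₀n, hN₀ne, hN₀⟩ := exists_normal_of_isPSolvable hGb
    rcases hN₀ with hp | hp'
    · -- the `p`-case
      set M := N₀.comap (QuotientGroup.mk' Z) with hM
      haveI : M.Normal := hN₀n.comap _
      -- `M` is nilpotent
      let f : M →* N₀ := ((QuotientGroup.mk' Z).comp M.subtype).codRestrict N₀ (fun m => m.2)
      have hker : f.ker ≤ Subgroup.center M := by
        intro m hm
        have h1 : (QuotientGroup.mk' Z) (m : G) = 1 :=
          congrArg Subtype.val (MonoidHom.mem_ker.mp hm)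
        have h2 : (m : G) ∈ Z := by
          rwa [← QuotientGroup.ker_mk' Z, MonoidHom.mem_ker]
        rw [Subgroup.mem_center_iff]
        intro m'
        apply Subtype.ext
        have := Subgroup.mem_center_iff.mp (hZ h2) (m' : G)
        simpa using this
      haveI : Group.IsNilpotent N₀ := hp.isNilpotent
      have hMnil : Group.IsNilpotent M := Subgroup.isNilpotent_of_ker_le_center f hker
      obtain ⟨S⟩ : Nonempty (Sylow p M) := inferInstance
      haveI : (S : Subgroup M).Normal := inferInstance
      haveI : (S : Subgroup M).Characteristic := Sylow.characteristic_of_normal S inferInstance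
      have hSn : ((S : Subgroup M).map M.subtype).Normal :=
        ConjAct.normal_of_characteristic_of_normal
      have hSp : IsPGroup p ((S : Subgroup M).map M.subtype) := S.2.map _
      have hSle := le_pCore' hSn hSp
      rw [hO, le_bot_iff, Subgroup.map_eq_bot_iff_of_injective _ M.subtype_injective] at hSle
      have hMc : (Nat.card M).Coprime p := by
        rw [Nat.coprime_comm, Nat.Prime.coprime_iff_not_dvd (Fact.out : p.Prime)]
        intro hdvd
        exact S.ne_bot_of_dvd_card hdvd hSle
      have hMZ : M ≤ Z := le_pPrimeCore p M hMc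
      apply hN₀ne
      rw [eq_bot_iff]
      intro x hx
      obtain ⟨g, rfl⟩ := QuotientGroup.mk'_surjective Z x
      have hgM : g ∈ M := hx
      have : (QuotientGroup.mk' Z) g = 1 := by
        rw [← MonoidHom.mem_ker, QuotientGroup.ker_mk']
        exact hMZ hgM
      rw [this]; exact Subgroup.mem_bot.mpr rfl
    · -- the `p'`-case
      haveI := hN₀n
      have := le_pPrimeCore p N₀ hp'
      rw [hOb, le_bot_iff] at this
      exact hN₀ne this
  have hZtop : Z = ⊤ := by
    rw [eq_top_iff]
    intro g _
    have : (QuotientGroup.mk' Z) g = (QuotientGroup.mk' Z) 1 := Subsingleton.elim _ _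
    rw [map_one, ← MonoidHom.mem_ker, QuotientGroup.ker_mk'] at this
    exact this
  have h1 := pPrimeCore_card_coprime (G := G) p
  rw [← hZdef, hZtop, Subgroup.card_top] at h1
  exact h1

/-- an element of order `p` of a `p`-solvable group with `O_p = 1` does not centralize `O_{p'}` -/
theorem exists_not_commute {Y : Type u} [Group Y] [Finite Y] {p : ℕ} [Fact p.Prime]
    (hY : IsPSolvable p Y) (hO : pCore p Y = ⊥) (y : Y) (hy1 : y ≠ 1) (hyp : y ^ p = 1) :
    ∃ x₀ ∈ pPrimeCore p Y, x₀ * y * x₀⁻¹ ≠ y := by
  by_contra hcon
  push Not at hcon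
  set Q := pPrimeCore p Y with hQ
  haveI : Q.Normal := inferInstance
  set C := Subgroup.centralizer (Q : Set Y) with hC
  haveI : C.Normal := Subgroup.normal_centralizer
  have hyC : y ∈ C := by
    rw [hC, Subgroup.mem_centralizer_iff]
    intro x hx
    have := hcon x hx
    calc x * y = (x * y * x⁻¹) * x := by group
      _ = y * x := by rw [this]
  have hCs : IsPSolvable p C := isPSolvable_subgroup C hY
  have hCO : pCore p C = ⊥ := by
    haveI : (pCore p C).Characteristic := Cfsg.Agent.Lib.Helper46.pCore_characteristic p C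
    have hn : ((pCore p C).map C.subtype).Normal := ConjAct.normal_of_characteristic_of_normal
    have hp : IsPGroup p ((pCore p C).map C.subtype) := (pCore_isPGroup' p C).map _
    have := le_pCore' hn hp
    rwa [hO, le_bot_iff, Subgroup.map_eq_bot_iff_of_injective _ C.subtype_injective] at this
  have hCZ : pPrimeCore p C ≤ Subgroup.center C := by
    intro z hz
    have hzQ : (z : Y) ∈ Q := pPrimeCore_normal_le p C ⟨z, hz, rfl⟩
    rw [Subgroup.mem_center_iff]
    intro c
    apply Subtype.ext
    have hc : (c : Y) ∈ Subgroup.centralizer (Q : Set Y) := c.2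
    rw [Subgroup.mem_centralizer_iff] at hc
    have := hc (z : Y) hzQ
    simpa using this.symm
  have hcop := coprime_card_of_central hCs hCO hCZ
  have hord : orderOf y = p := orderOf_eq_prime hyp hy1
  have hdvd : p ∣ Nat.card C := by
    have := orderOf_dvd_natCard (⟨y, hyC⟩ : C)
    rwa [Subgroup.orderOf_mk, hord] at this
  exact (Nat.Prime.coprime_iff_not_dvd (Fact.out : p.Prime)).mp hcop.symm hdvd

end Cfsg.Agent.Lib.Helper35.DualHH
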