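import Mathlib

set_option autoImplicit false

/-! The hypothesis excluding `SL(2,3)`: for `p = 3` all `2`-subgroups are abelian. -/

namespace Cfsg.Agent.Lib.Helper35

universe u v

/-- when `p = 3`, all `2`-subgroups of `X` are abelian -/
def NoSL (p : ℕ) (X : Type*) [Group X] : Prop :=
  p = 3 → ∀ T : Subgroup X, IsPGroup 2 T → ∀ x ∈ T, ∀ y ∈ T, x * y = y * x

theorem noSL_of_ne_three {p : ℕ} (X : Type*) [Group X] (hp : p ≠ 3) : NoSL p X :=
  fun h => absurd h hp

theorem noSL_of_odd {p : ℕ} {X : Type*} [Group X] [Finite X] (hodd : Odd (Nat.card X)) :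
    NoSL p X := by
  intro _ T hT x hx y hy
  have : Fact (Nat.Prime 2) := ⟨Nat.prime_two⟩
  obtain ⟨n, hn⟩ := IsPGroup.iff_card.mp hT
  have hdvd : Nat.card T ∣ Nat.card X := Subgroup.card_subgroup_dvd_card T
  have hn0 : n = 0 := by
    by_contra h
    have h2 : 2 ∣ Nat.card X := by
      refine dvd_trans ?_ hdvd
      rw [hn]
      exact dvd_pow_self 2 h
    exact (Nat.not_even_iff_odd.mpr hodd) (even_iff_two_dvd.mpr h2)
  rw [hn0, pow_zero] at hn
  have hTbot : T = ⊥ := Subgroup.card_eq_one.mp hn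
  rw [hTbot, Subgroup.mem_bot] at hx hy
  rw [hx, hy]

theorem noSL_of_sylow {p : ℕ} {X : Type*} [Group X] [Finite X]
    (h : ∀ T : Sylow 2 X, IsMulCommutative T) : NoSL p X := by
  intro _ T hT x hx y hy
  have : Fact (Nat.Prime 2) := ⟨Nat.prime_two⟩
  obtain ⟨S, hS⟩ := hT.exists_le_sylow
  have hc := h S
  have := hc.is_comm.comm ⟨x, hS hx⟩ ⟨y, hS hy⟩
  exact congrArg Subtype.val this

theorem NoSL.subgroup {p : ℕ} {X : Type*} [Group X] (h : NoSL p X) (K : Subgroup X) :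
    NoSL p K := by
  intro hp T hT x hx y hy
  have h1 := h hp (T.map K.subtype) (hT.map _) (x : X) ⟨x, hx, rfl⟩ (y : X) ⟨y, hy, rfl⟩
  apply Subtype.ext
  simpa using h1

theorem NoSL.of_surjective {p : ℕ} {X : Type u} {Y : Type v} [Group X] [Finite X] [Group Y]
    (h : NoSL p X) (f : X →* Y) (hf : Function.Surjective f) : NoSL p Y := by
  intro hp T hT x hx y hy
  have : Fact (Nat.Prime 2) := ⟨Nat.prime_two⟩
  set T₁ := T.comap f with hT₁
  let g : T₁ →* T := f.subgroupComap T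
  have hg : Function.Surjective g := f.subgroupComap_surjective_of_surjective T hf
  haveI : Finite T := Finite.of_surjective g hg
  obtain ⟨S⟩ : Nonempty (Sylow 2 T₁) := inferInstance
  have h1 : ((S : Subgroup T₁).map g).index ∣ (S : Subgroup T₁).index := Subgroup.index_map_dvd _ hg
  have h2 : ((S : Subgroup T₁).map g).index ∣ Nat.card T := Subgroup.index_dvd_card _
  obtain ⟨n, hn⟩ := IsPGroup.iff_card.mp hT
  rw [hn] at h2
  obtain ⟨j, -, hj⟩ := (Nat.dvd_prime_pow Nat.prime_two).mp h2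
  have hj0 : j = 0 := by
    by_contra hne
    have h3 : 2 ∣ ((S : Subgroup T₁).map g).index := by rw [hj]; exact dvd_pow_self 2 hne
    exact S.not_dvd_index (dvd_trans h3 h1)
  rw [hj0, pow_zero] at hj
  have htop : (S : Subgroup T₁).map g = ⊤ := Subgroup.index_eq_one.mp hj
  have hsurj : ∀ t : T, ∃ s ∈ (S : Subgroup T₁), g s = t := by
    intro t
    have : t ∈ (S : Subgroup T₁).map g := by rw [htop]; exact Subgroup.mem_top t
    exact this
  obtain ⟨s₁, hs₁, hx'⟩ := hsurj ⟨x, hx⟩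
  obtain ⟨s₂, hs₂, hy'⟩ := hsurj ⟨y, hy⟩
  have hS2 : IsPGroup 2 ((S : Subgroup T₁).map T₁.subtype) := S.2.map _
  have hcomm := h hp _ hS2 (s₁ : X) ⟨s₁, hs₁, rfl⟩ (s₂ : X) ⟨s₂, hs₂, rfl⟩
  have hx'' : f (s₁ : X) = x := congrArg Subtype.val hx'
  have hy'' : f (s₂ : X) = y := congrArg Subtype.val hy'
  rw [← hx'', ← hy'', ← map_mul, ← map_mul, hcomm]

theorem NoSL.quotient {p : ℕ} {X : Type u} [Group X] [Finite X] (h : NoSL p X) (N : Subgroup X)
    [N.Normal] : NoSL p (X ⧸ N) :=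
  h.of_surjective (QuotientGroup.mk' N) (QuotientGroup.mk'_surjective N)

end Cfsg.Agent.Lib.Helper35
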