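import Mathlib
import Cfsg.Agent.Lib.Helper35.TwoGroupAut

set_option autoImplicit false

/-! Conjugation by an element of order prime to `6` is trivial on a `2`-group with a cyclic
subgroup of index at most two. -/

namespace Cfsg.Agent.Lib.Helper35.Quad2

variable {Y : Type*} [Group Y]

theorem conj_pow_mem (T : Subgroup Y) (y : Y) (hy : ∀ t ∈ T, y * t * y⁻¹ ∈ T) (k : ℕ) :
    ∀ t ∈ T, y ^ k * t * (y ^ k)⁻¹ ∈ T := by
  induction k with
  | zero => intro t ht; simpa using ht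
  | succ k ih =>
    intro t ht
    have : y ^ (k + 1) * t * (y ^ (k + 1))⁻¹ = y * (y ^ k * t * (y ^ k)⁻¹) * y⁻¹ := by
      rw [pow_succ']; group
    rw [this]
    exact hy _ (ih t ht)

theorem conj_inv_mem (T : Subgroup Y) (y : Y) (hy : ∀ t ∈ T, y * t * y⁻¹ ∈ T) (m : ℕ)
    (hm : 0 < m) (hym : y ^ m = 1) : ∀ t ∈ T, y⁻¹ * t * y ∈ T := by
  intro t ht
  have h1 : y⁻¹ = y ^ (m - 1) := by
    have : y ^ (m - 1) * y = 1 := by rw [← pow_succ, Nat.sub_add_cancel hm, hym]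
    exact (eq_inv_of_mul_eq_one_left this).symm
  have h2 := conj_pow_mem T y hy (m - 1) t ht
  rw [← h1, inv_inv] at h2
  exact h2

/-- the automorphism of `T` induced by a normalizing element -/
def conjAut (T : Subgroup Y) (y : Y) (hy : ∀ t ∈ T, y * t * y⁻¹ ∈ T)
    (hy' : ∀ t ∈ T, y⁻¹ * t * y ∈ T) : MulAut T where
  toFun t := ⟨y * t * y⁻¹, hy t t.2⟩
  invFun t := ⟨y⁻¹ * t * y, hy' t t.2⟩
  left_inv t := by apply Subtype.ext; simp only []; group
  right_inv t := by apply Subtype.ext; simp only []; group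
  map_mul' s t := by apply Subtype.ext; simp only [Subgroup.coe_mul]; group

theorem conjAut_pow (T : Subgroup Y) (y : Y) (hy : ∀ t ∈ T, y * t * y⁻¹ ∈ T)
    (hy' : ∀ t ∈ T, y⁻¹ * t * y ∈ T) (k : ℕ) (t : T) :
    (((conjAut T y hy hy') ^ k) t : Y) = y ^ k * t * (y ^ k)⁻¹ := by
  induction k with
  | zero => simp
  | succ k ih =>
    rw [pow_succ', MulAut.mul_apply]
    show y * ((conjAut T y hy hy' ^ k) t : Y) * y⁻¹ = _
    rw [ih, pow_succ']; group

theorem conj_trivial_of_cyclic_index_two (T : Subgroup Y) [Finite T] (hT : IsPGroup 2 T)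
    (c : T) (hc : (Subgroup.zpowers c).index ≤ 2) (y : Y) (hy : ∀ t ∈ T, y * t * y⁻¹ ∈ T)
    (m : ℕ) (hym : y ^ m = 1) (hm2 : m.Coprime 2) (hm3 : m.Coprime 3) :
    ∀ t ∈ T, y * t * y⁻¹ = t := by
  have hm : 0 < m := by
    rcases Nat.eq_zero_or_pos m with h | h
    · rw [h] at hm2; simp at hm2
    · exact h
  have hy' := conj_inv_mem T y hy m hm hym
  set α := conjAut T y hy hy' with hα
  have hαm : α ^ m = 1 := by
    ext t
    rw [conjAut_pow, hym]; simp
  have h1 := mulAut_eq_one_of_cyclic_index_two hT c hc α m hαm hm2 hm3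
  intro t ht
  have h2 : α ⟨t, ht⟩ = ⟨t, ht⟩ := by rw [h1]; rfl
  exact congrArg Subtype.val h2

end Cfsg.Agent.Lib.Helper35.Quad2
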