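import Mathlib

set_option autoImplicit false

/-! Elementary facts on `2 × 2` matrices used for quadratic action. -/

namespace Cfsg.Agent.Lib.Helper35.Quad2

open Matrix

variable {K : Type*} [Field K]

/-- a matrix is scalar -/
def IsScalar (n : Matrix (Fin 2) (Fin 2) K) : Prop := ∃ s : K, n = s • (1 : Matrix (Fin 2) (Fin 2) K)

theorem isScalar_iff (n : Matrix (Fin 2) (Fin 2) K) :
    IsScalar n ↔ n 0 1 = 0 ∧ n 1 0 = 0 ∧ n 0 0 = n 1 1 := by
  constructor
  · rintro ⟨s, rfl⟩
    simp
  · rintro ⟨h1, h2, h3⟩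
    refine ⟨n 0 0, ?_⟩
    ext i j
    fin_cases i <;> fin_cases j <;> simp [h1, h2, h3]

/-- F1: the only involution of determinant one is `-1`. -/
theorem eq_one_or_neg_one_of_sq (h2 : (2 : K) ≠ 0) (t : Matrix (Fin 2) (Fin 2) K)
    (ht : t * t = 1) (hd : t.det = 1) : t = 1 ∨ t = -1 := by
  have e00 := congrFun (congrFun ht 0) 0
  have e01 := congrFun (congrFun ht 0) 1
  have e10 := congrFun (congrFun ht 1) 0
  have e11 := congrFun (congrFun ht 1) 1
  simp [Matrix.mul_apply, Fin.sum_univ_two] at e00 e01 e10 e11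
  rw [Matrix.det_fin_two] at hd
  by_cases hs : t 0 0 + t 1 1 = 0
  · exfalso
    have hd' : t 1 1 = - t 0 0 := by linear_combination hs
    rw [hd'] at hd
    apply h2
    linear_combination -e00 - hd
  · have hb : t 0 1 = 0 := by
      have : t 0 1 * (t 0 0 + t 1 1) = 0 := by linear_combination e01
      rcases mul_eq_zero.mp this with h | h
      · exact h
      · exact absurd h hs
    have hc : t 1 0 = 0 := by
      have : t 1 0 * (t 0 0 + t 1 1) = 0 := by linear_combination e10
      rcases mul_eq_zero.mp this with h | h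
      · exact h
      · exact absurd h hs
    rw [hb, hc] at hd e00 e11
    have ha : t 0 0 = 1 ∨ t 0 0 = -1 := by
      have : (t 0 0 - 1) * (t 0 0 + 1) = 0 := by linear_combination e00
      rcases mul_eq_zero.mp this with h | h
      · left; linear_combination h
      · right; linear_combination h
    rcases ha with ha | ha
    · left
      have hdd : t 1 1 = 1 := by rw [ha] at hd; linear_combination hd
      ext i j
      fin_cases i <;> fin_cases j <;> simp [ha, hb, hc, hdd]
    · right
      have hdd : t 1 1 = -1 := by rw [ha] at hd; linear_combination -hd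
      ext i j
      fin_cases i <;> fin_cases j <;> simp [ha, hb, hc, hdd]

/-- F3: the centralizer of a non-scalar matrix `n` is `K[n]`. -/
theorem exists_eq_add_of_commute (n m : Matrix (Fin 2) (Fin 2) K) (hn : ¬ IsScalar n)
    (hc : m * n = n * m) :
    ∃ α β : K, m = α • (1 : Matrix (Fin 2) (Fin 2) K) + β • n := by
  have e00 := congrFun (congrFun hc 0) 0
  have e01 := congrFun (congrFun hc 0) 1
  have e10 := congrFun (congrFun hc 1) 0
  simp [Matrix.mul_apply, Fin.sum_univ_two] at e00 e01 e10
  rw [isScalar_iff] at hn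
  by_cases hb : n 0 1 = 0
  · by_cases hcc : n 1 0 = 0
    · have had : n 0 0 - n 1 1 ≠ 0 := by
        intro h
        exact hn ⟨hb, hcc, by linear_combination h⟩
      have hf : m 0 1 = 0 := by
        have : m 0 1 * (n 0 0 - n 1 1) = 0 := by rw [hb] at e01; linear_combination -e01
        rcases mul_eq_zero.mp this with h | h
        · exact h
        · exact absurd h had
      have hg : m 1 0 = 0 := by
        have : m 1 0 * (n 0 0 - n 1 1) = 0 := by rw [hcc] at e10; linear_combination e10
        rcases mul_eq_zero.mp this with h | h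
        · exact h
        · exact absurd h had
      obtain ⟨β, hβ⟩ : ∃ β : K, β * (n 0 0 - n 1 1) = m 0 0 - m 1 1 :=
        ⟨(m 0 0 - m 1 1) / (n 0 0 - n 1 1), div_mul_cancel₀ _ had⟩
      refine ⟨m 0 0 - β * n 0 0, β, ?_⟩
      ext i j
      fin_cases i <;> fin_cases j <;> simp [hb, hcc, hf, hg]
      linear_combination hβ
    · obtain ⟨β, hβ⟩ : ∃ β : K, β * n 1 0 = m 1 0 := ⟨m 1 0 / n 1 0, div_mul_cancel₀ _ hcc⟩
      refine ⟨m 0 0 - β * n 0 0, β, ?_⟩
      ext i j
      fin_cases i <;> fin_cases j <;> simp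
      · apply mul_right_cancel₀ hcc
        linear_combination e00 - n 0 1 * hβ
      · exact hβ.symm
      · apply mul_right_cancel₀ hcc
        linear_combination e10 + (n 0 0 - n 1 1) * hβ
  · obtain ⟨β, hβ⟩ : ∃ β : K, β * n 0 1 = m 0 1 := ⟨m 0 1 / n 0 1, div_mul_cancel₀ _ hb⟩
    refine ⟨m 0 0 - β * n 0 0, β, ?_⟩
    ext i j
    fin_cases i <;> fin_cases j <;> simp
    · exact hβ.symm
    · apply mul_right_cancel₀ hb
      linear_combination -e00 - n 1 0 * hβ
    · apply mul_right_cancel₀ hb
      linear_combination -e01 + (n 0 0 - n 1 1) * hβ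

/-- iterated conjugation of `n` when one conjugate lies in `K + K n` -/
theorem conj_pow_eq (g gi n : Matrix (Fin 2) (Fin 2) K) (hg : g * gi = 1) (α β : K)
    (h : g * n * gi = α • (1 : Matrix (Fin 2) (Fin 2) K) + β • n) (k : ℕ) :
    g ^ k * n * gi ^ k =
      (α * ∑ i ∈ Finset.range k, β ^ i) • (1 : Matrix (Fin 2) (Fin 2) K) + β ^ k • n := by
  induction k with
  | zero => simp
  | succ k ih =>
    have e1 : g ^ (k + 1) * n * gi ^ (k + 1) = g * (g ^ k * n * gi ^ k) * gi := by
      rw [pow_succ' g k, pow_succ gi k]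
      simp only [mul_assoc]
    rw [e1, ih, mul_add, add_mul, Matrix.mul_smul, Matrix.smul_mul, Matrix.mul_smul,
      Matrix.smul_mul, mul_one, hg, h, Finset.sum_range_succ, smul_add, smul_smul, smul_smul,
      pow_succ]
    rw [← add_assoc, ← add_smul]
    congr 2
    ring

/-- F4: an element of order dividing `p` (in characteristic `p ≠ 2`) whose conjugation maps the
non-scalar matrix `n` into `K + K n` centralizes `n`. -/
theorem conj_eq_self {p : ℕ} [Fact p.Prime] [CharP K p] (h2 : (2 : K) ≠ 0)
    (g gi n : Matrix (Fin 2) (Fin 2) K) (hg : g * gi = 1) (hgp : g ^ p = 1)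
    (hn : ¬ IsScalar n) (α β : K)
    (h : g * n * gi = α • (1 : Matrix (Fin 2) (Fin 2) K) + β • n) : g * n * gi = n := by
  have hgi : gi * g = 1 := mul_eq_one_comm.mp hg
  have hgip : gi ^ p = 1 := by
    have hcm : Commute g gi := by unfold Commute SemiconjBy; rw [hg, hgi]
    have : gi ^ p = (g ^ p) * gi ^ p := by rw [hgp, one_mul]
    rw [this, ← hcm.mul_pow, hg, one_pow]
  have hk := conj_pow_eq g gi n hg α β h p
  rw [hgp, hgip, one_mul, mul_one] at hk
  -- `β ^ p = 1`
  have hβp : β ^ p = 1 := by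
    by_contra hne
    apply hn
    have hne' : 1 - β ^ p ≠ 0 := sub_ne_zero.mpr (Ne.symm hne)
    refine ⟨(α * ∑ i ∈ Finset.range p, β ^ i) / (1 - β ^ p), ?_⟩
    have h3 : (1 - β ^ p) • n =
        (α * ∑ i ∈ Finset.range p, β ^ i) • (1 : Matrix (Fin 2) (Fin 2) K) := by
      rw [sub_smul, one_smul]
      nth_rewrite 1 [hk]
      abel
    have h4 : n = (1 - β ^ p)⁻¹ • ((1 - β ^ p) • n) := by
      rw [smul_smul, inv_mul_cancel₀ hne', one_smul]
    rw [h4, h3, smul_smul, div_eq_inv_mul]
  have hβ : β = 1 := by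
    have h5 : (β - 1) ^ p = 0 := by
      rw [sub_pow_char β 1, hβp, one_pow, sub_self]
    have := pow_eq_zero_iff (Fact.out : p.Prime).ne_zero |>.mp h5
    linear_combination this
  rw [hβ, one_smul] at h
  -- trace argument
  have htr : Matrix.trace (g * n * gi) = Matrix.trace n := by
    rw [Matrix.trace_mul_comm, ← mul_assoc, hgi, one_mul]
  rw [h, Matrix.trace_add, Matrix.trace_smul, Matrix.trace_one] at htr
  simp only [Fintype.card_fin, smul_eq_mul] at htr
  have hα : α = 0 := by
    have h6 : α * 2 = 0 := by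
      have : α * ((2 : ℕ) : K) = 0 := by linear_combination htr
      simpa using this
    rcases mul_eq_zero.mp h6 with h7 | h7
    · exact h7
    · exact absurd h7 h2
  rw [h, hα, zero_smul, zero_add]

end Cfsg.Agent.Lib.Helper35.Quad2
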