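import Mathlib
import Cfsg.Agent.Lib.Helper35.Quad2Mat
import Cfsg.Agent.Lib.Helper35.Quad2Aut
import Cfsg.Agent.Lib.Helper53.UniqInv2
import Cfsg.Agent.Lib.Helper24.SylowInv
import Cfsg.Agent.Lib.Helper11.Repl

set_option autoImplicit false

/-! The two-dimensional core of `p`-stability: a unipotent element of order `p` normalizing a
`p'`-subgroup `N` of `SL₂(K)` (characteristic `p` odd) and not centralizing it forces `p = 3`
and a nonabelian `2`-subgroup with unique involution. -/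

namespace Cfsg.Agent.Lib.Helper35.Quad2

open Matrix

universe u v

variable {K : Type v} [Field K]

/-- the data of an `x`-invariant subgroup of `N` on which `x` acts nontrivially modulo `ker φ` -/
def ActsNontriv {X : Type u} [Group X] (φ : X →* Matrix (Fin 2) (Fin 2) K) (N : Subgroup X) (x : X)
    (R : Subgroup X) : Prop :=
  R ≤ N ∧ (∀ n ∈ R, x * n * x⁻¹ ∈ R) ∧ ∃ n ∈ R, φ (x * n * x⁻¹) ≠ φ n

section
variable {X : Type u} [Group X] (φ : X →* Matrix (Fin 2) (Fin 2) K)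

theorem phi_conj (x n : X) : φ (x * n * x⁻¹) = φ x * φ n * φ x⁻¹ := by
  rw [map_mul, map_mul]

theorem phi_mul_inv (x : X) : φ x * φ x⁻¹ = 1 := by
  rw [← map_mul, mul_inv_cancel, map_one]

/-- the fixed subgroup of `x` on `R` modulo `ker φ` -/
def fixSub (R : Subgroup X) (x : X) : Subgroup R where
  carrier := {n | φ (x * (n : X) * x⁻¹) = φ (n : X)}
  one_mem' := by
    show φ (x * ((1 : R) : X) * x⁻¹) = φ ((1 : R) : X)
    rw [Subgroup.coe_one, mul_one, mul_inv_cancel]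
  mul_mem' := by
    intro a b ha hb
    change φ _ = φ _ at ha hb ⊢
    have : x * ((a * b : R) : X) * x⁻¹ = (x * (a : X) * x⁻¹) * (x * (b : X) * x⁻¹) := by
      simp only [Subgroup.coe_mul]; group
    rw [this, map_mul, ha, hb, Subgroup.coe_mul, map_mul]
  inv_mem' := by
    intro a ha
    change φ _ = φ _ at ha ⊢
    have h1 : φ (x * ((a⁻¹ : R) : X) * x⁻¹) * φ (x * (a : X) * x⁻¹) = 1 := by
      rw [← map_mul]
      have : x * ((a⁻¹ : R) : X) * x⁻¹ * (x * (a : X) * x⁻¹) = 1 := by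
        simp only [Subgroup.coe_inv]; group
      rw [this, map_one]
    have h2 : φ ((a⁻¹ : R) : X) * φ (a : X) = 1 := by
      rw [← map_mul, Subgroup.coe_inv, inv_mul_cancel, map_one]
    rw [ha] at h1
    have h3 : φ (a : X) * φ ((a⁻¹ : R) : X) = 1 := by
      rw [← map_mul, Subgroup.coe_inv, mul_inv_cancel, map_one]
    calc φ (x * ((a⁻¹ : R) : X) * x⁻¹)
        = φ (x * ((a⁻¹ : R) : X) * x⁻¹) * (φ (a : X) * φ ((a⁻¹ : R) : X)) := by rw [h3, mul_one]
      _ = (φ (x * ((a⁻¹ : R) : X) * x⁻¹) * φ (a : X)) * φ ((a⁻¹ : R) : X) :=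
        (mul_assoc _ _ _).symm
      _ = φ ((a⁻¹ : R) : X) := by rw [h1, one_mul]

theorem mem_fixSub (R : Subgroup X) (x : X) (n : R) :
    n ∈ fixSub φ R x ↔ φ (x * (n : X) * x⁻¹) = φ (n : X) := Iff.rfl

end

/-- a minimal `x`-invariant subgroup with nontrivial action is of prime power order -/
theorem isPGroup_of_minimal {X : Type u} [Group X] [Finite X] {p : ℕ} [Fact p.Prime]
    (φ : X →* Matrix (Fin 2) (Fin 2) K) (N : Subgroup X) (hN : (Nat.card N).Coprime p)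
    (x : X) (hx : x ^ p = 1) (R : Subgroup X) (hR : ActsNontriv φ N x R)
    (hmin : ∀ R' : Subgroup X, ActsNontriv φ N x R' → Nat.card R ≤ Nat.card R') :
    ∃ r : ℕ, r.Prime ∧ IsPGroup r R := by
  obtain ⟨hRN, hRx, n₀, hn₀R, hn₀⟩ := hR
  set C := fixSub φ R x with hC
  have hCtop : C ≠ ⊤ := by
    intro h
    have : (⟨n₀, hn₀R⟩ : R) ∈ C := by rw [h]; exact Subgroup.mem_top _
    exact hn₀ ((mem_fixSub φ R x _).mp this)
  have hidx : C.index ≠ 1 := fun h => hCtop (Subgroup.index_eq_one.mp h)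
  set r := C.index.minFac with hr
  have hrp : r.Prime := Nat.minFac_prime hidx
  have : Fact r.Prime := ⟨hrp⟩
  have hrd : r ∣ C.index := Nat.minFac_dvd _
  refine ⟨r, hrp, ?_⟩
  -- an invariant Sylow subgroup
  have hxn : x ∈ Subgroup.normalizer (R : Set X) :=
    Cfsg.Agent.Lib.Helper11.mem_normalizer_of_conj_mem R x hRx
  have hAK : Subgroup.zpowers x ≤ Subgroup.normalizer (R : Set X) :=
    Subgroup.zpowers_le.mpr hxn
  have hcardA : Nat.card (Subgroup.zpowers x) ∣ p := by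
    rw [Nat.card_zpowers]; exact orderOf_dvd_of_pow_eq_one hx
  have hcardR : (Nat.card R).Coprime p :=
    Nat.Coprime.coprime_dvd_left (Subgroup.card_dvd_of_le hRN) hN
  have hcop : (Nat.card (Subgroup.zpowers x)).Coprime (Nat.card R) :=
    Nat.Coprime.coprime_dvd_left hcardA hcardR.symm
  have hsolv : Group.IsSolvable (Subgroup.zpowers x) := by
    apply Group.isSolvable_of_comm
    rintro ⟨a, ha⟩ ⟨b, hb⟩
    obtain ⟨i, rfl⟩ := Subgroup.mem_zpowers_iff.mp ha
    obtain ⟨j, rfl⟩ := Subgroup.mem_zpowers_iff.mp hb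
    apply Subtype.ext
    simp only [Subgroup.coe_mul]
    rw [← _root_.zpow_add, ← _root_.zpow_add, add_comm]
  obtain ⟨P, hP⟩ := Cfsg.Agent.Lib.Helper24.exists_invariant_sylow (p := r)
    (Subgroup.zpowers x) R hAK hcop (Or.inl hsolv)
  -- `P` is not contained in `C`
  have hPC : ¬ (P : Subgroup R) ≤ C := by
    intro hle
    have h1 : Nat.card (P : Subgroup R) ∣ Nat.card C := Subgroup.card_dvd_of_le hle
    have h2 : Nat.card C * C.index = Nat.card R := C.card_mul_index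
    have h3 : Nat.card (P : Subgroup R) = r ^ (Nat.card R).factorization r :=
      P.card_eq_multiplicity
    have h4 : r ^ ((Nat.card R).factorization r + 1) ∣ Nat.card R := by
      rw [pow_succ, ← h3, ← h2]
      exact mul_dvd_mul h1 hrd
    exact Nat.pow_succ_factorization_not_dvd Nat.card_pos.ne' hrp h4
  obtain ⟨n₁, hn₁P, hn₁C⟩ := SetLike.not_le_iff_exists.mp hPC
  set R' := (P : Subgroup R).map R.subtype with hR'
  have hR'R : R' ≤ R := Subgroup.map_subtype_le _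
  have hxR' : x ∈ Subgroup.normalizer (R' : Set X) := hP (Subgroup.mem_zpowers x)
  have hact : ActsNontriv φ N x R' := by
    refine ⟨hR'R.trans hRN, ?_, (n₁ : X), ⟨n₁, hn₁P, rfl⟩, ?_⟩
    · intro n hn
      exact (Subgroup.mem_normalizer_iff.mp hxR' n).mp hn
    · intro h
      exact hn₁C ((mem_fixSub φ R x n₁).mpr h)
  have hcard := hmin R' hact
  have hcardR' : Nat.card R' = Nat.card (P : Subgroup R) :=
    Subgroup.card_map_of_injective R.subtype_injective
  have hPtop : (P : Subgroup R) = ⊤ := by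
    apply Subgroup.eq_top_of_le_card
    rw [← hcardR']
    exact hcard
  intro n
  have hnP : n ∈ (P : Subgroup R) := by rw [hPtop]; exact Subgroup.mem_top _
  obtain ⟨k, hk⟩ := P.isPGroup' ⟨n, hnP⟩
  refine ⟨k, ?_⟩
  have := congrArg Subtype.val hk
  simpa using this


theorem two_ne_zero_of_charP {p : ℕ} [Fact p.Prime] [CharP K p] (hp2 : p ≠ 2) : (2 : K) ≠ 0 := by
  intro h
  have h1 : ((2 : ℕ) : K) = 0 := by simpa using h
  rw [CharP.cast_eq_zero_iff K p 2] at h1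
  exact hp2 ((Nat.prime_dvd_prime_iff_eq (Fact.out : p.Prime) Nat.prime_two).mp h1)

theorem neg_one_ne_one (h2 : (2 : K) ≠ 0) : (-1 : Matrix (Fin 2) (Fin 2) K) ≠ 1 := by
  intro h
  have := congrFun (congrFun h 0) 0
  simp at this
  apply h2
  linear_combination -this

/-- The two-dimensional core. -/
theorem dim2_core {X : Type u} [Group X] [Finite X] {p : ℕ} [Fact p.Prime] [CharP K p]
    (hp2 : p ≠ 2) (φ : X →* Matrix (Fin 2) (Fin 2) K) (N : Subgroup X) [N.Normal]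
    (hN : (Nat.card N).Coprime p) (hdet : ∀ n ∈ N, (φ n).det = 1) (x : X) (hx : x ^ p = 1)
    (hnt : ∃ n ∈ N, φ (x * n * x⁻¹) ≠ φ n) :
    p = 3 ∧ ∃ R : Subgroup X, ActsNontriv φ N x R ∧ IsPGroup 2 R ∧
      (∃ n ∈ R, ∃ m ∈ R, φ (n * m) ≠ φ (m * n)) ∧ (∃ z ∈ R, φ z = -1) ∧
      (∀ t ∈ R, φ t * φ t = 1 → φ t = 1 ∨ φ t = -1) := by
  classical
  have h2 : (2 : K) ≠ 0 := two_ne_zero_of_charP hp2
  have hPN : ActsNontriv φ N x N :=
    ⟨le_rfl, fun n hn => (inferInstance : N.Normal).conj_mem n hn x, hnt⟩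
  have hex : ∃ k, ∃ R : Subgroup X, ActsNontriv φ N x R ∧ Nat.card R = k := ⟨_, N, hPN, rfl⟩
  obtain ⟨R, hPR, hRk⟩ := Nat.find_spec hex
  have hmin : ∀ R' : Subgroup X, ActsNontriv φ N x R' → Nat.card R ≤ Nat.card R' := by
    intro R' h'
    rw [hRk]
    exact Nat.find_min' hex ⟨R', h', rfl⟩
  obtain ⟨r, hrp, hRr⟩ := isPGroup_of_minimal φ N hN x hx R hPR hmin
  have : Fact r.Prime := ⟨hrp⟩
  obtain ⟨hRN, hRx, n₀, hn₀R, hn₀⟩ := hPR
  have hgp : φ x ^ p = 1 := by rw [← map_pow, hx, map_one]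
  -- nonabelian image
  have hna : ∃ n ∈ R, ∃ m ∈ R, φ (n * m) ≠ φ (m * n) := by
    by_contra hcon
    push Not at hcon
    have hν : ¬ IsScalar (φ n₀) := by
      rintro ⟨s, hs⟩
      apply hn₀
      rw [phi_conj, hs, Matrix.mul_smul, Matrix.smul_mul, mul_one, phi_mul_inv]
    have hc : φ (x * n₀ * x⁻¹) * φ n₀ = φ n₀ * φ (x * n₀ * x⁻¹) := by
      rw [← map_mul, ← map_mul]
      exact hcon _ (hRx n₀ hn₀R) _ hn₀R
    obtain ⟨α, β, hαβ⟩ := exists_eq_add_of_commute (φ n₀) (φ (x * n₀ * x⁻¹)) hν hc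
    rw [phi_conj] at hαβ
    have := conj_eq_self (p := p) h2 (φ x) (φ x⁻¹) (φ n₀) (phi_mul_inv φ x) hgp hν α β hαβ
    apply hn₀
    rw [phi_conj, this]
  -- the image group
  set ψ : X →* (Matrix (Fin 2) (Fin 2) K)ˣ := φ.toHomUnits with hψ
  have hψv : ∀ g : X, ((ψ g : (Matrix (Fin 2) (Fin 2) K)ˣ) : Matrix (Fin 2) (Fin 2) K) = φ g :=
    fun g => rfl
  set Rb : Subgroup (Matrix (Fin 2) (Fin 2) K)ˣ := R.map ψ with hRb
  have : Finite Rb := Finite.of_surjective (ψ.subgroupMap R) (ψ.subgroupMap_surjective R)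
  have hRbr : IsPGroup r Rb := hRr.map ψ
  obtain ⟨n₁, hn₁, m₁, hm₁, hnm⟩ := hna
  have hnab : ∃ s t : Rb, s * t ≠ t * s := by
    refine ⟨⟨ψ n₁, Subgroup.mem_map_of_mem ψ hn₁⟩, ⟨ψ m₁, Subgroup.mem_map_of_mem ψ hm₁⟩, ?_⟩
    intro h
    apply hnm
    have h1 := congrArg (fun t : Rb => ((t : (Matrix (Fin 2) (Fin 2) K)ˣ) : Matrix (Fin 2) (Fin 2) K)) h
    simp only [Subgroup.coe_mul, Units.val_mul, hψv] at h1
    rw [map_mul, map_mul]
    exact h1
  have : Nontrivial Rb := by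
    obtain ⟨s, t, hst⟩ := hnab
    refine ⟨⟨s * t, t * s, hst⟩⟩
  have hcen : Nontrivial (Subgroup.center Rb) := hRbr.center_nontrivial
  obtain ⟨⟨z, hzc⟩, hz1⟩ := exists_ne (1 : Subgroup.center Rb)
  have hz1' : z ≠ 1 := fun h => hz1 (Subtype.ext h)
  obtain ⟨nz, hnzR, hnz⟩ := z.2
  -- `φ nz` commutes with `φ m` for `m ∈ R`
  have hzcomm : ∀ m ∈ R, φ m * φ nz = φ nz * φ m := by
    intro m hm
    have h1 := Subgroup.mem_center_iff.mp hzc ⟨ψ m, Subgroup.mem_map_of_mem ψ hm⟩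
    have h3 := congrArg (fun t : Rb => ((t : (Matrix (Fin 2) (Fin 2) K)ˣ) : Matrix (Fin 2) (Fin 2) K)) h1
    simp only [Subgroup.coe_mul, Units.val_mul, hψv, ← hnz] at h3
    exact h3
  have hζs : IsScalar (φ nz) := by
    by_contra hns
    apply hnm
    obtain ⟨α, β, h1⟩ := exists_eq_add_of_commute (φ nz) (φ n₁) hns (hzcomm n₁ hn₁)
    obtain ⟨α', β', h2'⟩ := exists_eq_add_of_commute (φ nz) (φ m₁) hns (hzcomm m₁ hm₁)
    rw [map_mul, map_mul, h1, h2']
    simp only [add_mul, mul_add, Matrix.smul_mul, Matrix.mul_smul, one_mul, mul_one, smul_smul]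
    rw [mul_comm α' α, mul_comm β' α, mul_comm α' β, mul_comm β' β]
    abel
  obtain ⟨s, hs⟩ := hζs
  have hdz : (φ nz).det = 1 := hdet nz (hRN hnzR)
  rw [hs, Matrix.det_smul, Matrix.det_one, mul_one, Fintype.card_fin] at hdz
  have hs' : s = 1 ∨ s = -1 := by
    have : (s - 1) * (s + 1) = 0 := by linear_combination hdz
    rcases mul_eq_zero.mp this with h | h
    · left; linear_combination h
    · right; linear_combination h
  have hφz : φ nz = -1 := by
    rcases hs' with h | h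
    · exfalso
      apply hz1'
      apply Subtype.ext
      apply Units.ext
      rw [← hnz, hψv, hs, h, one_smul]
      rfl
    · rw [hs, h, neg_one_smul]
  -- `r = 2`
  have hr2 : r = 2 := by
    by_contra hr
    obtain ⟨k, hk⟩ := hRr ⟨nz, hnzR⟩
    have h1 : nz ^ (r ^ k) = 1 := by
      have := congrArg Subtype.val hk
      simpa using this
    have h3 : φ nz ^ (r ^ k) = 1 := by rw [← map_pow, h1, map_one]
    rw [hφz] at h3
    have hodd : Odd (r ^ k) := (hrp.odd_of_ne_two hr).pow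
    rw [hodd.neg_one_pow] at h3
    exact neg_one_ne_one h2 h3
  subst hr2
  have hU : ∀ t ∈ R, φ t * φ t = 1 → φ t = 1 ∨ φ t = -1 := fun t ht h =>
    eq_one_or_neg_one_of_sq h2 (φ t) h (hdet t (hRN ht))
  refine ⟨?_, R, ⟨hRN, hRx, n₀, hn₀R, hn₀⟩, hRr, ⟨n₁, hn₁, m₁, hm₁, hnm⟩, ⟨nz, hnzR, hφz⟩, hU⟩
  -- `p = 3`
  by_contra hp3
  set z' : Rb := ⟨ψ nz, Subgroup.mem_map_of_mem ψ hnzR⟩ with hz'
  have hz'ne : z' ≠ 1 := by
    intro h
    have h1 := congrArg (fun t : Rb => ((t : (Matrix (Fin 2) (Fin 2) K)ˣ) : Matrix (Fin 2) (Fin 2) K)) h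
    simp only [hz', hψv, hφz] at h1
    exact neg_one_ne_one h2 h1
  have hz'2 : z' ^ 2 = 1 := by
    apply Subtype.ext
    apply Units.ext
    simp only [hz', Subgroup.coe_pow, Units.val_pow_eq_pow_val, hψv, hφz]
    simp
  have hordz : orderOf z' = 2 := orderOf_eq_prime hz'2 hz'ne
  have huniq : ∀ t : Rb, orderOf t = 2 → t = z' := by
    intro t ht
    obtain ⟨nt, hntR, hnt⟩ := t.2
    have ht2 : t ^ 2 = 1 := by
      have := pow_orderOf_eq_one t
      rwa [ht] at this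
    have h1 := congrArg (fun t : Rb => ((t : (Matrix (Fin 2) (Fin 2) K)ˣ) : Matrix (Fin 2) (Fin 2) K)) ht2
    simp only [Subgroup.coe_pow, Units.val_pow_eq_pow_val, ← hnt, hψv, Subgroup.coe_one,
      Units.val_one] at h1
    rw [pow_two] at h1
    rcases hU nt hntR h1 with h | h
    · exfalso
      have : t = 1 := by
        apply Subtype.ext
        apply Units.ext
        rw [← hnt, hψv, h]; rfl
      rw [this, orderOf_one] at ht
      norm_num at ht
    · apply Subtype.ext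
      apply Units.ext
      rw [← hnt, hψv, h, hz', hψv, hφz]
  obtain ⟨c, hc⟩ := Cfsg.Agent.Lib.Helper53.ui_exists_cyclic_index_two hRbr hordz huniq hnab
  have hy : ∀ t ∈ Rb, ψ x * t * (ψ x)⁻¹ ∈ Rb := by
    rintro _ ⟨n, hn, rfl⟩
    refine ⟨x * n * x⁻¹, hRx n hn, ?_⟩
    rw [map_mul, map_mul, map_inv]
  have hyp : ψ x ^ p = 1 := by rw [← map_pow, hx, map_one]
  have hpc2 : p.Coprime 2 := (Nat.coprime_primes (Fact.out : p.Prime) Nat.prime_two).mpr hp2
  have hpc3 : p.Coprime 3 := (Nat.coprime_primes (Fact.out : p.Prime) Nat.prime_three).mpr hp3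
  have htriv := conj_trivial_of_cyclic_index_two Rb hRbr c (le_of_eq hc) (ψ x) hy p hyp hpc2 hpc3
    (ψ n₀) (Subgroup.mem_map_of_mem ψ hn₀R)
  apply hn₀
  have h1 := congrArg (fun t : (Matrix (Fin 2) (Fin 2) K)ˣ => (t : Matrix (Fin 2) (Fin 2) K)) htriv
  simp only [Units.val_mul, hψv] at h1
  rw [phi_conj]
  have h4 : ((ψ x)⁻¹ : (Matrix (Fin 2) (Fin 2) K)ˣ) = ψ x⁻¹ := (map_inv ψ x).symm
  rw [h4, hψv] at h1
  exact h1

end Cfsg.Agent.Lib.Helper35.Quad2
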