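import Mathlib

set_option autoImplicit false

/-! Ring identities for two square-zero elements. -/

namespace Cfsg.Agent.Lib.Helper35.QuadAlg

variable {E : Type*} [Ring E] (A B : E)

theorem one_add_mul_one_sub (hA : A * A = 0) : (1 + A) * (1 - A) = 1 := by
  have : (1 + A) * (1 - A) = 1 - A * A := by noncomm_ring
  rw [this, hA, sub_zero]

theorem one_sub_mul_one_add (hA : A * A = 0) : (1 - A) * (1 + A) = 1 := by
  have : (1 - A) * (1 + A) = 1 - A * A := by noncomm_ring
  rw [this, hA, sub_zero]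

/-- `g = b a⁻¹` -/
def gEl : E := (1 + B) * (1 - A)

/-- `g⁻¹ = a b⁻¹` -/
def giEl : E := (1 + A) * (1 - B)

/-- the central element `AB + BA` -/
def zEl : E := A * B + B * A

theorem gEl_mul_giEl (hA : A * A = 0) (hB : B * B = 0) : gEl A B * giEl A B = 1 := by
  unfold gEl giEl
  rw [mul_assoc, ← mul_assoc (1 - A), one_sub_mul_one_add A hA, one_mul,
    one_add_mul_one_sub B hB]

theorem giEl_mul_gEl (hA : A * A = 0) (hB : B * B = 0) : giEl A B * gEl A B = 1 := by
  unfold gEl giEl
  rw [mul_assoc, ← mul_assoc (1 - B), one_sub_mul_one_add B hB, one_mul,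
    one_add_mul_one_sub A hA]

theorem zEl_comm_A (hA : A * A = 0) : zEl A B * A = A * zEl A B := by
  unfold zEl
  rw [add_mul, mul_add, mul_assoc B A A, hA, mul_zero, add_zero, ← mul_assoc A A B, hA, zero_mul,
    zero_add, mul_assoc]

theorem zEl_comm_B (hB : B * B = 0) : zEl A B * B = B * zEl A B := by
  unfold zEl
  rw [add_mul, mul_add, mul_assoc A B B, hB, mul_zero, zero_add, ← mul_assoc B B A, hB, zero_mul,
    add_zero, mul_assoc]

theorem zEl_comm_gEl (hA : A * A = 0) (hB : B * B = 0) : Commute (zEl A B) (gEl A B) := by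
  have h1 : Commute (zEl A B) A := zEl_comm_A A B hA
  have h2 : Commute (zEl A B) B := zEl_comm_B A B hB
  unfold gEl
  exact ((Commute.one_right _).add_right h2).mul_right ((Commute.one_right _).sub_right h1)

theorem gEl_sub_one_sq (hA : A * A = 0) (hB : B * B = 0) :
    (gEl A B - 1) * (gEl A B - 1) = -(zEl A B * gEl A B) := by
  have hA' : ∀ X : E, A * (A * X) = 0 := fun X => by rw [← mul_assoc, hA, zero_mul]
  have hB' : ∀ X : E, B * (B * X) = 0 := fun X => by rw [← mul_assoc, hB, zero_mul]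
  unfold gEl zEl
  simp only [mul_add, add_mul, mul_sub, sub_mul, mul_one, one_mul, mul_assoc, hA, hB, hA', hB',
    mul_zero, zero_mul]
  abel

theorem zEl_pow (hA : A * A = 0) (hB : B * B = 0) (k : ℕ) (hk : 0 < k) :
    zEl A B ^ k = (A * B) ^ k + (B * A) ^ k := by
  induction k with
  | zero => exact absurd hk (lt_irrefl 0)
  | succ k ih =>
    rcases Nat.eq_zero_or_pos k with h0 | hpos
    · subst h0; simp [zEl]
    · rw [pow_succ, ih hpos, pow_succ (A * B), pow_succ (B * A)]
      unfold zEl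
      have h1 : (B * A) ^ k * (A * B) = 0 := by
        obtain ⟨j, rfl⟩ : ∃ j, k = j + 1 := ⟨k - 1, by omega⟩
        rw [pow_succ, mul_assoc, mul_assoc B A, ← mul_assoc A A, hA, zero_mul, mul_zero, mul_zero]
      have h2 : (A * B) ^ k * (B * A) = 0 := by
        obtain ⟨j, rfl⟩ : ∃ j, k = j + 1 := ⟨k - 1, by omega⟩
        rw [pow_succ, mul_assoc, mul_assoc A B, ← mul_assoc B B, hB, zero_mul, mul_zero, mul_zero]
      rw [add_mul, mul_add, mul_add, h1, h2]
      abel

/-- if `g - 1` squares to a multiple of a nilpotent central element, it is nilpotent -/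
theorem gEl_sub_one_pow (hA : A * A = 0) (hB : B * B = 0) (n : ℕ) (hZ : zEl A B ^ n = 0) :
    (gEl A B - 1) ^ (2 * n) = 0 := by
  rw [pow_mul, pow_two, gEl_sub_one_sq A B hA hB, neg_pow, (zEl_comm_gEl A B hA hB).mul_pow, hZ,
    zero_mul, mul_zero]

end Cfsg.Agent.Lib.Helper35.QuadAlg
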