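import Mathlib
import Cfsg.Agent.Lib.Helper35.QuadAlg

set_option autoImplicit false

/-! Existence of a two-dimensional invariant subspace for two square-zero endomorphisms whose
"quotient" `(1 + B)(1 - A)` is a nontrivial `p'`-element. -/

namespace Cfsg.Agent.Lib.Helper35.QuadCore

open Module Cfsg.Agent.Lib.Helper35.QuadAlg

variable {K : Type*} [Field K] {V : Type*} [AddCommGroup V] [Module K V]

theorem pow_finrank_eq_zero_of_eigenvalues [IsAlgClosed K] [FiniteDimensional K V] (f : End K V)
    (h : ∀ μ, f.HasEigenvalue μ → μ = 0) : f ^ finrank K V = 0 := by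
  have htop := f.iSup_maxGenEigenspace_eq_top
  have h1 : ∀ μ, μ ≠ 0 → f.maxGenEigenspace μ = ⊥ := by
    intro μ hμ
    rw [End.maxGenEigenspace_eq_genEigenspace_finrank]
    by_contra hne
    have h2 : f.HasGenEigenvalue μ (finrank K V) := End.hasGenEigenvalue_iff.mpr hne
    exact hμ (h μ (End.hasEigenvalue_of_hasGenEigenvalue h2))
  have h2 : f.maxGenEigenspace 0 = ⊤ := by
    rw [eq_top_iff, ← htop]
    apply iSup_le
    intro μ
    by_cases hμ : μ = 0
    · subst hμ; exact le_rfl
    · rw [h1 μ hμ]; exact bot_le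
  ext v
  have hv : v ∈ f.maxGenEigenspace 0 := by rw [h2]; exact Submodule.mem_top
  rw [End.maxGenEigenspace_eq_genEigenspace_finrank, End.mem_genEigenspace_nat, zero_smul,
    sub_zero, LinearMap.mem_ker] at hv
  rw [hv, LinearMap.zero_apply]

theorem exists_eigen {p : ℕ} [Fact p.Prime] [CharP K p] [IsAlgClosed K] [FiniteDimensional K V]
    (A B : End K V) (hA : A * A = 0) (hB : B * B = 0) (m : ℕ) (hm : m.Coprime p)
    (hgm : gEl A B ^ m = 1) (hg1 : gEl A B ≠ 1) :
    ∃ (l : K) (u : V), l ≠ 0 ∧ u ≠ 0 ∧ A u = 0 ∧ A (B u) = l • u := by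
  by_contra hcon
  push Not at hcon
  have hAA : ∀ v, A (A v) = 0 := fun v => by
    have := congrArg (fun f : End K V => f v) hA
    simpa using this
  have hZA : ∀ v, zEl A B (A v) = A (zEl A B v) := fun v => by
    have := congrArg (fun f : End K V => f v) (zEl_comm_A A B hA)
    simpa using this
  have hZ : ∀ v, zEl A B v = A (B v) + B (A v) := fun v => by
    unfold zEl; simp
  have heig : ∀ μ, (zEl A B).HasEigenvalue μ → μ = 0 := by
    intro μ hμ
    by_contra hμ0
    obtain ⟨v, hv⟩ := hμ.exists_hasEigenvector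
    have hv1 : zEl A B v = μ • v := hv.apply_eq_smul
    have hv0 : v ≠ 0 := hv.2
    by_cases hAv : A v = 0
    · apply hcon μ v hμ0 hv0 hAv
      rw [← hv1, hZ, hAv, map_zero, add_zero]
    · apply hcon μ (A v) hμ0 hAv (hAA v)
      have h1 : zEl A B (A v) = μ • A v := by rw [hZA, hv1, map_smul]
      rw [← h1, hZ, hAA, map_zero, add_zero]
  have hZn := pow_finrank_eq_zero_of_eigenvalues (zEl A B) heig
  have hnil := gEl_sub_one_pow A B hA hB _ hZn
  rcases subsingleton_or_nontrivial V with hV | hV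
  · apply hg1
    ext v
    exact Subsingleton.elim _ _
  · have hchar : CharP (End K V) p :=
      charP_of_injective_algebraMap (algebraMap K (End K V)).injective p
    set k := 2 * finrank K V with hk
    have hle : k ≤ p ^ k := (Nat.lt_pow_self (Fact.out : p.Prime).one_lt).le
    have h1 : (gEl A B - 1) ^ (p ^ k) = 0 := pow_eq_zero_of_le hle hnil
    rw [sub_pow_char_pow_of_commute p k (Commute.one_right _), one_pow, sub_eq_zero] at h1
    have h2 : orderOf (gEl A B) ∣ p ^ k := orderOf_dvd_of_pow_eq_one h1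
    have h3 : orderOf (gEl A B) ∣ m := orderOf_dvd_of_pow_eq_one hgm
    have h4 : orderOf (gEl A B) = 1 :=
      Nat.eq_one_of_dvd_coprimes (Nat.Coprime.pow_right k hm) h3 h2
    exact hg1 (orderOf_eq_one_iff.mp h4)

end Cfsg.Agent.Lib.Helper35.QuadCore
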