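import Mathlib
import Cfsg.Agent.Lib.Helper35.QuadEigen
import Cfsg.Agent.Lib.Helper35.Quad2Group

set_option autoImplicit false

/-! The core of `p`-stability over an algebraically closed field. -/

namespace Cfsg.Agent.Lib.Helper35.QuadCore

open Module Matrix Cfsg.Agent.Lib.Helper35.QuadAlg Cfsg.Agent.Lib.Helper35.Quad2

universe u v w

variable {K : Type v} [Field K] {V : Type w} [AddCommGroup V] [Module K V]

/-- the coordinate map onto `span {u, w}` -/
def iota (u w : V) : (Fin 2 → K) →ₗ[K] V := Fintype.linearCombination K ![u, w]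

theorem iota_apply (u w : V) (s : Fin 2 → K) : iota u w s = s 0 • u + s 1 • w := by
  simp [iota, Fintype.linearCombination_apply, Fin.sum_univ_two]

/-- `f` is represented on `span {u, w}` by the matrix `M` -/
def Rep (f : End K V) (u w : V) (M : Matrix (Fin 2) (Fin 2) K) : Prop :=
  ∀ s : Fin 2 → K, f (iota u w s) = iota u w (M *ᵥ s)

theorem Rep.mul {f f' : End K V} {u w : V} {M M' : Matrix (Fin 2) (Fin 2) K}
    (h : Rep f u w M) (h' : Rep f' u w M') : Rep (f * f') u w (M * M') := by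
  intro s
  rw [Module.End.mul_apply, h' s, h (M' *ᵥ s), Matrix.mulVec_mulVec]

theorem Rep.one (u w : V) : Rep (1 : End K V) u w 1 := by
  intro s
  rw [Module.End.one_apply, Matrix.one_mulVec]

theorem Rep.unique {f : End K V} {u w : V} {M M' : Matrix (Fin 2) (Fin 2) K}
    (hinj : Function.Injective (iota (K := K) u w)) (h : Rep f u w M) (h' : Rep f u w M') :
    M = M' := by
  rw [Matrix.ext_iff_mulVec]
  intro s
  apply hinj
  rw [← h s, ← h' s]

theorem iota_injective (A : End K V) (u w : V) (l : K) (hl : l ≠ 0) (hu : u ≠ 0)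
    (hAu : A u = 0) (hAw : A w = l • u) : Function.Injective (iota (K := K) u w) := by
  rw [injective_iff_map_eq_zero]
  intro s hs
  rw [iota_apply] at hs
  have h1 := congrArg A hs
  rw [map_add, map_smul, map_smul, hAu, hAw, smul_zero, zero_add, map_zero, smul_smul] at h1
  have hs1 : s 1 = 0 := by
    rcases smul_eq_zero.mp h1 with h | h
    · rcases mul_eq_zero.mp h with h' | h'
      · exact h'
      · exact absurd h' hl
    · exact absurd h hu
  rw [hs1, zero_smul, add_zero] at hs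
  have hs0 : s 0 = 0 := by
    rcases smul_eq_zero.mp hs with h | h
    · exact h
    · exact absurd h hu
  funext i
  fin_cases i
  · exact hs0
  · exact hs1

theorem rep_a (A : End K V) (u w : V) (l : K) (hAu : A u = 0) (hAw : A w = l • u) :
    Rep (1 + A) u w !![1, l; 0, 1] := by
  intro s
  rw [iota_apply, iota_apply]
  simp only [LinearMap.add_apply, Module.End.one_apply, map_add, map_smul, hAu, hAw, smul_zero,
    zero_add]
  simp [Matrix.mulVec, dotProduct, Fin.sum_univ_two]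
  module

theorem rep_b (B : End K V) (u w : V) (hBu : B u = w) (hBw : B w = 0) :
    Rep (1 + B) u w !![1, 0; 1, 1] := by
  intro s
  rw [iota_apply, iota_apply]
  simp only [LinearMap.add_apply, Module.End.one_apply, map_add, map_smul, hBu, hBw, smul_zero,
    add_zero]
  simp [Matrix.mulVec, dotProduct, Fin.sum_univ_two]
  module


/-- The section data produced by the core theorem: a `2`-subgroup `T` of `Q` with an
`a`-invariant normal subgroup `L` such that `T / L` is nonabelian with a unique involution and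
`a` acts nontrivially on `T / L`. -/
def SectionData {H : Type u} [Group H] (Q : Subgroup H) (a : H) (T L : Subgroup H) : Prop :=
  L ≤ T ∧ T ≤ Q ∧ IsPGroup 2 T ∧ (∀ t ∈ T, a * t * a⁻¹ ∈ T) ∧ (∀ t ∈ L, a * t * a⁻¹ ∈ L) ∧
    (∀ t ∈ T, ∀ s ∈ L, t * s * t⁻¹ ∈ L) ∧
    (∃ n ∈ T, ∃ m ∈ T, n * m * n⁻¹ * m⁻¹ ∉ L) ∧
    (∃ z ∈ T, z ∉ L ∧ z * z ∈ L ∧ ∀ t ∈ T, t * t ∈ L → t ∈ L ∨ t * z⁻¹ ∈ L) ∧
    (∃ n ∈ T, a * n * a⁻¹ * n⁻¹ ∉ L)

theorem quad_core [IsAlgClosed K] [FiniteDimensional K V] {p : ℕ} [Fact p.Prime] [CharP K p]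
    (hp2 : p ≠ 2) {H : Type u} [Group H] [Finite H] (ρ : H →* End K V) (Q : Subgroup H)
    [Q.Normal] (hQ : (Nat.card Q).Coprime p) (a : H) (hap : a ^ p = 1)
    (hquad : (ρ a - 1) * (ρ a - 1) = 0) (x₀ : H) (hx₀ : x₀ ∈ Q)
    (hne : ρ (x₀ * a * x₀⁻¹) ≠ ρ a) :
    p = 3 ∧ ∃ T L : Subgroup H, SectionData Q a T L := by
  classical
  set b := x₀ * a * x₀⁻¹ with hb
  set A : End K V := ρ a - 1 with hA
  set B : End K V := ρ b - 1 with hB
  have hρa : ρ a = 1 + A := by rw [hA]; abel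
  have hρb : ρ b = 1 + B := by rw [hB]; abel
  have hxx : ρ x₀ * ρ x₀⁻¹ = 1 := by rw [← map_mul, mul_inv_cancel, map_one]
  have hxx' : ρ x₀⁻¹ * ρ x₀ = 1 := by rw [← map_mul, inv_mul_cancel, map_one]
  have hBA : B = ρ x₀ * A * ρ x₀⁻¹ := by
    rw [hB, hb, map_mul, map_mul, hA, mul_sub, sub_mul, mul_one, hxx]
  have hBB : B * B = 0 := by
    rw [hBA]
    have : ρ x₀ * A * ρ x₀⁻¹ * (ρ x₀ * A * ρ x₀⁻¹) = ρ x₀ * (A * (ρ x₀⁻¹ * ρ x₀) * A) * ρ x₀⁻¹ := by
      simp only [mul_assoc]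
    rw [this, hxx', mul_one, hquad, mul_zero, zero_mul]
  -- `c = b a⁻¹`
  set c := b * a⁻¹ with hc
  have hcQ : c ∈ Q := by
    have : c = x₀ * (a * x₀⁻¹ * a⁻¹) := by rw [hc, hb]; group
    rw [this]
    exact Q.mul_mem hx₀ ((inferInstance : Q.Normal).conj_mem _ (Q.inv_mem hx₀) a)
  have hainv : ρ a⁻¹ = 1 - A := by
    have h1 : ρ a * (1 - A) = 1 := by rw [hρa]; exact one_add_mul_one_sub A hquad
    have h2 : ρ a⁻¹ * ρ a = 1 := by rw [← map_mul, inv_mul_cancel, map_one]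
    calc ρ a⁻¹ = ρ a⁻¹ * (ρ a * (1 - A)) := by rw [h1, mul_one]
      _ = (ρ a⁻¹ * ρ a) * (1 - A) := (mul_assoc _ _ _).symm
      _ = 1 - A := by rw [h2, one_mul]
  have hg : gEl A B = ρ c := by
    unfold gEl
    rw [hc, map_mul, hρb, hainv]
  have hm : (orderOf c).Coprime p := by
    have h1 : orderOf c ∣ Nat.card Q := by
      have := orderOf_dvd_natCard (⟨c, hcQ⟩ : Q)
      rwa [Subgroup.orderOf_mk] at this
    exact Nat.Coprime.coprime_dvd_left h1 hQ
  have hgm : gEl A B ^ orderOf c = 1 := by rw [hg, ← map_pow, pow_orderOf_eq_one, map_one]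
  have hg1 : gEl A B ≠ 1 := by
    rw [hg]
    intro h
    apply hne
    have : ρ b = ρ c * ρ a := by rw [← map_mul, hc, inv_mul_cancel_right]
    rw [this, h, one_mul]
  obtain ⟨l, u, hl, hu, hAu, hABu⟩ := exists_eigen (p := p) A B hquad hBB (orderOf c) hm hgm hg1
  set w := B u with hw
  have hBw : B w = 0 := by
    have := congrArg (fun f : End K V => f u) hBB
    simpa using this
  have hinj := iota_injective (K := K) A u w l hl hu hAu hABu
  have hRa : Rep (ρ a) u w !![1, l; 0, 1] := by rw [hρa]; exact rep_a A u w l hAu hABu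
  have hRb : Rep (ρ b) u w !![1, 0; 1, 1] := by rw [hρb]; exact rep_b B u w rfl hBw
  -- all elements of `D` are represented
  set D : Subgroup H := Subgroup.closure {a, b} with hD
  have hgood : ∀ g ∈ D, ∃ M : Matrix (Fin 2) (Fin 2) K, Rep (ρ g) u w M ∧ M.det = 1 := by
    intro g hg
    induction hg using Subgroup.closure_induction with
    | mem g hg =>
      rcases hg with rfl | hg
      · exact ⟨_, hRa, by simp [Matrix.det_fin_two]⟩
      · rw [Set.mem_singleton_iff] at hg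
        subst hg
        exact ⟨_, hRb, by simp [Matrix.det_fin_two]⟩
    | one => exact ⟨1, by rw [map_one]; exact Rep.one u w, Matrix.det_one⟩
    | mul g h _ _ ihg ihh =>
      obtain ⟨M, hM, hMd⟩ := ihg
      obtain ⟨M', hM', hMd'⟩ := ihh
      exact ⟨M * M', by rw [map_mul]; exact hM.mul hM', by rw [Matrix.det_mul, hMd, hMd', one_mul]⟩
    | inv g _ ih =>
      obtain ⟨M, hM, hMd⟩ := ih
      have hMu : IsUnit M.det := by rw [hMd]; exact isUnit_one
      refine ⟨M⁻¹, ?_, by rw [Matrix.det_nonsing_inv, hMd]; simp⟩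
      intro s
      have h1 : ρ g (ρ g⁻¹ (iota u w s)) = iota u w s := by
        rw [← Module.End.mul_apply, ← map_mul, mul_inv_cancel, map_one, Module.End.one_apply]
      have h2 : ρ g (iota u w (M⁻¹ *ᵥ s)) = iota u w s := by
        rw [hM, Matrix.mulVec_mulVec, Matrix.mul_nonsing_inv M hMu, Matrix.one_mulVec]
      have h3 : ρ g⁻¹ (ρ g (ρ g⁻¹ (iota u w s))) = ρ g⁻¹ (ρ g (iota u w (M⁻¹ *ᵥ s))) := by
        rw [h1, h2]
      have h4 : ∀ v, ρ g⁻¹ (ρ g v) = v := fun v => by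
        rw [← Module.End.mul_apply, ← map_mul, inv_mul_cancel, map_one, Module.End.one_apply]
      rw [h4, h4] at h3
      exact h3
  -- the homomorphism
  let φ₀ : D → Matrix (Fin 2) (Fin 2) K := fun g => Classical.choose (hgood g g.2)
  have hφ₀ : ∀ g : D, Rep (ρ g) u w (φ₀ g) ∧ (φ₀ g).det = 1 := fun g =>
    Classical.choose_spec (hgood g g.2)
  let φ : D →* Matrix (Fin 2) (Fin 2) K :=
    { toFun := φ₀
      map_one' := by
        apply Rep.unique hinj (hφ₀ 1).1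
        rw [Subgroup.coe_one, map_one]; exact Rep.one u w
      map_mul' := by
        intro g h
        apply Rep.unique hinj (hφ₀ (g * h)).1
        rw [Subgroup.coe_mul, map_mul]
        exact (hφ₀ g).1.mul (hφ₀ h).1 }
  have hφ : ∀ g : D, Rep (ρ g) u w (φ g) ∧ (φ g).det = 1 := hφ₀
  have haD : a ∈ D := Subgroup.subset_closure (by simp)
  have hbD : b ∈ D := Subgroup.subset_closure (by simp)
  have hφa : φ ⟨a, haD⟩ = !![1, l; 0, 1] := Rep.unique hinj (hφ ⟨a, haD⟩).1 hRa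
  have hφb : φ ⟨b, hbD⟩ = !![1, 0; 1, 1] := Rep.unique hinj (hφ ⟨b, hbD⟩).1 hRb
  set N : Subgroup D := Q.subgroupOf D with hN
  have hNc : (Nat.card N).Coprime p := by
    have h1 : Nat.card N ∣ Nat.card Q := by
      let f : N →* Q := MonoidHom.codRestrict (D.subtype.comp N.subtype) Q
        (fun n => Subgroup.mem_subgroupOf.mp n.2)
      apply Subgroup.card_dvd_of_injective f
      intro n n' h
      have h2 := congrArg Subtype.val h
      exact Subtype.ext (Subtype.ext h2)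
    exact Nat.Coprime.coprime_dvd_left h1 hQ
  have hNn : N.Normal := by rw [hN]; infer_instance
  have hdet : ∀ n ∈ N, (φ n).det = 1 := fun n _ => (hφ n).2
  set x : D := ⟨a, haD⟩ with hx
  have hxp : x ^ p = 1 := by
    apply Subtype.ext
    rw [Subgroup.coe_pow, Subgroup.coe_one]
    exact hap
  have h2K : (2 : K) ≠ 0 := two_ne_zero_of_charP hp2
  have hφxx : φ x⁻¹ * φ x = 1 := by rw [← map_mul, inv_mul_cancel, map_one]
  have hnt : ∃ n ∈ N, φ (x * n * x⁻¹) ≠ φ n := by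
    refine ⟨⟨b, hbD⟩ * x⁻¹, ?_, ?_⟩
    · rw [hN, Subgroup.mem_subgroupOf]
      exact hcQ
    · intro h
      rw [map_mul, map_mul, map_mul] at h
      have h1 : φ x * φ ⟨b, hbD⟩ = φ ⟨b, hbD⟩ * φ x := by
        calc φ x * φ ⟨b, hbD⟩
            = φ x * (φ ⟨b, hbD⟩ * φ x⁻¹) * φ x⁻¹ * (φ x * φ x) := by
              have : φ x * (φ ⟨b, hbD⟩ * φ x⁻¹) * φ x⁻¹ * (φ x * φ x) =
                  φ x * φ ⟨b, hbD⟩ * (φ x⁻¹ * (φ x⁻¹ * φ x) * φ x) := by
                simp only [mul_assoc]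
              rw [this, hφxx, mul_one, hφxx, mul_one]
          _ = φ ⟨b, hbD⟩ * φ x⁻¹ * (φ x * φ x) := by rw [h]
          _ = φ ⟨b, hbD⟩ * φ x := by
              rw [← mul_assoc, mul_assoc (φ ⟨b, hbD⟩), hφxx, mul_one]
      rw [hφa, hφb] at h1
      have h3 := congrFun (congrFun h1 0) 0
      simp [Matrix.mul_apply, Fin.sum_univ_two] at h3
      exact hl h3
  obtain ⟨hp3, R, ⟨hRN, hRx, n₀, hn₀R, hn₀⟩, hR2, ⟨n₁, hn₁, m₁, hm₁, hnm⟩, ⟨z, hzR, hφz⟩, hU⟩ :=
    dim2_core hp2 φ N hNc hdet x hxp hnt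
  refine ⟨hp3, R.map D.subtype, (R ⊓ φ.ker).map D.subtype, ?_⟩
  have memL : ∀ y : D, (y : H) ∈ (R ⊓ φ.ker).map D.subtype → φ y = 1 := by
    intro y hy
    have h1 : D.subtype y ∈ (R ⊓ φ.ker).map D.subtype := hy
    rw [Subgroup.mem_map_iff_mem D.subtype_injective] at h1
    exact MonoidHom.mem_ker.mp (Subgroup.mem_inf.mp h1).2
  have mkL : ∀ y : D, y ∈ R → φ y = 1 → (y : H) ∈ (R ⊓ φ.ker).map D.subtype := by
    intro y hyR hy
    exact ⟨y, Subgroup.mem_inf.mpr ⟨hyR, MonoidHom.mem_ker.mpr hy⟩, rfl⟩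
  have hφinv : ∀ y : D, φ y = 1 → φ y⁻¹ = 1 := by
    intro y hy
    have : φ y * φ y⁻¹ = 1 := by rw [← map_mul, mul_inv_cancel, map_one]
    rw [hy, one_mul] at this
    exact this
  refine ⟨Subgroup.map_mono inf_le_left, ?_, hR2.map D.subtype, ?_, ?_, ?_, ?_, ?_, ?_⟩
  · rintro _ ⟨t, ht, rfl⟩
    exact Subgroup.mem_subgroupOf.mp (hRN ht)
  · rintro _ ⟨t, ht, rfl⟩
    exact ⟨x * t * x⁻¹, hRx t ht, rfl⟩
  · rintro _ ⟨t, ht, rfl⟩
    obtain ⟨htR, htk⟩ := Subgroup.mem_inf.mp ht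
    have h1 : φ t = 1 := MonoidHom.mem_ker.mp htk
    refine mkL (x * t * x⁻¹) (hRx t htR) ?_
    rw [map_mul, map_mul, h1, mul_one, ← map_mul, mul_inv_cancel, map_one]
  · rintro _ ⟨t, ht, rfl⟩ _ ⟨s, hs, rfl⟩
    obtain ⟨hsR, hsk⟩ := Subgroup.mem_inf.mp hs
    have h1 : φ s = 1 := MonoidHom.mem_ker.mp hsk
    refine mkL (t * s * t⁻¹) (R.mul_mem (R.mul_mem ht hsR) (R.inv_mem ht)) ?_
    rw [map_mul, map_mul, h1, mul_one, ← map_mul, mul_inv_cancel, map_one]
  · refine ⟨n₁, ⟨n₁, hn₁, rfl⟩, m₁, ⟨m₁, hm₁, rfl⟩, ?_⟩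
    intro h
    have h1 := memL (n₁ * m₁ * n₁⁻¹ * m₁⁻¹) h
    apply hnm
    have : n₁ * m₁ = (n₁ * m₁ * n₁⁻¹ * m₁⁻¹) * (m₁ * n₁) := by group
    rw [this, map_mul, h1, one_mul]
  · refine ⟨z, ⟨z, hzR, rfl⟩, ?_, ?_, ?_⟩
    · intro h
      have h1 := memL z h
      rw [hφz] at h1
      exact neg_one_ne_one h2K h1
    · refine mkL (z * z) (R.mul_mem hzR hzR) ?_
      rw [map_mul, hφz]; simp
    · rintro _ ⟨t, ht, rfl⟩ htt
      have h1 := memL (t * t) htt
      rw [map_mul] at h1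
      rcases hU t ht h1 with h | h
      · left; exact mkL t ht h
      · right
        refine mkL (t * z⁻¹) (R.mul_mem ht (R.inv_mem hzR)) ?_
        have hzi : φ z⁻¹ = -1 := by
          have : φ z * φ z⁻¹ = 1 := by rw [← map_mul, mul_inv_cancel, map_one]
          rw [hφz, neg_one_mul, neg_eq_iff_eq_neg] at this
          exact this
        rw [map_mul, h, hzi]; simp
  · refine ⟨n₀, ⟨n₀, hn₀R, rfl⟩, ?_⟩
    intro h
    have h1 := memL (x * n₀ * x⁻¹ * n₀⁻¹) h
    apply hn₀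
    have : x * n₀ * x⁻¹ = (x * n₀ * x⁻¹ * n₀⁻¹) * n₀ := by group
    rw [this, map_mul, h1, one_mul]

end Cfsg.Agent.Lib.Helper35.QuadCore
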