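import Mathlib
import Cfsg.Agent.Lib.Helper35.QuadCore

set_option autoImplicit false

/-! Quadratic action on a finite `𝔽_p`-module: reduction to the algebraically closed case. -/

namespace Cfsg.Agent.Lib.Helper35.QuadCore

open Module

universe u w

theorem quad_module {p : ℕ} [Fact p.Prime] (hp2 : p ≠ 2) {W : Type w} [AddCommGroup W]
    [Module (ZMod p) W] [Finite W] {H : Type u} [Group H] [Finite H]
    (θ : H →* Module.End (ZMod p) W) (Q : Subgroup H) [Q.Normal]
    (hQ : (Nat.card Q).Coprime p) (a : H) (hap : a ^ p = 1)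
    (hquad : (θ a - 1) * (θ a - 1) = 0) (x₀ : H) (hx₀ : x₀ ∈ Q)
    (hne : θ (x₀ * a * x₀⁻¹) ≠ θ a) :
    p = 3 ∧ ∃ T L : Subgroup H, SectionData Q a T L := by
  classical
  let F := ZMod p
  let K := AlgebraicClosure F
  haveI : Module.Finite F W := Module.Finite.of_finite
  let ι := Module.Free.ChooseBasisIndex F W
  let b : Basis ι F W := Module.Free.chooseBasis F W
  let e₁ : Module.End F W ≃ₐ[F] Matrix ι ι F := LinearMap.toMatrixAlgEquiv b
  let e₂ : Matrix ι ι F →+* Matrix ι ι K := (algebraMap F K).mapMatrix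
  let e₃ : Matrix ι ι K ≃ₐ[K] Module.End K (ι → K) := Matrix.toLinAlgEquiv'
  let Ψ : Module.End F W →+* Module.End K (ι → K) :=
    (e₃.toRingEquiv.toRingHom).comp (e₂.comp e₁.toRingEquiv.toRingHom)
  have hΨ : Function.Injective Ψ := by
    have h2 : Function.Injective e₂ := by
      intro M M' h
      ext i j
      have := congrFun (congrFun h i) j
      simp only [e₂, RingHom.mapMatrix_apply, Matrix.map_apply] at this
      exact (algebraMap F K).injective this
    exact e₃.injective.comp (h2.comp e₁.injective)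
  let ρ : H →* Module.End K (ι → K) := (Ψ : Module.End F W →* Module.End K (ι → K)).comp θ
  haveI : CharP K p := charP_of_injective_algebraMap (algebraMap F K).injective p
  have hρ : ∀ g, ρ g = Ψ (θ g) := fun g => rfl
  have hquad' : (ρ a - 1) * (ρ a - 1) = 0 := by
    rw [hρ, ← map_one Ψ, ← map_sub, ← map_mul, hquad, map_zero]
  have hne' : ρ (x₀ * a * x₀⁻¹) ≠ ρ a := by
    rw [hρ, hρ]
    exact fun h => hne (hΨ h)
  exact quad_core hp2 ρ Q hQ a hap hquad' x₀ hx₀ hne'

end Cfsg.Agent.Lib.Helper35.QuadCore
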