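import Mathlib
import Cfsg.Agent.Lib.Helper35.QuadModule
import Cfsg.Agent.Lib.Helper35.DualHH
import Cfsg.Agent.Lib.Helper35.NoSL

set_option autoImplicit false

/-! The irreducible case of `p`-stability: a `p`-solvable group without `SL(2,3)`-type sections
acting irreducibly on an elementary abelian `p`-group: quadratic elements act trivially. -/

namespace Cfsg.Agent.Lib.Helper35.PStab

open Cfsg Cfsg.Agent.Lib.Helper35.QuadCore Cfsg.Agent.Lib.Helper76 Cfsg.Agent.Lib.Helper30
  Cfsg.Agent.Lib.Helper22

universe u w

/-- automorphisms of an elementary abelian `p`-group as linear endomorphisms -/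
def autEnd (p : ℕ) (V : Type w) [CommGroup V] [Module (ZMod p) (Additive V)] :
    MulAut V →* Module.End (ZMod p) (Additive V) where
  toFun α := (MonoidHom.toAdditive α.toMonoidHom).toZModLinearMap p
  map_one' := by
    apply LinearMap.ext; intro x
    rw [AddMonoidHom.coe_toZModLinearMap]
    rfl
  map_mul' α β := by
    apply LinearMap.ext; intro x
    rw [Module.End.mul_apply, AddMonoidHom.coe_toZModLinearMap, AddMonoidHom.coe_toZModLinearMap,
      AddMonoidHom.coe_toZModLinearMap]
    rfl

theorem autEnd_apply (p : ℕ) (V : Type w) [CommGroup V] [Module (ZMod p) (Additive V)]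
    (α : MulAut V) (x : Additive V) : autEnd p V α x = Additive.ofMul (α (Additive.toMul x)) := by
  show (MonoidHom.toAdditive α.toMonoidHom).toZModLinearMap p x = _
  rw [AddMonoidHom.coe_toZModLinearMap]
  rfl

theorem autEnd_injective (p : ℕ) (V : Type w) [CommGroup V] [Module (ZMod p) (Additive V)] :
    Function.Injective (autEnd p V) := by
  intro α β h
  ext v
  have := congrArg (fun f : Module.End (ZMod p) (Additive V) => f (Additive.ofMul v)) h
  simp only [autEnd_apply] at this
  exact Additive.ofMul.injective this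

/-- iterating a quadratic automorphism -/
theorem quad_pow {V : Type w} [CommGroup V] (α : MulAut V)
    (hq : ∀ v : V, α (α v * v⁻¹) = α v * v⁻¹) (k : ℕ) (v : V) :
    (α ^ k) v = (α v * v⁻¹) ^ k * v := by
  induction k with
  | zero => simp
  | succ k ih =>
    rw [pow_succ', MulAut.mul_apply, ih, map_mul, map_pow, hq, pow_succ, mul_assoc,
      inv_mul_cancel_right]

theorem ps_minimal_abstract {p : ℕ} [Fact p.Prime] (hp2 : p ≠ 2)
    {X : Type u} [Group X] [Finite X] (hX : IsPSolvable p X) (hNo : NoSL p X)
    {V : Type w} [CommGroup V] [Finite V] [Nontrivial V] (hVe : ∀ v : V, v ^ p = 1)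
    (κ : X →* MulAut V)
    (hirr : ∀ U : Subgroup V, (∀ g : X, ∀ v ∈ U, κ g v ∈ U) → U = ⊥ ∨ U = ⊤)
    (a : X) (hq : ∀ v : V, κ a (κ a v * v⁻¹) = κ a v * v⁻¹) : κ a = 1 := by
  classical
  by_contra hne
  have instMod : Module (ZMod p) (Additive V) := AddCommGroup.zmodModule (by
    intro x
    have := hVe (Additive.toMul x)
    exact congrArg Additive.ofMul this)
  -- the faithful quotient
  set H := X ⧸ κ.ker with hH
  let κb : H →* MulAut V := QuotientGroup.kerLift κ
  have hκb : Function.Injective κb := QuotientGroup.kerLift_injective κ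
  have hκmk : ∀ g : X, κb (QuotientGroup.mk g) = κ g := fun g => QuotientGroup.kerLift_mk κ g
  let θ : H →* Module.End (ZMod p) (Additive V) := (autEnd p V).comp κb
  have hθ : Function.Injective θ := (autEnd_injective p V).comp hκb
  have hHs : IsPSolvable p H := isPSolvable_quotient κ.ker hX
  have hHno : NoSL p H := hNo.quotient κ.ker
  have hVp : IsPGroup p V := fun v => ⟨1, by rw [pow_one]; exact hVe v⟩
  have hpV : p ∣ Nat.card V := by
    obtain ⟨n, hn⟩ := IsPGroup.iff_card.mp hVp
    rw [hn]
    apply dvd_pow_self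
    rintro rfl
    rw [pow_zero] at hn
    have := Finite.one_lt_card (α := V)
    omega
  -- `O_p(H) = 1`
  have hOp : pCore p H = ⊥ := by
    set M := pCore p H with hM
    have hMn : M.Normal := pCore_normal' p H
    have hMp : IsPGroup p M := pCore_isPGroup' p H
    let U : Subgroup V :=
      { carrier := {v | ∀ m ∈ M, κb m v = v}
        one_mem' := fun m _ => map_one _
        mul_mem' := fun {x y} hx hy m hm => by rw [map_mul, hx m hm, hy m hm]
        inv_mem' := fun {x} hx m hm => by rw [map_inv, hx m hm] }
    have hUinv : ∀ g : X, ∀ v ∈ U, κ g v ∈ U := by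
      intro g v hv m hm
      have h1 : (QuotientGroup.mk g : H)⁻¹ * m * (QuotientGroup.mk g : H) ∈ M := by
        have := hMn.conj_mem m hm (QuotientGroup.mk g : H)⁻¹
        rwa [inv_inv] at this
      have h2 := hv _ h1
      rw [← hκmk g]
      have h3 : κb m (κb (QuotientGroup.mk g) v) =
          κb (QuotientGroup.mk g) (κb ((QuotientGroup.mk g : H)⁻¹ * m * (QuotientGroup.mk g : H)) v) := by
        rw [← MulAut.mul_apply, ← MulAut.mul_apply, ← map_mul, ← map_mul]
        congr 2
        group
      rw [h3, h2]
    have hUne : U ≠ ⊥ := by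
      letI : MulAction M V := MulAction.compHom V (κb.comp M.subtype)
      have hfix : (1 : V) ∈ MulAction.fixedPoints M V := by
        intro m
        show κb (m : H) 1 = 1
        exact map_one _
      obtain ⟨b, hb, hb1⟩ := hMp.exists_fixed_point_of_prime_dvd_card_of_fixed_point V hpV hfix
      intro hbot
      have hbU : b ∈ U := by
        intro m hm
        exact hb ⟨m, hm⟩
      rw [hbot, Subgroup.mem_bot] at hbU
      exact hb1 hbU.symm
    rcases hirr U hUinv with h | h
    · exact absurd h hUne
    · rw [eq_bot_iff]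
      intro m hm
      have : κb m = 1 := by
        ext v
        have hv : v ∈ U := by rw [h]; exact Subgroup.mem_top v
        exact hv m hm
      rw [Subgroup.mem_bot]
      exact hκb (by rw [this, map_one])
  -- the element `ā`
  set ab : H := QuotientGroup.mk a with hab
  have hab1 : ab ≠ 1 := by
    intro h
    apply hne
    rw [← hκmk a, ← hab, h, map_one]
  have habp : ab ^ p = 1 := by
    apply hκb
    rw [map_pow, map_one, hκmk]
    ext v
    rw [quad_pow (κ a) hq p v, hVe, one_mul]
    rfl
  obtain ⟨x₀, hx₀, hx₀a⟩ := DualHH.exists_not_commute hHs hOp ab hab1 habp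
  have hquad : (θ ab - 1) * (θ ab - 1) = 0 := by
    apply LinearMap.ext
    intro w
    have e1 : ∀ w : Additive V, (θ ab - 1) w = Additive.ofMul (κ a (Additive.toMul w) * (Additive.toMul w)⁻¹) := by
      intro w
      rw [LinearMap.sub_apply, Module.End.one_apply]
      show autEnd p V (κb ab) w - w = _
      rw [autEnd_apply, hκmk, ofMul_mul, ofMul_inv, ofMul_toMul, sub_eq_add_neg]
    rw [Module.End.mul_apply, e1, e1, LinearMap.zero_apply]
    simp only [toMul_ofMul]
    rw [hq, mul_inv_cancel]
    rfl
  have hne' : θ (x₀ * ab * x₀⁻¹) ≠ θ ab := fun h => hx₀a (hθ h)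
  haveI : (pPrimeCore p H).Normal := inferInstance
  obtain ⟨hp3, T, L, hLT, hTQ, hT2, -, -, -, ⟨n, hn, m, hm, hnm⟩, -, -⟩ :=
    quad_module hp2 θ (pPrimeCore p H) (pPrimeCore_card_coprime p) ab habp hquad x₀ hx₀ hne'
  apply hnm
  have hc := hHno hp3 T hT2 n hn m hm
  have : n * m * n⁻¹ * m⁻¹ = 1 := by rw [hc]; group
  rw [this]
  exact L.one_mem

end Cfsg.Agent.Lib.Helper35.PStab
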