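import Mathlib
import Cfsg.Agent.Lib.Helper35.PStabMin

set_option autoImplicit false

/-! `p`-stability for `p`-solvable groups without `SL(2,3)`-type sections (group form). -/

namespace Cfsg.Agent.Lib.Helper35.PStab

open Cfsg Cfsg.Agent.Lib.Helper76
open scoped commutatorElement IsMulCommutative

universe u

/-- a `p'`-element stabilizing the chain `P ≥ U ≥ 1` of a `p`-group centralizes `P` -/
theorem centralizes_of_chain {X : Type u} [Group X] {p : ℕ} [Fact p.Prime] (P U : Subgroup X)
    (hUP : U ≤ P) (hP : IsPGroup p P) (y : X) (m : ℕ) (hm : m.Coprime p) (hym : y ^ m = 1)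
    (hU : ∀ u ∈ U, y * u = u * y) (hPU : ∀ v ∈ P, y * v * y⁻¹ * v⁻¹ ∈ U) :
    ∀ v ∈ P, y * v = v * y := by
  intro v hv
  obtain ⟨c, hc⟩ : ∃ c, c = y * v * y⁻¹ * v⁻¹ := ⟨_, rfl⟩
  have hcU : c ∈ U := by rw [hc]; exact hPU v hv
  have hyc : y * c = c * y := hU c hcU
  have hyck : ∀ i : ℕ, y * c ^ i = c ^ i * y := fun i => (Commute.pow_right hyc i)
  have hpow : ∀ i : ℕ, y ^ i * v * (y ^ i)⁻¹ = c ^ i * v := by
    intro i
    induction i with
    | zero => simp
    | succ i ih =>
      have e1 : y ^ (i + 1) * v * (y ^ (i + 1))⁻¹ = y * (y ^ i * v * (y ^ i)⁻¹) * y⁻¹ := by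
        rw [pow_succ']; group
      rw [e1, ih]
      have e2 : y * (c ^ i * v) * y⁻¹ = (y * c ^ i) * (v * y⁻¹) := by group
      rw [e2, hyck i, pow_succ]
      have e3 : y * v * y⁻¹ = c * v := by rw [hc]; group
      calc c ^ i * y * (v * y⁻¹) = c ^ i * (y * v * y⁻¹) := by group
        _ = c ^ i * (c * v) := by rw [e3]
        _ = c ^ i * c * v := (mul_assoc _ _ _).symm
  have h1 := hpow m
  rw [hym, one_mul, inv_one, mul_one] at h1
  have hcm : c ^ m = 1 := by
    have : c ^ m * v = 1 * v := by rw [← h1, one_mul]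
    exact mul_right_cancel this
  obtain ⟨t, ht⟩ := hP ⟨c, hUP hcU⟩
  have hct : c ^ (p ^ t) = 1 := by
    have := congrArg Subtype.val ht
    simpa using this
  have hord : orderOf c = 1 :=
    Nat.eq_one_of_dvd_coprimes (Nat.Coprime.pow_right t hm) (orderOf_dvd_of_pow_eq_one hcm)
      (orderOf_dvd_of_pow_eq_one hct)
  have hc1 : c = 1 := orderOf_eq_one_iff.mp hord
  have : y * v * y⁻¹ * v⁻¹ = 1 := by rw [← hc, hc1]
  calc y * v = (y * v * y⁻¹ * v⁻¹) * (v * y) := by group
    _ = v * y := by rw [this, one_mul]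

/-- a minimal normal `p`-subgroup is elementary abelian -/
theorem minimal_normal_elementary {X : Type u} [Group X] [Finite X] {p : ℕ} [Fact p.Prime]
    (P : Subgroup X) [hPn : P.Normal] (hPp : IsPGroup p P) (hPbot : P ≠ ⊥)
    (hmin : ∀ U : Subgroup X, U.Normal → U ≤ P → U = ⊥ ∨ U = P) :
    (∀ x ∈ P, ∀ y ∈ P, x * y = y * x) ∧ ∀ x ∈ P, x ^ p = 1 := by
  have hnt : Nontrivial P := by
    rw [← Subgroup.nontrivial_iff_ne_bot] at hPbot
    exact hPbot
  have hcomm : ∀ x ∈ P, ∀ y ∈ P, x * y = y * x := by
    have hnil : Group.IsNilpotent P := hPp.isNilpotent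
    have hlt : commutator P < ⊤ := Group.IsSolvable.commutator_lt_top_of_nontrivial P
    have hcn : (⁅P, P⁆ : Subgroup X).Normal := inferInstance
    have hcle : ⁅P, P⁆ ≤ P := (Subgroup.commutator_le_inf P P).trans inf_le_left
    rcases hmin _ hcn hcle with h | h
    · have h2 := Subgroup.commutator_eq_bot_iff_le_centralizer.mp h
      intro x hx y hy
      have := h2 hx
      rw [Subgroup.mem_centralizer_iff] at this
      exact (this y hy).symm
    · exfalso
      have h3 : (commutator P).map P.subtype = ⁅P, P⁆ := Subgroup.map_subtype_commutator P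
      rw [h] at h3
      have h4 : (commutator P).map P.subtype = (⊤ : Subgroup P).map P.subtype := by
        rw [h3, ← MonoidHom.range_eq_map, Subgroup.range_subtype]
      have h5 := Subgroup.map_injective P.subtype_injective h4
      exact (ne_of_lt hlt) h5
  refine ⟨hcomm, ?_⟩
  let Ω : Subgroup X :=
    { carrier := {v | v ∈ P ∧ v ^ p = 1}
      one_mem' := ⟨P.one_mem, one_pow _⟩
      mul_mem' := fun {x y} hx hy => ⟨P.mul_mem hx.1 hy.1, by
        have hc : Commute x y := hcomm x hx.1 y hy.1
        rw [hc.mul_pow, hx.2, hy.2, one_mul]⟩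
      inv_mem' := fun {x} hx => ⟨P.inv_mem hx.1, by rw [inv_pow, hx.2, inv_one]⟩ }
  have hΩn : Ω.Normal := by
    constructor
    intro v hv g
    exact ⟨hPn.conj_mem v hv.1 g, by rw [conj_pow, hv.2]; group⟩
  have hΩP : Ω ≤ P := fun v hv => hv.1
  have hΩne : Ω ≠ ⊥ := by
    have hpd : p ∣ Nat.card P := by
      obtain ⟨n, hn⟩ := IsPGroup.iff_card.mp hPp
      rw [hn]
      apply dvd_pow_self
      rintro rfl
      rw [pow_zero] at hn
      have := Finite.one_lt_card (α := P)
      omega
    obtain ⟨v, hv⟩ := exists_prime_orderOf_dvd_card' p hpd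
    intro hbot
    have hvΩ : (v : X) ∈ Ω := by
      refine ⟨v.2, ?_⟩
      have : v ^ p = 1 := by rw [← hv]; exact pow_orderOf_eq_one v
      have := congrArg Subtype.val this
      simpa using this
    rw [hbot, Subgroup.mem_bot] at hvΩ
    have hv1 : v = 1 := Subtype.ext hvΩ
    rw [hv1, orderOf_one] at hv
    exact (Fact.out : p.Prime).one_lt.ne hv
  rcases hmin Ω hΩn hΩP with h | h
  · exact absurd h hΩne
  · intro x hx
    have : x ∈ Ω := by rw [h]; exact hx
    exact this.2


/-- **`p`-stability** (group form, `D`-version): in a `p`-solvable group without `SL(2,3)`-type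
sections, an element acting quadratically on a normal `p`-subgroup `P` lies in a normal subgroup
acting on `P` as a `p`-group. -/
theorem ps_group {p : ℕ} [Fact p.Prime] (hp2 : p ≠ 2) :
    ∀ (n : ℕ) (X : Type u) [Group X] [Finite X], IsPSolvable p X → NoSL p X →
      ∀ P : Subgroup X, P.Normal → IsPGroup p P → Nat.card P < n →
      ∀ a : X, (∀ v ∈ P, ⁅a, ⁅a, v⁆⁆ = 1) →
      ∃ D : Subgroup X, D.Normal ∧ a ∈ D ∧
        ∀ d ∈ D, ∃ k : ℕ, d ^ (p ^ k) ∈ Subgroup.centralizer (P : Set X) := by
  intro n
  induction n with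
  | zero => intro X _ _ _ _ P _ _ h; exact absurd h (Nat.not_lt_zero _)
  | succ n ih =>
    intro X _ _ hX hNo P hPn hPp hcard a hq
    by_cases hPbot : P = ⊥
    · refine ⟨⊤, inferInstance, Subgroup.mem_top a, fun d _ => ⟨0, ?_⟩⟩
      rw [hPbot, Subgroup.mem_centralizer_iff]
      intro h hh
      have : h = 1 := hh
      rw [this, one_mul, mul_one]
    by_cases hmin : ∃ U : Subgroup X, U.Normal ∧ U ≤ P ∧ U ≠ ⊥ ∧ U ≠ P
    · obtain ⟨U, hUn, hUP, hUbot, hUneP⟩ := hmin
      have hcardU : Nat.card U < n := by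
        have h1 : Nat.card U < Nat.card P := by
          by_contra h
          exact hUneP (Subgroup.eq_of_le_of_card_ge hUP (not_lt.mp h))
        omega
      obtain ⟨D₁, hD₁n, haD₁, hD₁⟩ := ih X hX hNo U hUn (hPp.to_le hUP) hcardU a
        (fun v hv => hq v (hUP hv))
      -- the quotient
      let f := QuotientGroup.mk' U
      have hf : Function.Surjective f := QuotientGroup.mk'_surjective U
      set Pb := P.map f with hPb
      have hPbn : Pb.Normal := hPn.map f hf
      have hPbp : IsPGroup p Pb := hPp.map f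
      have hcardPb : Nat.card Pb < n := by
        have h1 : Nat.card Pb < Nat.card P := by
          classical
          letI : Fintype P := Fintype.ofFinite _
          letI : Fintype Pb := Fintype.ofFinite _
          rw [Nat.card_eq_fintype_card, Nat.card_eq_fintype_card]
          apply Fintype.card_lt_of_surjective_not_injective (f.subgroupMap P)
            (f.subgroupMap_surjective P)
          intro hinj
          obtain ⟨u, hu1⟩ := (Subgroup.ne_bot_iff_exists_ne_one).mp hUbot
          have h2 : f.subgroupMap P ⟨u, hUP u.2⟩ = f.subgroupMap P 1 := by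
            apply Subtype.ext
            rw [map_one]
            show f (u : X) = 1
            exact (QuotientGroup.eq_one_iff _).mpr u.2
          have h3 := hinj h2
          apply hu1
          apply Subtype.ext
          have h4 := congrArg Subtype.val h3
          exact h4
        omega
      have hqb : ∀ v ∈ Pb, ⁅f a, ⁅f a, v⁆⁆ = 1 := by
        rintro _ ⟨v, hv, rfl⟩
        rw [← map_commutatorElement, ← map_commutatorElement, hq v hv, map_one]
      obtain ⟨D₂b, hD₂bn, haD₂b, hD₂b⟩ := ih (X ⧸ U) (isPSolvable_quotient U hX) (hNo.quotient U)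
        Pb hPbn hPbp hcardPb (f a) hqb
      set D₂ := D₂b.comap f with hD₂
      have hD₂n : D₂.Normal := hD₂bn.comap f
      refine ⟨D₁ ⊓ D₂, Subgroup.normal_inf_normal D₁ D₂, ⟨haD₁, haD₂b⟩, ?_⟩
      rintro d ⟨hd1, hd2⟩
      obtain ⟨k₁, hk₁⟩ := hD₁ d hd1
      obtain ⟨k₂, hk₂⟩ := hD₂b (f d) hd2
      set e := d ^ (p ^ (k₁ + k₂)) with he
      have heU : e ∈ Subgroup.centralizer (U : Set X) := by
        have : e = (d ^ (p ^ k₁)) ^ (p ^ k₂) := by rw [he, pow_add, pow_mul]
        rw [this]
        exact Subgroup.pow_mem _ hk₁ _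
      have heP : f e ∈ Subgroup.centralizer (Pb : Set (X ⧸ U)) := by
        have : f e = (f d ^ (p ^ k₂)) ^ (p ^ k₁) := by
          rw [he, map_pow, pow_add, mul_comm, pow_mul]
        rw [this]
        exact Subgroup.pow_mem _ hk₂ _
      -- split the order of `e`
      obtain ⟨j, m, hmp, hjm⟩ := Nat.exists_eq_pow_mul_and_not_dvd (orderOf_pos e).ne' p
        (Fact.out : p.Prime).ne_one
      set y := e ^ (p ^ j) with hy
      have hym : y ^ m = 1 := by
        rw [hy, ← pow_mul, ← hjm, pow_orderOf_eq_one]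
      have hmc : m.Coprime p :=
        ((Nat.Prime.coprime_iff_not_dvd (Fact.out : p.Prime)).mpr hmp).symm
      have hyU : ∀ u ∈ U, y * u = u * y := by
        intro u hu
        have h1 : y ∈ Subgroup.centralizer (U : Set X) := Subgroup.pow_mem _ heU _
        rw [Subgroup.mem_centralizer_iff] at h1
        exact (h1 u hu).symm
      have hyP : ∀ v ∈ P, y * v * y⁻¹ * v⁻¹ ∈ U := by
        intro v hv
        have h1 : f y ∈ Subgroup.centralizer (Pb : Set (X ⧸ U)) := by
          rw [hy, map_pow]; exact Subgroup.pow_mem _ heP _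
        rw [Subgroup.mem_centralizer_iff] at h1
        have h2 := h1 (f v) ⟨v, hv, rfl⟩
        rw [← (QuotientGroup.eq_one_iff (N := U) _)]
        show f (y * v * y⁻¹ * v⁻¹) = 1
        rw [map_mul, map_mul, map_mul, map_inv, map_inv, ← h2]
        group
      have hcen := centralizes_of_chain P U hUP hPp y m hmc hym hyU hyP
      refine ⟨k₁ + k₂ + j, ?_⟩
      have : d ^ (p ^ (k₁ + k₂ + j)) = y := by rw [hy, he, ← pow_mul, ← pow_add]
      rw [this, Subgroup.mem_centralizer_iff]
      intro v hv
      exact (hcen v hv).symm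
    · -- the minimal case
      push Not at hmin
      have hmin' : ∀ U : Subgroup X, U.Normal → U ≤ P → U = ⊥ ∨ U = P := by
        intro U hUn hUP
        by_cases h : U = ⊥
        · left; exact h
        · right; exact hmin U hUn hUP h
      haveI := hPn
      obtain ⟨hPc, hPe⟩ := minimal_normal_elementary P hPp hPbot hmin'
      haveI : IsMulCommutative P := ⟨⟨fun x y => Subtype.ext (hPc x x.2 y y.2)⟩⟩
      have hnt : Nontrivial P := (Subgroup.nontrivial_iff_ne_bot P).mpr hPbot
      let κ : X →* MulAut P := MulAut.conjNormal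
      have hκ : ∀ (g : X) (v : P), ((κ g v : P) : X) = g * v * g⁻¹ := fun g v => rfl
      have hirr : ∀ U' : Subgroup P, (∀ g : X, ∀ v ∈ U', κ g v ∈ U') → U' = ⊥ ∨ U' = ⊤ := by
        intro U' hU'
        have hn : (U'.map P.subtype).Normal := by
          constructor
          rintro _ ⟨v, hv, rfl⟩ g
          exact ⟨κ g v, hU' g v hv, rfl⟩
        rcases hmin' _ hn (Subgroup.map_subtype_le U') with h | h
        · left
          rwa [Subgroup.map_eq_bot_iff_of_injective _ P.subtype_injective] at h
        · right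
          rw [eq_top_iff]
          intro v _
          have : (v : X) ∈ U'.map P.subtype := by rw [h]; exact v.2
          obtain ⟨v', hv', hvv⟩ := this
          have : v' = v := Subtype.ext hvv
          rwa [this] at hv'
      have hqκ : ∀ v : P, κ a (κ a v * v⁻¹) = κ a v * v⁻¹ := by
        intro v
        apply Subtype.ext
        have h1 := hq v v.2
        rw [commutatorElement_def, commutatorElement_def] at h1
        rw [hκ]
        simp only [Subgroup.coe_mul, Subgroup.coe_inv, hκ]
        calc a * (a * (v : X) * a⁻¹ * (v : X)⁻¹) * a⁻¹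
            = (a * (a * (v : X) * a⁻¹ * (v : X)⁻¹) * a⁻¹ * (a * (v : X) * a⁻¹ * (v : X)⁻¹)⁻¹) *
                (a * (v : X) * a⁻¹ * (v : X)⁻¹) := by group
          _ = a * (v : X) * a⁻¹ * (v : X)⁻¹ := by rw [h1, one_mul]
      have hκa := ps_minimal_abstract hp2 hX hNo (fun v : P => Subtype.ext (by
        have := hPe v v.2
        simpa using this)) κ hirr a hqκ
      refine ⟨Subgroup.centralizer (P : Set X), Subgroup.normal_centralizer, ?_, fun d hd => ⟨0, by
        simpa using hd⟩⟩
      rw [Subgroup.mem_centralizer_iff]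
      intro v hv
      have h1 : κ a ⟨v, hv⟩ = ⟨v, hv⟩ := by rw [hκa]; rfl
      have h2 := congrArg Subtype.val h1
      rw [hκ] at h2
      calc v * a = (a * v * a⁻¹) * a := by rw [h2]
        _ = a * v := by group

end Cfsg.Agent.Lib.Helper35.PStab
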