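import Mathlib
import Cfsg.Agent.Lib.Helper35.PStab

set_option autoImplicit false

/-! User-facing forms of `p`-stability for `p`-solvable groups. -/

namespace Cfsg.Agent.Lib.Helper35.PStab

open Cfsg Cfsg.Agent.Lib.Helper76 Cfsg.Agent.Lib.Helper22
open scoped commutatorElement

universe u

/-- quadratic action in elementwise form, from the subgroup commutator form -/
theorem quad_of_commutator {X : Type u} [Group X] (P A : Subgroup X) (h : ⁅⁅P, A⁆, A⁆ = ⊥) :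
    ∀ a ∈ A, ∀ v ∈ P, ⁅a, ⁅a, v⁆⁆ = 1 := by
  intro a ha v hv
  have h1 : ⁅a, v⁆ ∈ ⁅P, A⁆ := by
    rw [← commutatorElement_inv v a]
    exact inv_mem (Subgroup.commutator_mem_commutator hv ha)
  have h2 : ⁅⁅a, v⁆, a⁆ ∈ ⁅⁅P, A⁆, A⁆ := Subgroup.commutator_mem_commutator h1 ha
  rw [h, Subgroup.mem_bot] at h2
  rw [← commutatorElement_inv, h2, inv_one]

theorem pstable_D {p : ℕ} [Fact p.Prime] (hp2 : p ≠ 2) {X : Type u} [Group X] [Finite X]
    (hX : IsPSolvable p X) (hNo : NoSL p X) (P : Subgroup X) [hPn : P.Normal]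
    (hPp : IsPGroup p P) (a : X) (hq : ∀ v ∈ P, ⁅a, ⁅a, v⁆⁆ = 1) :
    ∃ D : Subgroup X, D.Normal ∧ a ∈ D ∧
      ∀ d ∈ D, ∃ k : ℕ, d ^ (p ^ k) ∈ Subgroup.centralizer (P : Set X) :=
  ps_group hp2 (Nat.card P + 1) X hX hNo P hPn hPp (Nat.lt_succ_self _) a hq

/-- **`p`-stability**: a quadratically acting element maps into `O_p(X / C_X(P))`. -/
theorem mem_pCore_quotient {p : ℕ} [Fact p.Prime] (hp2 : p ≠ 2) {X : Type u} [Group X] [Finite X]
    (hX : IsPSolvable p X) (hNo : NoSL p X) (P : Subgroup X) [hPn : P.Normal]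
    (hPp : IsPGroup p P) (a : X) (hq : ∀ v ∈ P, ⁅a, ⁅a, v⁆⁆ = 1) :
    (QuotientGroup.mk a : X ⧸ Subgroup.centralizer (P : Set X)) ∈
      pCore p (X ⧸ Subgroup.centralizer (P : Set X)) := by
  obtain ⟨D, hDn, haD, hD⟩ := pstable_D hp2 hX hNo P hPp a hq
  set C := Subgroup.centralizer (P : Set X) with hC
  have hn : (D.map (QuotientGroup.mk' C)).Normal := hDn.map _ (QuotientGroup.mk'_surjective C)
  have hp : IsPGroup p (D.map (QuotientGroup.mk' C)) := by
    rintro ⟨_, d, hd, rfl⟩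
    obtain ⟨k, hk⟩ := hD d hd
    refine ⟨k, ?_⟩
    apply Subtype.ext
    simp only [Subgroup.coe_pow, Subgroup.coe_one]
    rw [← map_pow]
    exact (QuotientGroup.eq_one_iff _).mpr hk
  exact le_pCore' hn hp ⟨a, haD, rfl⟩

end Cfsg.Agent.Lib.Helper35.PStab
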