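import Mathlib
import Cfsg.Agent.Lib.Helper35.PStabMain

set_option autoImplicit false

/-! `p`-stability on sections, in relative-index form. -/

namespace Cfsg.Agent.Lib.Helper35.PStab

open Cfsg Cfsg.Agent.Lib.Helper76 Cfsg.Agent.Lib.Helper22
open scoped commutatorElement

universe u

/-- quadratic action modulo `N`, elementwise, from the subgroup commutator form -/
theorem quad_of_commutator_le {X : Type u} [Group X] (P A N : Subgroup X)
    (h : ⁅⁅P, A⁆, A⁆ ≤ N) : ∀ a ∈ A, ∀ v ∈ P, ⁅a, ⁅a, v⁆⁆ ∈ N := by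
  intro a ha v hv
  have h1 : ⁅a, v⁆ ∈ ⁅P, A⁆ := by
    rw [← commutatorElement_inv v a]
    exact inv_mem (Subgroup.commutator_mem_commutator hv ha)
  have h2 : ⁅⁅a, v⁆, a⁆ ∈ N := h (Subgroup.commutator_mem_commutator h1 ha)
  rw [← commutatorElement_inv]
  exact inv_mem h2

/-- the preimage of `O_p(X / C)` has `p`-power index over `C` -/
theorem relIndex_comap_pCore {p : ℕ} [Fact p.Prime] {X : Type u} [Group X] [Finite X]
    (C : Subgroup X) [C.Normal] :
    ∃ k : ℕ, C.relIndex ((pCore p (X ⧸ C)).comap (QuotientGroup.mk' C)) = p ^ k := by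
  have h1 : C = (⊥ : Subgroup (X ⧸ C)).comap (QuotientGroup.mk' C) := by
    rw [MonoidHom.comap_bot, QuotientGroup.ker_mk']
  obtain ⟨k, hk⟩ := (pCore_isPGroup' (p := p) (G := X ⧸ C)).exists_card_eq
  refine ⟨k, ?_⟩
  obtain ⟨D, hD⟩ : ∃ D : Subgroup X, D = (pCore p (X ⧸ C)).comap (QuotientGroup.mk' C) :=
    ⟨_, rfl⟩
  rw [← hD]
  have h2 : C.relIndex D = ((⊥ : Subgroup (X ⧸ C)).comap (QuotientGroup.mk' C)).relIndex D :=
    congrArg (fun H : Subgroup X => H.relIndex D) h1
  rw [h2, hD, Subgroup.relIndex_comap,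
    Subgroup.map_comap_eq_self_of_surjective (QuotientGroup.mk'_surjective C),
    Subgroup.relIndex_bot_left, hk]

theorem le_comap_mk' {X : Type u} [Group X] (C : Subgroup X) [C.Normal]
    (H : Subgroup (X ⧸ C)) : C ≤ H.comap (QuotientGroup.mk' C) := by
  intro c hc
  rw [Subgroup.mem_comap]
  have : (QuotientGroup.mk' C) c = 1 := (QuotientGroup.eq_one_iff c).mpr hc
  rw [this]
  exact one_mem _

/-- `p`-stability in relative index form. -/
theorem pstable_relIndex {p : ℕ} [Fact p.Prime] (hp2 : p ≠ 2) {X : Type u} [Group X] [Finite X]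
    (hX : IsPSolvable p X) (hNo : NoSL p X) (P : Subgroup X) [hPn : P.Normal]
    (hPp : IsPGroup p P) (a : X) (hq : ∀ v ∈ P, ⁅a, ⁅a, v⁆⁆ = 1) :
    ∃ D : Subgroup X, D.Normal ∧ Subgroup.centralizer (P : Set X) ≤ D ∧ a ∈ D ∧
      ∃ k : ℕ, (Subgroup.centralizer (P : Set X)).relIndex D = p ^ k := by
  have ha := mem_pCore_quotient hp2 hX hNo P hPp a hq
  exact ⟨(pCore p (X ⧸ Subgroup.centralizer (P : Set X))).comap (QuotientGroup.mk' _),
    Subgroup.Normal.comap inferInstance _, le_comap_mk' _ _, ha, relIndex_comap_pCore _⟩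

/-- `p`-stability on a section `K / N` with `K` a normal `p`-subgroup. -/
theorem pstable_section {p : ℕ} [Fact p.Prime] (hp2 : p ≠ 2) {X : Type u} [Group X] [Finite X]
    (hX : IsPSolvable p X) (hNo : NoSL p X) (K N : Subgroup X) [hKn : K.Normal] [hNn : N.Normal]
    (hKp : IsPGroup p K) : IsPStableOnSection p K N := by
  intro a ha
  have hq := quad_of_commutator_le K (Subgroup.zpowers a) N ha a (Subgroup.mem_zpowers a)
  have hKn' : (K.map (QuotientGroup.mk' N)).Normal :=
    hKn.map _ (QuotientGroup.mk'_surjective N)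
  have hKp' : IsPGroup p (K.map (QuotientGroup.mk' N)) := hKp.map _
  have hq' : ∀ v ∈ K.map (QuotientGroup.mk' N),
      ⁅(QuotientGroup.mk' N a), ⁅(QuotientGroup.mk' N a), v⁆⁆ = 1 := by
    rintro _ ⟨v, hv, rfl⟩
    rw [← map_commutatorElement, ← map_commutatorElement]
    exact (QuotientGroup.eq_one_iff _).mpr (hq v hv)
  obtain ⟨D, hDn, hCD, haD, k, hk⟩ :=
    pstable_relIndex hp2 (isPSolvable_quotient N hX) (hNo.quotient N)
      (K.map (QuotientGroup.mk' N)) hKp' (QuotientGroup.mk' N a) hq'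
  refine ⟨D.comap (QuotientGroup.mk' N), hDn.comap _, ?_, ⟨k, ?_⟩, haD⟩
  · exact Subgroup.comap_mono hCD
  · unfold sectionKernel
    rw [Subgroup.relIndex_comap,
      Subgroup.map_comap_eq_self_of_surjective (QuotientGroup.mk'_surjective N), hk]

end Cfsg.Agent.Lib.Helper35.PStab
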