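import Mathlib
import Cfsg.Agent.Lib.Helper35.QuadAlg

set_option autoImplicit false

/-! Two square-zero endomorphisms `A, B` with `A B` nilpotent generate a nilpotent algebra: the
group generated by `1 + A` and `1 + B` is unipotent. -/

namespace Cfsg.Agent.Lib.Helper35.GenQuad

open Module Cfsg.Agent.Lib.Helper35.QuadAlg

universe u v w

variable {K : Type v} [Field K] {V : Type w} [AddCommGroup V] [Module K V]

/-- the descending chain `V ≥ A V + B V ≥ …` -/
def chain (A B : End K V) : ℕ → Submodule K V
  | 0 => ⊤
  | k + 1 => (chain A B k).map A ⊔ (chain A B k).map B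

theorem chain_succ (A B : End K V) (k : ℕ) :
    chain A B (k + 1) = (chain A B k).map A ⊔ (chain A B k).map B := rfl

theorem chain_anti (A B : End K V) : ∀ k, chain A B (k + 1) ≤ chain A B k := by
  intro k
  induction k with
  | zero => exact le_top
  | succ k ih =>
    rw [chain_succ A B (k + 1), chain_succ A B k]
    exact sup_le_sup (Submodule.map_mono ih) (Submodule.map_mono ih)

theorem chain_le (A B : End K V) {j k : ℕ} (h : j ≤ k) : chain A B k ≤ chain A B j := by
  induction h with
  | refl => exact le_rfl
  | step _ ih => exact (chain_anti A B _).trans ih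

theorem chain_stable [FiniteDimensional K V] (A B : End K V) :
    ∃ k, chain A B (k + 1) = chain A B k := by
  by_contra h
  push Not at h
  have key : ∀ k, finrank K (chain A B k) + k ≤ finrank K V := by
    intro k
    induction k with
    | zero =>
      show finrank K (⊤ : Submodule K V) + 0 ≤ _
      rw [finrank_top, add_zero]
    | succ k ih =>
      have hlt : chain A B (k + 1) < chain A B k := lt_of_le_of_ne (chain_anti A B k) (h k)
      have := Submodule.finrank_lt_finrank_of_lt hlt
      omega
  have := key (finrank K V + 1)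
  omega

theorem map_mul_eq (A B : End K V) (U : Submodule K V) :
    (U.map B).map A = U.map (A * B) := by
  rw [Module.End.mul_eq_comp, Submodule.map_comp]

/-- the chain reaches `⊥` when `A B` and `B A` are nilpotent -/
theorem chain_eq_bot [FiniteDimensional K V] (A B : End K V) (hA : A * A = 0) (hB : B * B = 0)
    (m : ℕ) (hAB : (A * B) ^ m = 0) (hBA : (B * A) ^ m = 0) : ∃ k, chain A B k = ⊥ := by
  obtain ⟨k, hk⟩ := chain_stable A B
  refine ⟨k, ?_⟩
  obtain ⟨U, hU⟩ : ∃ U, U = chain A B k := ⟨_, rfl⟩
  rw [← hU]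
  have hUU : U.map A ⊔ U.map B = U := by rw [hU, ← chain_succ, hk]
  have h1 : U.map A = (U.map B).map A := by
    conv_lhs => rw [← hUU]
    rw [Submodule.map_sup, map_mul_eq, hA, Submodule.map_zero, bot_sup_eq]
  have h2 : U.map B = (U.map A).map B := by
    conv_lhs => rw [← hUU]
    rw [Submodule.map_sup, map_mul_eq B B, hB, Submodule.map_zero, sup_bot_eq]
  have h3 : U.map A = (U.map A).map (A * B) := by
    conv_lhs => rw [h1, h2]
    rw [map_mul_eq]
  have h4 : U.map B = (U.map B).map (B * A) := by
    conv_lhs => rw [h2, h1]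
    rw [map_mul_eq]
  have h5 : ∀ i : ℕ, U.map A = (U.map A).map ((A * B) ^ i) := by
    intro i
    induction i with
    | zero => rw [pow_zero, Module.End.one_eq_id, Submodule.map_id]
    | succ i ih =>
      conv_lhs => rw [ih, h3]
      rw [map_mul_eq, ← pow_succ]
  have h6 : ∀ i : ℕ, U.map B = (U.map B).map ((B * A) ^ i) := by
    intro i
    induction i with
    | zero => rw [pow_zero, Module.End.one_eq_id, Submodule.map_id]
    | succ i ih =>
      conv_lhs => rw [ih, h4]
      rw [map_mul_eq, ← pow_succ]
  have h7 : U.map A = ⊥ := by rw [h5 m, hAB, Submodule.map_zero]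
  have h8 : U.map B = ⊥ := by rw [h6 m, hBA, Submodule.map_zero]
  rw [← hUU, h7, h8, sup_bot_eq]

/-- `h` acts trivially on the factors of the chain -/
def ActsTriv (A B : End K V) (f : End K V) : Prop :=
  ∀ (j : ℕ) (v : V), v ∈ chain A B j → f v - v ∈ chain A B (j + 1)

theorem ActsTriv.mul {A B f g : End K V} (hf : ActsTriv A B f) (hg : ActsTriv A B g) :
    ActsTriv A B (f * g) := by
  intro j v hv
  have h1 := hg j v hv
  have h2 := hf (j + 1) _ h1
  have h3 := hf j v hv
  have e : (f * g) v - v = (f (g v - v) - (g v - v)) + (g v - v) + (f v - v) := by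
    rw [Module.End.mul_apply, map_sub]
    abel
  rw [e]
  exact add_mem (add_mem (chain_anti A B (j + 1) h2) h1) h3

theorem actsTriv_one_add (A B : End K V) : ActsTriv A B (1 + A) := by
  intro j v hv
  have : (1 + A) v - v = A v := by simp
  rw [this, chain_succ]
  exact Submodule.mem_sup_left (Submodule.mem_map_of_mem hv)

theorem actsTriv_one_sub (A B : End K V) : ActsTriv A B (1 - A) := by
  intro j v hv
  have : (1 - A) v - v = -(A v) := by simp
  rw [this, chain_succ]
  exact neg_mem (Submodule.mem_sup_left (Submodule.mem_map_of_mem hv))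

theorem actsTriv_one_add' (A B : End K V) : ActsTriv A B (1 + B) := by
  intro j v hv
  have : (1 + B) v - v = B v := by simp
  rw [this, chain_succ]
  exact Submodule.mem_sup_right (Submodule.mem_map_of_mem hv)

theorem actsTriv_one_sub' (A B : End K V) : ActsTriv A B (1 - B) := by
  intro j v hv
  have : (1 - B) v - v = -(B v) := by simp
  rw [this, chain_succ]
  exact neg_mem (Submodule.mem_sup_right (Submodule.mem_map_of_mem hv))

theorem ActsTriv.pow_mem {A B f : End K V} (hf : ActsTriv A B f) (j : ℕ) (v : V) :
    ((f - 1) ^ j) v ∈ chain A B j := by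
  induction j with
  | zero => exact Submodule.mem_top
  | succ j ih =>
    rw [pow_succ', Module.End.mul_apply, LinearMap.sub_apply, Module.End.one_apply]
    exact hf j _ ih

/-- the inverse of `ρ a = 1 + A` -/
theorem map_inv_eq {H : Type u} [Group H] (ρ : H →* End K V) (a : H) (A : End K V)
    (hρa : ρ a = 1 + A) (hA : A * A = 0) : ρ a⁻¹ = 1 - A := by
  have h1 : ρ a * (1 - A) = 1 := by rw [hρa]; exact one_add_mul_one_sub A hA
  have h2 : ρ a⁻¹ * ρ a = 1 := by rw [← map_mul, inv_mul_cancel, map_one]
  calc ρ a⁻¹ = ρ a⁻¹ * (ρ a * (1 - A)) := by rw [h1, mul_one]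
    _ = (ρ a⁻¹ * ρ a) * (1 - A) := (mul_assoc _ _ _).symm
    _ = 1 - A := by rw [h2, one_mul]

/-- if the chain reaches `⊥`, the group generated by `a, b` acts unipotently -/
theorem sub_one_pow_eq_zero {H : Type u} [Group H] (ρ : H →* End K V) (a b : H)
    (hgen : Subgroup.closure {a, b} = ⊤) (A B : End K V) (hρa : ρ a = 1 + A)
    (hρb : ρ b = 1 + B) (hA : A * A = 0) (hB : B * B = 0) (k : ℕ) (hk : chain A B k = ⊥)
    (d : H) : (ρ d - 1) ^ k = 0 := by
  have hd : d ∈ Subgroup.closure {a, b} := by rw [hgen]; exact Subgroup.mem_top d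
  have key : ActsTriv A B (ρ d) ∧ ActsTriv A B (ρ d⁻¹) := by
    induction hd using Subgroup.closure_induction with
    | mem g hg =>
      rcases hg with rfl | hg
      · rw [map_inv_eq ρ g A hρa hA, hρa]
        exact ⟨actsTriv_one_add A B, actsTriv_one_sub A B⟩
      · rw [Set.mem_singleton_iff] at hg
        subst hg
        rw [map_inv_eq ρ g B hρb hB, hρb]
        exact ⟨actsTriv_one_add' A B, actsTriv_one_sub' A B⟩
    | one =>
      rw [inv_one, map_one]
      have : ActsTriv A B (1 : End K V) := by
        intro j v _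
        simp
      exact ⟨this, this⟩
    | mul g h _ _ ihg ihh =>
      rw [mul_inv_rev, map_mul, map_mul]
      exact ⟨ihg.1.mul ihh.1, ihh.2.mul ihg.2⟩
    | inv g _ ih =>
      rw [inv_inv]
      exact ⟨ih.2, ih.1⟩
  apply LinearMap.ext
  intro v
  have := key.1.pow_mem k v
  rw [hk, Submodule.mem_bot] at this
  rw [this, LinearMap.zero_apply]

end Cfsg.Agent.Lib.Helper35.GenQuad
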