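import Mathlib
import Cfsg.Agent.Lib.Helper35.Quad2Mat

set_option autoImplicit false

/-! Matrix facts used for subgroups of odd order of `GL(2, F)`. -/

namespace Cfsg.Agent.Lib.Helper35.OddGL2

open Matrix Cfsg.Agent.Lib.Helper35.Quad2

variable {F : Type*} [Field F]

/-- Cayley–Hamilton for determinant one. -/
theorem mul_self_eq (z : Matrix (Fin 2) (Fin 2) F) (hd : z.det = 1) :
    z * z = z.trace • z - 1 := by
  rw [Matrix.det_fin_two] at hd
  ext i j
  fin_cases i <;> fin_cases j <;>
    simp [Matrix.mul_apply, Fin.sum_univ_two, Matrix.trace_fin_two]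
  · linear_combination -hd
  · ring
  · ring
  · linear_combination -hd

/-- two commuting matrices of determinant one with the same trace `t`, `t ^ 2 ≠ 4`: equal or
inverse to each other -/
theorem eq_or_mul_eq_one (h2 : (2 : F) ≠ 0) (z w : Matrix (Fin 2) (Fin 2) F) (hdz : z.det = 1)
    (hdw : w.det = 1) (htr : w.trace = z.trace) (ht : z.trace ^ 2 ≠ 4) (α β : F)
    (hw : w = α • (1 : Matrix (Fin 2) (Fin 2) F) + β • z) : w = z ∨ w * z = 1 := by
  have hz := hdz
  rw [Matrix.det_fin_two] at hz
  have hw' := hdw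
  rw [hw, Matrix.det_fin_two] at hw'
  simp at hw'
  have htr' := htr
  rw [hw, Matrix.trace_fin_two, Matrix.trace_fin_two] at htr'
  simp at htr'
  have key : (1 - β ^ 2) * ((z 0 0 + z 1 1) ^ 2 - 4) = 0 := by
    linear_combination (4 : F) * hw' - 4 * β ^ 2 * hz -
      (2 * α + β * (z 0 0 + z 1 1) + (z 0 0 + z 1 1)) * htr'
  have hβ : β ^ 2 = 1 := by
    rcases mul_eq_zero.mp key with h | h
    · linear_combination -h
    · exfalso
      apply ht
      rw [Matrix.trace_fin_two]
      linear_combination h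
  have hβ' : β = 1 ∨ β = -1 := by
    have : (β - 1) * (β + 1) = 0 := by linear_combination hβ
    rcases mul_eq_zero.mp this with h | h
    · left; linear_combination h
    · right; linear_combination h
  rcases hβ' with h | h
  · left
    have hα : α = 0 := by
      have : (2 : F) * α = 0 := by rw [h] at htr'; linear_combination htr'
      rcases mul_eq_zero.mp this with h' | h'
      · exact absurd h' h2
      · exact h'
    rw [hw, hα, h, zero_smul, zero_add, one_smul]
  · right
    have hα : α = z 0 0 + z 1 1 := by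
      have : (2 : F) * (α - (z 0 0 + z 1 1)) = 0 := by rw [h] at htr'; linear_combination htr'
      rcases mul_eq_zero.mp this with h' | h'
      · exact absurd h' h2
      · linear_combination h'
    rw [hw, hα, h]
    ext i j
    fin_cases i <;> fin_cases j <;>
      simp [Matrix.mul_apply, Fin.sum_univ_two]
    · linear_combination hz
    · ring
    · ring
    · linear_combination hz

/-- for determinant one and `t ^ 2 = 4`, the square is unipotent -/
theorem sq_sub_one_sq (z : Matrix (Fin 2) (Fin 2) F) (hd : z.det = 1) (ht : z.trace ^ 2 = 4) :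
    (z * z - 1) * (z * z - 1) = 0 := by
  rw [Matrix.det_fin_two] at hd
  rw [Matrix.trace_fin_two] at ht
  ext i j
  fin_cases i <;> fin_cases j <;>
    simp [Matrix.mul_apply, Fin.sum_univ_two]
  · linear_combination (z 0 0 * (z 0 0 + z 1 1) - 1) * ht +
      (-2 * (z 0 0 * (z 0 0 + z 1 1) - 2) + (z 0 0 * z 1 1 - z 0 1 * z 1 0 - 1) -
        (z 0 0 + z 1 1) ^ 2) * hd
  · linear_combination (z 0 1 * (z 0 0 + z 1 1)) * ht - 2 * z 0 1 * (z 0 0 + z 1 1) * hd
  · linear_combination (z 1 0 * (z 0 0 + z 1 1)) * ht - 2 * z 1 0 * (z 0 0 + z 1 1) * hd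
  · linear_combination (z 1 1 * (z 0 0 + z 1 1) - 1) * ht +
      (-2 * (z 1 1 * (z 0 0 + z 1 1) - 2) + (z 0 0 * z 1 1 - z 0 1 * z 1 0 - 1) -
        (z 0 0 + z 1 1) ^ 2) * hd

/-- an element of determinant one and of order prime to `2 p` other than `1` has
`t ^ 2 ≠ 4` -/
theorem trace_sq_ne_four {p : ℕ} [Fact p.Prime] [CharP F p] (z : Matrix (Fin 2) (Fin 2) F)
    (hd : z.det = 1) (n : ℕ) (hn : z ^ n = 1) (hodd : Odd n) (hnp : n.Coprime p) (hz1 : z ≠ 1) :
    z.trace ^ 2 ≠ 4 := by
  intro ht
  have hsq := sq_sub_one_sq z hd ht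
  have hp2 : 2 ≤ p := (Fact.out : p.Prime).two_le
  have hpow : (z * z - 1) ^ p = 0 := by
    obtain ⟨k, rfl⟩ : ∃ k, p = 2 + k := ⟨p - 2, by omega⟩
    rw [pow_add, pow_two, hsq, zero_mul]
  have hzz : (z * z) ^ p = 1 := by
    have h1 := sub_pow_char_of_commute (p := p) (Commute.one_right (z * z))
    rw [hpow, one_pow] at h1
    exact (sub_eq_zero.mp h1.symm)
  have h2p : z ^ (2 * p) = 1 := by
    rw [pow_mul, pow_two]
    exact hzz
  have h1 : orderOf z ∣ n := orderOf_dvd_of_pow_eq_one hn
  have h2 : orderOf z ∣ 2 * p := orderOf_dvd_of_pow_eq_one h2p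
  have hcop : n.Coprime (2 * p) :=
    Nat.Coprime.mul_right (Nat.Coprime.symm (Nat.coprime_two_left.mpr hodd)) hnp
  have h3 : orderOf z ∣ 1 := by
    have := Nat.dvd_gcd h1 h2
    rwa [hcop] at this
  exact hz1 (orderOf_eq_one_iff.mp (Nat.dvd_one.mp h3))

/-- a `p`-element in characteristic `p` fixes a nonzero vector -/
theorem exists_fixed {p : ℕ} [Fact p.Prime] [CharP F p] (U : Matrix (Fin 2) (Fin 2) F) (k : ℕ)
    (hU : U ^ (p ^ k) = 1) : ∃ v : Fin 2 → F, v ≠ 0 ∧ U.mulVec v = v := by
  have h1 : (U - 1) ^ (p ^ k) = 0 := by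
    rw [sub_pow_char_pow_of_commute p k (Commute.one_right U), hU, one_pow, sub_self]
  have h2 : (U - 1).det = 0 := by
    have := congrArg Matrix.det h1
    rw [Matrix.det_pow, Matrix.det_zero] at this
    exact pow_eq_zero_iff (pow_ne_zero _ (Fact.out : p.Prime).ne_zero) |>.mp this
  obtain ⟨v, hv0, hv⟩ := Matrix.exists_mulVec_eq_zero_iff.mpr h2
  refine ⟨v, hv0, ?_⟩
  rw [Matrix.sub_mulVec, Matrix.one_mulVec, sub_eq_zero] at hv
  exact hv

/-- the fixed vectors of a nonidentity matrix with a nonzero fixed vector form a line -/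
theorem mem_span_of_fixed (U : Matrix (Fin 2) (Fin 2) F) (hU : U ≠ 1) (v w : Fin 2 → F)
    (hv0 : v ≠ 0) (hv : U.mulVec v = v) (hw : U.mulVec w = w) :
    w ∈ Submodule.span F {v} := by
  rw [Submodule.mem_span_singleton]
  have v0 := congrFun hv 0
  have v1 := congrFun hv 1
  have w0 := congrFun hw 0
  have w1 := congrFun hw 1
  simp [Matrix.mulVec, dotProduct, Fin.sum_univ_two] at v0 v1 w0 w1
  have hD : v 0 * w 1 - v 1 * w 0 = 0 := by
    by_contra hD
    apply hU
    have a00 : (U 0 0 - 1) * (v 0 * w 1 - v 1 * w 0) = 0 := by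
      linear_combination w 1 * v0 - v 1 * w0
    have a01 : U 0 1 * (v 0 * w 1 - v 1 * w 0) = 0 := by
      linear_combination v 0 * w0 - w 0 * v0
    have a10 : U 1 0 * (v 0 * w 1 - v 1 * w 0) = 0 := by
      linear_combination w 1 * v1 - v 1 * w1
    have a11 : (U 1 1 - 1) * (v 0 * w 1 - v 1 * w 0) = 0 := by
      linear_combination v 0 * w1 - w 0 * v1
    have b00 := (mul_eq_zero.mp a00).resolve_right hD
    have b01 := (mul_eq_zero.mp a01).resolve_right hD
    have b10 := (mul_eq_zero.mp a10).resolve_right hD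
    have b11 := (mul_eq_zero.mp a11).resolve_right hD
    ext i j
    fin_cases i <;> fin_cases j <;> simp
    · linear_combination b00
    · exact b01
    · exact b10
    · linear_combination b11
  by_cases h0 : v 0 = 0
  · have h1 : v 1 ≠ 0 := by
      intro h1
      apply hv0
      ext i
      fin_cases i <;> simp [h0, h1]
    have hw0 : w 0 = 0 := by
      rw [h0] at hD
      have : v 1 * w 0 = 0 := by linear_combination -hD
      exact (mul_eq_zero.mp this).resolve_left h1
    refine ⟨w 1 / v 1, ?_⟩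
    ext i
    fin_cases i <;> simp [h0, hw0]
    exact div_mul_cancel₀ _ h1
  · refine ⟨w 0 / v 0, ?_⟩
    ext i
    fin_cases i <;> simp
    · exact div_mul_cancel₀ _ h0
    · field_simp
      linear_combination -hD

end Cfsg.Agent.Lib.Helper35.OddGL2
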