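import Mathlib
import Cfsg.Agent.Lib.Helper35.OddGL2Mat
import Cfsg.Agent.Lib.Helper35.Quad2Group

set_option autoImplicit false

/-! Finite groups of odd order of `2 × 2` matrices of determinant one in characteristic `p`:
the `p`-elements form a subgroup. -/

namespace Cfsg.Agent.Lib.Helper35.OddGL2

open Matrix Cfsg.Agent.Lib.Helper35.Quad2

universe u

variable {F : Type*} [Field F]

section basic

variable {K : Type u} [Group K] [Finite K] (φ : K →* Matrix (Fin 2) (Fin 2) F)
  (hφ : Function.Injective φ) (hdet : ∀ k, (φ k).det = 1) (hodd : Odd (Nat.card K))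

include hφ hdet hodd

omit [Finite K] in
/-- nonidentity elements are not scalar -/
theorem not_isScalar {k : K} (hk : k ≠ 1) : ¬ IsScalar (φ k) := by
  rintro ⟨s, hs⟩
  have hd := hdet k
  rw [hs] at hd
  have hs2 : s * s = 1 := by
    rw [Matrix.det_fin_two] at hd
    simpa using hd
  have hkk : φ (k * k) = 1 := by
    rw [map_mul, hs, smul_mul_assoc, one_mul, smul_smul, hs2, one_smul]
  have hk2 : k * k = 1 := hφ (by rw [hkk, map_one])
  have h2' : orderOf k ∣ 2 := orderOf_dvd_of_pow_eq_one (by rw [pow_two]; exact hk2)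
  have h3 : orderOf k ∣ Nat.card K := orderOf_dvd_natCard k
  have hoddk : Odd (orderOf k) := Odd.of_dvd_nat hodd h3
  have h1 : orderOf k = 1 := by
    rcases (Nat.dvd_prime Nat.prime_two).mp h2' with h | h
    · exact h
    · rw [h] at hoddk
      exact absurd hoddk (by decide)
  exact hk (orderOf_eq_one_iff.mp h1)

omit [Finite K] in
/-- the centralizer of a nonidentity element is commutative -/
theorem commute_of_commute {z x y : K} (hz : z ≠ 1) (hx : x * z = z * x)
    (hy : y * z = z * y) : x * y = y * x := by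
  have hns := not_isScalar φ hφ hdet hodd hz
  obtain ⟨α, β, hxe⟩ := exists_eq_add_of_commute (φ z) (φ x) hns
    (by rw [← map_mul, ← map_mul, hx])
  obtain ⟨α', β', hye⟩ := exists_eq_add_of_commute (φ z) (φ y) hns
    (by rw [← map_mul, ← map_mul, hy])
  apply hφ
  rw [map_mul, map_mul, hxe, hye]
  simp only [add_mul, mul_add, smul_mul_assoc, mul_smul_comm, one_mul, mul_one]
  module

/-- the hypothesis of the transfer theorem of Burnside holds for the primes other than `p` -/
theorem normalizer_le_centralizer {p : ℕ} [Fact p.Prime] [CharP F p] (hp2 : p ≠ 2) {r : ℕ}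
    [Fact r.Prime] (hrp : r ≠ p) (R : Sylow r K) :
    Subgroup.normalizer (R : Set K) ≤ Subgroup.centralizer (R : Set K) := by
  intro g hg
  rw [Subgroup.mem_centralizer_iff]
  intro y hy
  have hy' : y ∈ (R : Subgroup K) := hy
  by_cases hy1 : y = 1
  · rw [hy1, one_mul, mul_one]
  have h2 : (2 : F) ≠ 0 := two_ne_zero_of_charP hp2
  have hRab : ∀ a ∈ (R : Subgroup K), ∀ b ∈ (R : Subgroup K), a * b = b * a := by
    have : Nontrivial ↥(R : Subgroup K) :=
      ⟨⟨⟨y, hy'⟩, 1, fun h => hy1 (congrArg Subtype.val h)⟩⟩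
    have := R.2.center_nontrivial
    obtain ⟨z, hz1⟩ := exists_ne (1 : Subgroup.center ↥(R : Subgroup K))
    intro a ha b hb
    have hza := Subgroup.mem_center_iff.mp z.2 ⟨a, ha⟩
    have hzb := Subgroup.mem_center_iff.mp z.2 ⟨b, hb⟩
    have hz1' : ((z : ↥(R : Subgroup K)) : K) ≠ 1 := by
      intro h
      apply hz1
      apply Subtype.ext
      apply Subtype.ext
      simpa using h
    exact commute_of_commute φ hφ hdet hodd hz1' (congrArg Subtype.val hza)
      (congrArg Subtype.val hzb)
  obtain ⟨w, hw⟩ : ∃ w : K, w = g * y * g⁻¹ := ⟨_, rfl⟩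
  have hwR : w ∈ (R : Subgroup K) := by
    rw [hw]
    exact (Subgroup.mem_normalizer_iff.mp hg y).mp hy'
  have hwy : w * y = y * w := hRab w hwR y hy'
  have hns := not_isScalar φ hφ hdet hodd hy1
  obtain ⟨α, β, hwe⟩ := exists_eq_add_of_commute (φ y) (φ w) hns
    (by rw [← map_mul, ← map_mul, hwy])
  have htr : (φ w).trace = (φ y).trace := by
    rw [hw, map_mul, Matrix.trace_mul_comm, ← map_mul, ← mul_assoc, inv_mul_cancel, one_mul]
  have hne4 : (φ y).trace ^ 2 ≠ 4 := by
    refine trace_sq_ne_four (p := p) (φ y) (hdet y) (orderOf y) ?_ ?_ ?_ ?_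
    · rw [← map_pow, pow_orderOf_eq_one, map_one]
    · exact Odd.of_dvd_nat hodd (orderOf_dvd_natCard y)
    · obtain ⟨k, hk⟩ := R.2 ⟨y, hy'⟩
      have hk' : y ^ (r ^ k) = 1 := by simpa using congrArg Subtype.val hk
      have hdvd : orderOf y ∣ r ^ k := orderOf_dvd_of_pow_eq_one hk'
      have hcop : (r ^ k).Coprime p :=
        Nat.Coprime.pow_left k ((Nat.coprime_primes Fact.out Fact.out).mpr hrp)
      exact Nat.Coprime.coprime_dvd_left hdvd hcop
    · intro h
      exact hy1 (hφ (by rw [h, map_one]))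
  rcases eq_or_mul_eq_one h2 (φ y) (φ w) (hdet y) (hdet w) htr hne4 α β hwe with h | h
  · have hwy' : w = y := hφ h
    rw [hw] at hwy'
    calc y * g = g * y * g⁻¹ * g := by rw [hwy']
      _ = g * y := by group
  · have hwy1 : w * y = 1 := hφ (by rw [map_mul, h, map_one])
    rw [hw] at hwy1
    have hinv : g * y * g⁻¹ = y⁻¹ := eq_inv_of_mul_eq_one_left hwy1
    have hinv' : g * y⁻¹ * g⁻¹ = y := by
      have h5 : (g * y * g⁻¹)⁻¹ = y := by rw [hinv, inv_inv]
      calc g * y⁻¹ * g⁻¹ = (g * y * g⁻¹)⁻¹ := by group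
        _ = y := h5
    have hgg : g * g * y = y * (g * g) := by
      have e1 : g * y = y⁻¹ * g := by
        calc g * y = g * y * g⁻¹ * g := by group
          _ = y⁻¹ * g := by rw [hinv]
      have e2 : g * y⁻¹ = y * g := by
        calc g * y⁻¹ = g * y⁻¹ * g⁻¹ * g := by group
          _ = y * g := by rw [hinv']
      calc g * g * y = g * (g * y) := by group
        _ = g * (y⁻¹ * g) := by rw [e1]
        _ = (g * y⁻¹) * g := by group
        _ = y * g * g := by rw [e2]
        _ = y * (g * g) := by group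
    have hc : Commute (g * g) y := hgg
    have hgodd : Odd (orderOf g) := Odd.of_dvd_nat hodd (orderOf_dvd_natCard g)
    obtain ⟨k, hk⟩ := hgodd
    have hgp : (g * g) ^ (k + 1) = g := by
      rw [← pow_two, ← pow_mul, show 2 * (k + 1) = orderOf g + 1 by omega, pow_succ,
        pow_orderOf_eq_one, one_mul]
    have := hc.pow_left (k + 1)
    rw [hgp] at this
    exact this.eq.symm

end basic

/-- In a finite group of odd order of `2 × 2` matrices of determinant one over a field of odd
characteristic `p`, the `p`-elements form a subgroup. -/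
theorem exists_pElements_subgroup {p : ℕ} [Fact p.Prime] [CharP F p] (hp2 : p ≠ 2) :
    ∀ (n : ℕ) (K : Type u) [Group K] [Finite K], Nat.card K = n → Odd (Nat.card K) →
      ∀ φ : K →* Matrix (Fin 2) (Fin 2) F, Function.Injective φ → (∀ k, (φ k).det = 1) →
        ∃ M : Subgroup K, ∀ g : K, g ∈ M ↔ ∃ j : ℕ, g ^ (p ^ j) = 1 := by
  intro n
  induction n using Nat.strong_induction_on with
  | _ n ih =>
    intro K _ _ hn hodd φ hφ hdet
    by_cases hK : IsPGroup p K
    · exact ⟨⊤, fun g => ⟨fun _ => hK g, fun _ => Subgroup.mem_top g⟩⟩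
    -- a prime `r ≠ p` dividing the order
    obtain ⟨r, hr, hrK, hrp⟩ : ∃ r : ℕ, r.Prime ∧ r ∣ Nat.card K ∧ r ≠ p := by
      by_contra hcon
      push Not at hcon
      apply hK
      have hpos : Nat.card K ≠ 0 := Nat.card_pos.ne'
      have := Nat.eq_prime_pow_of_unique_prime_dvd hpos (fun {d} hd hdK => hcon d hd hdK)
      exact IsPGroup.of_card this
    have : Fact r.Prime := ⟨hr⟩
    obtain ⟨R⟩ : Nonempty (Sylow r K) := inferInstance
    have hR := normalizer_le_centralizer φ hφ hdet hodd hp2 hrp R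
    obtain ⟨f, hf⟩ : ∃ f : K →* ↥(R : Subgroup K), f = MonoidHom.transferSylow R hR := ⟨_, rfl⟩
    have hcompl : Subgroup.IsComplement' f.ker (R : Subgroup K) := by
      rw [hf]
      exact MonoidHom.ker_transferSylow_isComplement' R hR
    have hcard : Nat.card f.ker * Nat.card (R : Subgroup K) = Nat.card K := hcompl.card_mul_card
    have hRcard : 1 < Nat.card (R : Subgroup K) := by
      have hne : (R : Subgroup K) ≠ ⊥ := R.ne_bot_of_dvd_card hrK
      exact (Subgroup.one_lt_card_iff_ne_bot _).mpr hne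
    have hlt : Nat.card f.ker < n := by
      rw [← hn, ← hcard]
      have hpos : 0 < Nat.card f.ker := Nat.card_pos
      nlinarith
    have hodd' : Odd (Nat.card f.ker) :=
      Odd.of_dvd_nat hodd (Subgroup.card_subgroup_dvd_card _)
    obtain ⟨M', hM'⟩ := ih _ hlt ↥f.ker rfl hodd' (φ.comp f.ker.subtype)
      (hφ.comp Subtype.val_injective) (fun k => hdet _)
    refine ⟨M'.map f.ker.subtype, fun g => ⟨?_, ?_⟩⟩
    · rintro ⟨g', hg', rfl⟩
      obtain ⟨j, hj⟩ := (hM' g').mp hg'
      refine ⟨j, ?_⟩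
      have := congrArg Subtype.val hj
      simpa using this
    · rintro ⟨j, hj⟩
      have hfg : f g = 1 := by
        have h1 : (f g) ^ (p ^ j) = 1 := by rw [← map_pow, hj, map_one]
        obtain ⟨k, hk⟩ := R.2 (f g)
        have hd1 : orderOf (f g) ∣ p ^ j := orderOf_dvd_of_pow_eq_one h1
        have hd2 : orderOf (f g) ∣ r ^ k := orderOf_dvd_of_pow_eq_one hk
        have hcop : (p ^ j).Coprime (r ^ k) :=
          Nat.Coprime.pow j k ((Nat.coprime_primes Fact.out Fact.out).mpr (Ne.symm hrp))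
        have hd3 : orderOf (f g) ∣ 1 := by
          have := Nat.dvd_gcd hd1 hd2
          rwa [hcop] at this
        exact orderOf_eq_one_iff.mp (Nat.dvd_one.mp hd3)
      have hgk : g ∈ f.ker := hfg
      refine ⟨⟨g, hgk⟩, (hM' ⟨g, hgk⟩).mpr ⟨j, ?_⟩, rfl⟩
      apply Subtype.ext
      simpa using hj

/-- a finite group of matrices with a nontrivial normal `p`-subgroup leaves a line invariant -/
theorem exists_invariant_line {p : ℕ} [Fact p.Prime] [CharP F p] {X : Type u} [Group X]
    [Finite X] (ψ : X →* Matrix (Fin 2) (Fin 2) F) (hψ : Function.Injective ψ)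
    (M : Subgroup X) [hMn : M.Normal] (hM : IsPGroup p M) (hne : M ≠ ⊥) :
    ∃ v : Fin 2 → F, v ≠ 0 ∧ ∀ h : X, (ψ h).mulVec v ∈ Submodule.span F {v} := by
  have : Nontrivial ↥M := (Subgroup.nontrivial_iff_ne_bot M).mpr hne
  have := hM.center_nontrivial
  obtain ⟨z, hz1⟩ := exists_ne (1 : Subgroup.center ↥M)
  obtain ⟨u, hu⟩ : ∃ u : X, u = ((z : ↥M) : X) := ⟨_, rfl⟩
  have huM : u ∈ M := by rw [hu]; exact (z : ↥M).2
  have hu1 : u ≠ 1 := by
    intro h
    apply hz1
    apply Subtype.ext
    apply Subtype.ext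
    rw [hu] at h
    simpa using h
  have hucomm : ∀ m ∈ M, m * u = u * m := by
    intro m hm
    have := Subgroup.mem_center_iff.mp z.2 ⟨m, hm⟩
    have := congrArg Subtype.val this
    rw [hu]
    simpa using this
  have hψu : ψ u ≠ 1 := fun h => hu1 (hψ (by rw [h, map_one]))
  obtain ⟨k, hk⟩ := hM ⟨u, huM⟩
  have hk' : u ^ (p ^ k) = 1 := by simpa using congrArg Subtype.val hk
  obtain ⟨v, hv0, hv⟩ := exists_fixed (p := p) (ψ u) k (by rw [← map_pow, hk', map_one])
  -- `M` fixes `v`
  have hMv : ∀ m ∈ M, (ψ m).mulVec v = v := by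
    intro m hm
    have h1 : (ψ u).mulVec ((ψ m).mulVec v) = (ψ m).mulVec v := by
      rw [Matrix.mulVec_mulVec, ← map_mul, ← hucomm m hm, map_mul, ← Matrix.mulVec_mulVec, hv]
    have h2 := mem_span_of_fixed (ψ u) hψu v _ hv0 hv h1
    obtain ⟨c, hc⟩ := Submodule.mem_span_singleton.mp h2
    obtain ⟨j, hj⟩ := hM ⟨m, hm⟩
    have hj' : m ^ (p ^ j) = 1 := by simpa using congrArg Subtype.val hj
    have hpow : ∀ i : ℕ, (ψ m ^ i).mulVec v = c ^ i • v := by
      intro i
      induction i with
      | zero => simp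
      | succ i ihi =>
        rw [pow_succ, ← Matrix.mulVec_mulVec, ← hc, Matrix.mulVec_smul, ihi, smul_smul,
          pow_succ, mul_comm]
    have h3 := hpow (p ^ j)
    rw [← map_pow, hj', map_one, Matrix.one_mulVec] at h3
    have hc1 : c ^ (p ^ j) = 1 := by
      by_contra hne'
      apply hv0
      have h4 : (c ^ (p ^ j) - 1) • v = 0 := by
        rw [sub_smul, one_smul, ← h3, sub_self]
      rcases smul_eq_zero.mp h4 with h5 | h5
      · exact absurd (sub_eq_zero.mp h5) hne'
      · exact h5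
    have hc' : c = 1 := by
      have h5 : (c - 1) ^ (p ^ j) = 0 := by
        rw [sub_pow_char_pow, hc1, one_pow, sub_self]
      have := pow_eq_zero_iff (pow_ne_zero _ (Fact.out : p.Prime).ne_zero) |>.mp h5
      linear_combination this
    rw [← hc, hc', one_smul]
  refine ⟨v, hv0, fun h => ?_⟩
  apply mem_span_of_fixed (ψ u) hψu v _ hv0 hv
  have h1 : h⁻¹ * u * h ∈ M := by
    have := hMn.conj_mem u huM h⁻¹
    simpa using this
  have h2 := hMv _ h1
  have h3 : u * h = h * (h⁻¹ * u * h) := by group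
  rw [Matrix.mulVec_mulVec, ← map_mul, h3, map_mul, ← Matrix.mulVec_mulVec, h2]

end Cfsg.Agent.Lib.Helper35.OddGL2
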