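import Mathlib
import Cfsg.Agent.Lib.Helper35.GenCore

set_option autoImplicit false

/-! A finite group generated by two elements represented by `[[1,l],[0,1]]` and `[[1,0],[1,1]]`
(with `l ≠ 0`) in odd characteristic has a nonabelian `2`-subgroup. -/

namespace Cfsg.Agent.Lib.Helper35.GenQuad

open Module Matrix Cfsg.Agent.Lib.Helper35.Quad2 Cfsg.Agent.Lib.Helper35.OddGL2

universe u v

variable {K : Type v} [Field K]

theorem upper_pow (l : K) (n : ℕ) : (!![1, l; 0, 1] : Matrix (Fin 2) (Fin 2) K) ^ n =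
    !![1, n * l; 0, 1] := by
  induction n with
  | zero =>
    ext i j
    fin_cases i <;> fin_cases j <;> simp
  | succ n ih =>
    rw [pow_succ, ih]
    ext i j
    fin_cases i <;> fin_cases j <;> simp [Matrix.mul_apply, Fin.sum_univ_two]
    ring

theorem lower_pow (n : ℕ) : (!![1, 0; 1, 1] : Matrix (Fin 2) (Fin 2) K) ^ n =
    !![1, 0; (n : K), 1] := by
  induction n with
  | zero =>
    ext i j
    fin_cases i <;> fin_cases j <;> simp
  | succ n ih =>
    rw [pow_succ, ih]
    ext i j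
    fin_cases i <;> fin_cases j <;> simp [Matrix.mul_apply, Fin.sum_univ_two]

theorem upper_pow_char {p : ℕ} [CharP K p] (l : K) :
    (!![1, l; 0, 1] : Matrix (Fin 2) (Fin 2) K) ^ p = 1 := by
  rw [upper_pow, CharP.cast_eq_zero, zero_mul]
  ext i j
  fin_cases i <;> fin_cases j <;> simp

theorem lower_pow_char {p : ℕ} [CharP K p] :
    (!![1, 0; 1, 1] : Matrix (Fin 2) (Fin 2) K) ^ p = 1 := by
  rw [lower_pow, CharP.cast_eq_zero]
  ext i j
  fin_cases i <;> fin_cases j <;> simp

/-- injective version -/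
theorem nonabelian_of_injective {H : Type u} [Group H] [Finite H] {p : ℕ} [Fact p.Prime]
    [CharP K p] (hp2 : p ≠ 2) (φ : H →* Matrix (Fin 2) (Fin 2) K) (hφ : Function.Injective φ)
    (hdet : ∀ g, (φ g).det = 1) (a b : H) (hgen : Subgroup.closure {a, b} = ⊤) (l : K)
    (hl : l ≠ 0) (hφa : φ a = !![1, l; 0, 1]) (hφb : φ b = !![1, 0; 1, 1]) (T : Sylow 2 H) :
    ∃ x ∈ T, ∃ y ∈ T, x * y ≠ y * x := by
  have h2K : (2 : K) ≠ 0 := two_ne_zero_of_charP hp2
  have hap : a ^ p = 1 := hφ (by rw [map_pow, hφa, upper_pow_char, map_one])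
  have hbp : b ^ p = 1 := hφ (by rw [map_pow, hφb, lower_pow_char, map_one])
  have ha1 : a ≠ 1 := by
    intro h
    rw [h, map_one] at hφa
    have := congrFun (congrFun hφa 0) 1
    simp at this
    exact hl this.symm
  have htop : ∀ N : Subgroup H, a ∈ N → b ∈ N → N = ⊤ := by
    intro N ha hb
    rw [eq_top_iff, ← hgen, Subgroup.closure_le]
    rintro x (rfl | hx)
    · exact ha
    · rw [Set.mem_singleton_iff] at hx
      rw [hx]; exact hb
  -- the order is even
  have heven : 2 ∣ Nat.card H := by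
    by_contra hnd
    have hodd : Odd (Nat.card H) := Nat.not_even_iff_odd.mp (fun h => hnd (even_iff_two_dvd.mp h))
    obtain ⟨M, hM⟩ := exists_pElements_subgroup (F := K) hp2 (Nat.card H) H rfl hodd φ hφ hdet
    have hMtop : M = ⊤ := htop M ((hM a).mpr ⟨1, by rw [pow_one]; exact hap⟩)
      ((hM b).mpr ⟨1, by rw [pow_one]; exact hbp⟩)
    have hHp : IsPGroup p H := fun g => (hM g).mp (by rw [hMtop]; exact Subgroup.mem_top g)
    have hne : (⊤ : Subgroup H) ≠ ⊥ := by
      intro h
      have : a ∈ (⊥ : Subgroup H) := by rw [← h]; exact Subgroup.mem_top a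
      exact ha1 (Subgroup.mem_bot.mp this)
    obtain ⟨v, hv0, hv⟩ := exists_invariant_line (p := p) φ hφ (⊤ : Subgroup H)
      (hHp.to_subgroup ⊤) hne
    obtain ⟨c, hc⟩ := Submodule.mem_span_singleton.mp (hv a)
    obtain ⟨c', hc'⟩ := Submodule.mem_span_singleton.mp (hv b)
    rw [hφa] at hc
    rw [hφb] at hc'
    have e0 := congrFun hc 0
    have e1 := congrFun hc 1
    have e0' := congrFun hc' 0
    have e1' := congrFun hc' 1
    simp [Matrix.mulVec, dotProduct, Fin.sum_univ_two] at e0 e1 e0' e1'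
    have hv1 : v 1 = 0 := by
      by_contra hv1
      have hc1 : c = 1 := by
        have : (c - 1) * v 1 = 0 := by linear_combination e1
        rcases mul_eq_zero.mp this with h | h
        · linear_combination h
        · exact absurd h hv1
      rw [hc1, one_mul] at e0
      have : l * v 1 = 0 := by linear_combination -e0
      rcases mul_eq_zero.mp this with h | h
      · exact hl h
      · exact hv1 h
    have hv0' : v 0 = 0 := by
      by_contra hv0'
      have hc1 : c' = 1 := by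
        have : (c' - 1) * v 0 = 0 := by linear_combination e0'
        rcases mul_eq_zero.mp this with h | h
        · linear_combination h
        · exact absurd h hv0'
      rw [hc1, one_mul, hv1] at e1'
      exact hv0' (by linear_combination -e1')
    apply hv0
    ext i
    fin_cases i
    · exact hv0'
    · exact hv1
  -- a Sylow `2`-subgroup is not abelian
  by_contra hcon
  push Not at hcon
  have hT2 : IsPGroup 2 ↥(T : Subgroup H) := T.2
  have h2T : 2 ∣ Nat.card ↥(T : Subgroup H) := T.dvd_card_of_dvd_card heven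
  obtain ⟨z, hz⟩ := exists_prime_orderOf_dvd_card' 2 h2T
  have hinv : ∀ t : ↥(T : Subgroup H), orderOf t = 2 → φ (t : H) = -1 := by
    intro t ht
    have ht2 : t ^ 2 = 1 := by
      have := pow_orderOf_eq_one t
      rwa [ht] at this
    have ht1 : t ≠ 1 := by
      intro h
      rw [h, orderOf_one] at ht
      omega
    have h1 : φ (t : H) * φ (t : H) = 1 := by
      rw [← map_mul, ← pow_two]
      have := congrArg Subtype.val ht2
      rw [Subgroup.coe_pow, Subgroup.coe_one] at this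
      rw [this, map_one]
    rcases eq_one_or_neg_one_of_sq h2K _ h1 (hdet _) with h | h
    · exfalso
      apply ht1
      apply Subtype.ext
      exact hφ (by rw [h, Subgroup.coe_one, map_one])
    · exact h
  have huniq : ∀ t : ↥(T : Subgroup H), orderOf t = 2 → t = z := by
    intro t ht
    apply Subtype.ext
    apply hφ
    rw [hinv t ht, hinv z hz]
  have hcomm : ∀ x y : ↥(T : Subgroup H), x * y = y * x := by
    intro x y
    apply Subtype.ext
    exact hcon x x.2 y y.2
  have hcyc : IsCyclic ↥(T : Subgroup H) :=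
    Cfsg.Agent.Lib.Helper53.ui_isCyclic_of_comm hT2 huniq hcomm
  have hmin : (Nat.card H).minFac = 2 := (Nat.minFac_eq_two_iff _).mpr heven
  have hNC := IsCyclic.normalizer_le_centralizer hmin (P := T) hcyc
  obtain ⟨f, hf⟩ : ∃ f : H →* ↥(T : Subgroup H), f = MonoidHom.transferSylow T hNC := ⟨_, rfl⟩
  have hcompl : Subgroup.IsComplement' f.ker (T : Subgroup H) := by
    rw [hf]
    exact MonoidHom.ker_transferSylow_isComplement' T hNC
  have hcard := hcompl.card_mul_card
  have hker : ∀ g : H, g ^ p = 1 → g ∈ f.ker := by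
    intro g hg
    rw [MonoidHom.mem_ker]
    have h1 : (f g) ^ p = 1 := by rw [← map_pow, hg, map_one]
    obtain ⟨k, hk⟩ := hT2 (f g)
    have hd1 : orderOf (f g) ∣ p := orderOf_dvd_of_pow_eq_one h1
    have hd2 : orderOf (f g) ∣ 2 ^ k := orderOf_dvd_of_pow_eq_one hk
    have hcop : p.Coprime (2 ^ k) :=
      Nat.Coprime.pow_right k ((Nat.coprime_primes Fact.out Nat.prime_two).mpr hp2)
    have hd3 : orderOf (f g) ∣ 1 := by
      have := Nat.dvd_gcd hd1 hd2
      rwa [hcop] at this
    exact orderOf_eq_one_iff.mp (Nat.dvd_one.mp hd3)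
  have hktop : f.ker = ⊤ := htop _ (hker a hap) (hker b hbp)
  rw [hktop, Subgroup.card_top] at hcard
  have hpos : 0 < Nat.card H := Nat.card_pos
  have hT1 : Nat.card ↥(T : Subgroup H) = 1 := by
    have : Nat.card H * Nat.card ↥(T : Subgroup H) = Nat.card H * 1 := by rw [hcard, mul_one]
    exact Nat.eq_of_mul_eq_mul_left hpos this
  rw [hT1] at h2T
  omega

/-- transport along a surjection -/
theorem nonabelian_of_surjective {H : Type u} [Group H] [Finite H] {G' : Type u} [Group G']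
    [Finite G'] {p : ℕ} [Fact p.Prime]
    [CharP K p] (hp2 : p ≠ 2) (π : H →* G') (hπ : Function.Surjective π)
    (φ' : G' →* Matrix (Fin 2) (Fin 2) K) (hφ' : Function.Injective φ')
    (hdet : ∀ g, (φ' (π g)).det = 1) (a b : H) (hgen : Subgroup.closure {a, b} = ⊤) (l : K)
    (hl : l ≠ 0) (hφa : φ' (π a) = !![1, l; 0, 1]) (hφb : φ' (π b) = !![1, 0; 1, 1])
    (T : Sylow 2 H) :
    ∃ x ∈ T, ∃ y ∈ T, x * y ≠ y * x := by
  have : Fact (Nat.Prime 2) := ⟨Nat.prime_two⟩
  have hdet' : ∀ k : G', (φ' k).det = 1 := by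
    intro k
    obtain ⟨g, rfl⟩ := hπ k
    exact hdet g
  have hgen' : Subgroup.closure {π a, π b} = ⊤ := by
    have h1 := MonoidHom.map_closure π {a, b}
    rw [hgen, Subgroup.map_top_of_surjective _ hπ, Set.image_pair] at h1
    exact h1.symm
  obtain ⟨x', hx', y', hy', hxy⟩ := nonabelian_of_injective hp2 φ' hφ' hdet' _ _ hgen' l hl
    hφa hφb (T.mapSurjective hπ)
  have hx'' : x' ∈ (T : Subgroup H).map π := by
    rw [← Sylow.coe_mapSurjective hπ]; exact hx'
  have hy'' : y' ∈ (T : Subgroup H).map π := by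
    rw [← Sylow.coe_mapSurjective hπ]; exact hy'
  obtain ⟨x, hx, rfl⟩ := hx''
  obtain ⟨y, hy, rfl⟩ := hy''
  refine ⟨x, hx, y, hy, fun h => hxy ?_⟩
  rw [← map_mul, ← map_mul, h]

/-- general version -/
theorem nonabelian_two_subgroup {H : Type u} [Group H] [Finite H] {p : ℕ} [Fact p.Prime]
    [CharP K p] (hp2 : p ≠ 2) (φ : H →* Matrix (Fin 2) (Fin 2) K)
    (hdet : ∀ g, (φ g).det = 1) (a b : H) (hgen : Subgroup.closure {a, b} = ⊤) (l : K)
    (hl : l ≠ 0) (hφa : φ a = !![1, l; 0, 1]) (hφb : φ b = !![1, 0; 1, 1]) (T : Sylow 2 H) :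
    ∃ x ∈ T, ∃ y ∈ T, x * y ≠ y * x := by
  obtain ⟨ψ, hψ⟩ : ∃ ψ : H →* (Matrix (Fin 2) (Fin 2) K)ˣ, ψ = φ.toHomUnits := ⟨_, rfl⟩
  have hψφ : ∀ g : H, ((ψ g : (Matrix (Fin 2) (Fin 2) K)ˣ) : Matrix (Fin 2) (Fin 2) K) = φ g := by
    intro g; rw [hψ]; rfl
  have hφb' : ∀ g : H, ((Units.coeHom _).comp (QuotientGroup.kerLift ψ))
      (QuotientGroup.mk' ψ.ker g) = φ g := by
    intro g
    rw [MonoidHom.comp_apply, QuotientGroup.mk'_apply, QuotientGroup.kerLift_mk]
    exact hψφ g
  have hinj : Function.Injective ((Units.coeHom (Matrix (Fin 2) (Fin 2) K)).comp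
      (QuotientGroup.kerLift ψ)) := by
    intro x y h
    apply QuotientGroup.kerLift_injective ψ
    exact Units.ext h
  exact nonabelian_of_surjective hp2 (QuotientGroup.mk' ψ.ker) (QuotientGroup.mk'_surjective _)
    _ hinj
    (fun g => by rw [hφb']; exact hdet g) a b hgen l hl (by rw [hφb', hφa]) (by rw [hφb', hφb]) T

/-- **Two quadratic generators**: a finite group generated by `a, b` acting on a
finite-dimensional space over an algebraically closed field of odd characteristic `p` with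
`(a - 1)² = (b - 1)² = 0` acts unipotently or has nonabelian Sylow `2`-subgroups. -/
theorem gen_core [IsAlgClosed K] {V : Type*} [AddCommGroup V] [Module K V]
    [FiniteDimensional K V] {p : ℕ} [Fact p.Prime] [CharP K p]
    (hp2 : p ≠ 2) {H : Type u} [Group H] [Finite H] (ρ : H →* End K V) (a b : H)
    (hgen : Subgroup.closure {a, b} = ⊤) (ha : (ρ a - 1) * (ρ a - 1) = 0)
    (hb : (ρ b - 1) * (ρ b - 1) = 0) (T : Sylow 2 H) :
    (∃ k : ℕ, ∀ d : H, (ρ d - 1) ^ k = 0) ∨ ∃ x ∈ T, ∃ y ∈ T, x * y ≠ y * x := by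
  obtain ⟨A, hA⟩ : ∃ A, A = ρ a - 1 := ⟨_, rfl⟩
  obtain ⟨B, hB⟩ : ∃ B, B = ρ b - 1 := ⟨_, rfl⟩
  have hρa : ρ a = 1 + A := by rw [hA]; abel
  have hρb : ρ b = 1 + B := by rw [hB]; abel
  rw [← hA] at ha
  rw [← hB] at hb
  by_cases hZ : QuadAlg.zEl A B ^ finrank K V = 0
  · left
    obtain ⟨h1, h2⟩ := mul_pow_eq_zero_of_zEl A B ha hb _ hZ
    obtain ⟨k, hk⟩ := chain_eq_bot A B ha hb _ h1 h2
    exact ⟨k, sub_one_pow_eq_zero ρ a b hgen A B hρa hρb ha hb k hk⟩
  · right
    obtain ⟨l, u, hl, hu, hAu, hABu⟩ := exists_eigen_of_not_nilpotent A B ha hZ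
    obtain ⟨φ, hdet, hφa, hφb⟩ := exists_rep2 ρ a b hgen A B hρa hρb hb l u hl hu hAu hABu
    exact nonabelian_two_subgroup hp2 φ hdet a b hgen l hl hφa hφb T

end Cfsg.Agent.Lib.Helper35.GenQuad
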