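import Mathlib
import Cfsg.Agent.Lib.Helper35.GenGroup
import Cfsg.Agent.Lib.Helper35.PStabMin

set_option autoImplicit false

/-! Two quadratic generators: versions over the prime field and for abstract actions. -/

namespace Cfsg.Agent.Lib.Helper35.GenQuad

open Module Cfsg.Agent.Lib.Helper35.PStab

universe u w

theorem gen_module {p : ℕ} [Fact p.Prime] (hp2 : p ≠ 2) {W : Type w} [AddCommGroup W]
    [Module (ZMod p) W] [Finite W] {H : Type u} [Group H] [Finite H]
    (θ : H →* Module.End (ZMod p) W) (a b : H) (hgen : Subgroup.closure {a, b} = ⊤)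
    (ha : (θ a - 1) * (θ a - 1) = 0) (hb : (θ b - 1) * (θ b - 1) = 0) (T : Sylow 2 H) :
    (∃ k : ℕ, ∀ d : H, (θ d - 1) ^ k = 0) ∨ ∃ x ∈ T, ∃ y ∈ T, x * y ≠ y * x := by
  classical
  let F := ZMod p
  let K := AlgebraicClosure F
  have : Module.Finite F W := Module.Finite.of_finite
  let ι := Module.Free.ChooseBasisIndex F W
  let bs : Basis ι F W := Module.Free.chooseBasis F W
  let e₁ : Module.End F W ≃ₐ[F] Matrix ι ι F := LinearMap.toMatrixAlgEquiv bs
  let e₂ : Matrix ι ι F →+* Matrix ι ι K := (algebraMap F K).mapMatrix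
  let e₃ : Matrix ι ι K ≃ₐ[K] Module.End K (ι → K) := Matrix.toLinAlgEquiv'
  let Ψ : Module.End F W →+* Module.End K (ι → K) :=
    (e₃.toRingEquiv.toRingHom).comp (e₂.comp e₁.toRingEquiv.toRingHom)
  have hΨ : Function.Injective Ψ := by
    have h2 : Function.Injective e₂ := by
      intro M M' h
      ext i j
      have := congrFun (congrFun h i) j
      simp only [e₂, RingHom.mapMatrix_apply, Matrix.map_apply] at this
      exact (algebraMap F K).injective this
    exact e₃.injective.comp (h2.comp e₁.injective)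
  let ρ : H →* Module.End K (ι → K) := (Ψ : Module.End F W →* Module.End K (ι → K)).comp θ
  have : CharP K p := charP_of_injective_algebraMap (algebraMap F K).injective p
  have hρ : ∀ g, ρ g = Ψ (θ g) := fun g => rfl
  have ha' : (ρ a - 1) * (ρ a - 1) = 0 := by
    rw [hρ, ← map_one Ψ, ← map_sub, ← map_mul, ha, map_zero]
  have hb' : (ρ b - 1) * (ρ b - 1) = 0 := by
    rw [hρ, ← map_one Ψ, ← map_sub, ← map_mul, hb, map_zero]
  rcases gen_core hp2 ρ a b hgen ha' hb' T with ⟨k, hk⟩ | h
  · left
    refine ⟨k, fun d => ?_⟩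
    apply hΨ
    rw [map_pow, map_sub, map_one, map_zero, ← hρ]
    exact hk d
  · right
    exact h

/-- **Two quadratic generators** (abstract action form): if `a, b` generate the finite group
`X` and act quadratically on the elementary abelian `p`-group `V` (`p` odd), then `X` acts as a
`p`-group or its Sylow `2`-subgroups are nonabelian. -/
theorem gen_abstract {p : ℕ} [Fact p.Prime] (hp2 : p ≠ 2) {X : Type u} [Group X] [Finite X]
    {V : Type w} [CommGroup V] [Finite V] (hVe : ∀ v : V, v ^ p = 1) (κ : X →* MulAut V)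
    (a b : X) (hgen : Subgroup.closure {a, b} = ⊤)
    (ha : ∀ v : V, κ a (κ a v * v⁻¹) = κ a v * v⁻¹)
    (hb : ∀ v : V, κ b (κ b v * v⁻¹) = κ b v * v⁻¹) (T : Sylow 2 X) :
    (∃ j : ℕ, ∀ d : X, κ d ^ (p ^ j) = 1) ∨ ∃ x ∈ T, ∃ y ∈ T, x * y ≠ y * x := by
  have instMod : Module (ZMod p) (Additive V) := AddCommGroup.zmodModule (by
    intro x
    have := hVe (Additive.toMul x)
    exact congrArg Additive.ofMul this)
  obtain ⟨θ, hθ⟩ : ∃ θ : X →* Module.End (ZMod p) (Additive V), θ = (autEnd p V).comp κ :=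
    ⟨_, rfl⟩
  have hquad : ∀ c : X, (∀ v : V, κ c (κ c v * v⁻¹) = κ c v * v⁻¹) →
      (θ c - 1) * (θ c - 1) = 0 := by
    intro c hc
    apply LinearMap.ext
    intro w
    have e1 : ∀ w : Additive V,
        (θ c - 1) w = Additive.ofMul (κ c (Additive.toMul w) * (Additive.toMul w)⁻¹) := by
      intro w
      rw [LinearMap.sub_apply, Module.End.one_apply, hθ]
      show autEnd p V (κ c) w - w = _
      rw [autEnd_apply, ofMul_mul, ofMul_inv, ofMul_toMul, sub_eq_add_neg]
    rw [Module.End.mul_apply, e1, e1, LinearMap.zero_apply]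
    simp only [toMul_ofMul]
    rw [hc, mul_inv_cancel]
    rfl
  rcases gen_module hp2 θ a b hgen (hquad a ha) (hquad b hb) T with ⟨k, hk⟩ | h
  · left
    refine ⟨k, fun d => ?_⟩
    apply autEnd_injective p V
    rcases subsingleton_or_nontrivial (Additive V) with hs | hn
    · apply LinearMap.ext
      intro x
      exact Subsingleton.elim _ _
    have hchar : CharP (Module.End (ZMod p) (Additive V)) p :=
      charP_of_injective_algebraMap
        (algebraMap (ZMod p) (Module.End (ZMod p) (Additive V))).injective p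
    have hle : k ≤ p ^ k := (Nat.lt_pow_self (Fact.out : p.Prime).one_lt).le
    have h1 : (θ d - 1) ^ (p ^ k) = 0 := pow_eq_zero_of_le hle (hk d)
    rw [sub_pow_char_pow_of_commute p k (Commute.one_right _), one_pow, sub_eq_zero] at h1
    rw [map_pow, map_one]
    have : autEnd p V (κ d) = θ d := by rw [hθ]; rfl
    rw [this]
    exact h1
  · right
    exact h

end Cfsg.Agent.Lib.Helper35.GenQuad
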