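import Mathlib
import Cfsg.Agent.Lib.Helper35.GenModule
import Cfsg.Prelude.Def_Transfer

set_option autoImplicit false

/-! Two quadratic generators: the form inside an ambient group. -/

namespace Cfsg.Agent.Lib.Helper35.GenQuad

open Cfsg Cfsg.Agent.Lib.Helper35.PStab
open scoped commutatorElement IsMulCommutative

universe u

variable {G : Type u} [Group G]

/-- the conjugation action of a subgroup `H` normalizing `V` -/
def conjOn (V H : Subgroup G) (hHV : H ≤ Subgroup.normalizer (V : Set G)) : ↥H →* MulAut ↥V where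
  toFun h :=
    { toFun := fun v => ⟨(h : G) * v * (h : G)⁻¹,
        (Subgroup.mem_normalizer_iff.mp (hHV h.2) v).mp v.2⟩
      invFun := fun v => ⟨(h : G)⁻¹ * v * (h : G),
        (Subgroup.mem_normalizer_iff.mp (hHV h.2) _).mpr (by
          have : (h : G) * ((h : G)⁻¹ * v * (h : G)) * (h : G)⁻¹ = v := by group
          rw [this]; exact v.2)⟩
      left_inv := fun v => Subtype.ext (by simp only []; group)
      right_inv := fun v => Subtype.ext (by simp only []; group)
      map_mul' := fun v w => Subtype.ext (by simp only [Subgroup.coe_mul]; group) }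
  map_one' := by
    ext v
    simp
  map_mul' h k := by
    ext v
    simp only [MulAut.mul_apply, MulEquiv.coe_mk, Equiv.coe_fn_mk, Subgroup.coe_mul]
    group

theorem conjOn_apply (V H : Subgroup G) (hHV : H ≤ Subgroup.normalizer (V : Set G)) (h : ↥H)
    (v : ↥V) : ((conjOn V H hHV h v : ↥V) : G) = (h : G) * v * (h : G)⁻¹ := rfl

/-- faithfulness -/
theorem eq_one_of_conjOn_eq_one (V H : Subgroup G) (hHV : H ≤ Subgroup.normalizer (V : Set G))
    (hf : H ⊓ Subgroup.centralizer (V : Set G) = ⊥) (h : ↥H) (hh : conjOn V H hHV h = 1) :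
    h = 1 := by
  have h1 : (h : G) ∈ H ⊓ Subgroup.centralizer (V : Set G) := by
    rw [Subgroup.mem_inf]
    refine ⟨h.2, ?_⟩
    rw [Subgroup.mem_centralizer_iff]
    intro v hv
    have := congrArg (fun f : MulAut ↥V => ((f ⟨v, hv⟩ : ↥V) : G)) hh
    simp only [conjOn_apply, MulAut.one_apply] at this
    calc v * (h : G) = ((h : G) * v * (h : G)⁻¹) * (h : G) := by rw [this]
      _ = (h : G) * v := by group
  rw [hf, Subgroup.mem_bot] at h1
  exact Subtype.ext h1

/-- the quadratic condition for the action -/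
theorem conjOn_quad (V H : Subgroup G) (hHV : H ≤ Subgroup.normalizer (V : Set G)) (a : ↥H)
    (ha : ∀ v ∈ V, ⁅(a : G), ⁅(a : G), v⁆⁆ = 1) (v : ↥V) :
    conjOn V H hHV a (conjOn V H hHV a v * v⁻¹) = conjOn V H hHV a v * v⁻¹ := by
  apply Subtype.ext
  have h1 := ha v v.2
  rw [commutatorElement_def, commutatorElement_def] at h1
  rw [conjOn_apply]
  simp only [Subgroup.coe_mul, Subgroup.coe_inv, conjOn_apply]
  calc (a : G) * ((a : G) * (v : G) * (a : G)⁻¹ * (v : G)⁻¹) * (a : G)⁻¹
      = ((a : G) * ((a : G) * (v : G) * (a : G)⁻¹ * (v : G)⁻¹) * (a : G)⁻¹ *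
          ((a : G) * (v : G) * (a : G)⁻¹ * (v : G)⁻¹)⁻¹) *
          ((a : G) * (v : G) * (a : G)⁻¹ * (v : G)⁻¹) := by group
    _ = (a : G) * (v : G) * (a : G)⁻¹ * (v : G)⁻¹ := by rw [h1, one_mul]

/-- generation inside the subgroup -/
theorem closure_pair_eq_top (H : Subgroup G) (a b : G) (hab : H = Subgroup.closure {a, b})
    (ha : a ∈ H) (hb : b ∈ H) :
    Subgroup.closure {(⟨a, ha⟩ : ↥H), (⟨b, hb⟩ : ↥H)} = ⊤ := by
  apply Subgroup.map_injective H.subtype_injective
  rw [MonoidHom.map_closure, Set.image_pair, ← MonoidHom.range_eq_map, Subgroup.range_subtype]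
  exact hab.symm

/-- **Two quadratic generators**, inside an ambient group. -/
theorem two_quad_internal [Finite G] {p : ℕ} [Fact p.Prime] (hp2 : p ≠ 2) (V H : Subgroup G)
    (hV : IsElementaryAbelian p V) (hHV : H ≤ Subgroup.normalizer (V : Set G))
    (hf : H ⊓ Subgroup.centralizer (V : Set G) = ⊥) (a b : G)
    (hab : H = Subgroup.closure {a, b}) (ha : ∀ v ∈ V, ⁅a, ⁅a, v⁆⁆ = 1)
    (hb : ∀ v ∈ V, ⁅b, ⁅b, v⁆⁆ = 1) (hnp : ¬ IsPGroup p H) (T : Sylow 2 H) :
    ∃ x ∈ T, ∃ y ∈ T, x * y ≠ y * x := by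
  have := hV.1
  have haH : a ∈ H := by rw [hab]; exact Subgroup.subset_closure (by simp)
  have hbH : b ∈ H := by rw [hab]; exact Subgroup.subset_closure (by simp)
  have hVe : ∀ v : ↥V, v ^ p = 1 := fun v => Subtype.ext (by
    have := hV.2 v v.2
    simpa using this)
  rcases gen_abstract hp2 hVe (conjOn V H hHV) ⟨a, haH⟩ ⟨b, hbH⟩
    (closure_pair_eq_top H a b hab haH hbH) (conjOn_quad V H hHV ⟨a, haH⟩ ha)
    (conjOn_quad V H hHV ⟨b, hbH⟩ hb) T with ⟨j, hj⟩ | h
  · exfalso
    apply hnp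
    intro d
    refine ⟨j, ?_⟩
    apply eq_one_of_conjOn_eq_one V H hHV hf
    rw [map_pow]
    exact hj d
  · exact h

end Cfsg.Agent.Lib.Helper35.GenQuad
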