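import Mathlib
import Cfsg.Agent.Lib.Helper20.QuatSec4
import Cfsg.Agent.Lib.Helper53.UniqInv2
import Cfsg.Prelude.Def_LocalEven

set_option autoImplicit false

/-! Recognition of `SL(2,3)` sections: a nonabelian `2`-subgroup with a unique involution acted on
nontrivially by an element of odd order. -/

namespace Cfsg.Agent.Lib.Helper35.SL23Rec

open Cfsg Cfsg.Agent.Lib.Helper20.QuatSec Cfsg.Agent.Lib.Helper53

universe u

theorem involves_sl23_of_two_group {Y : Type u} [Group Y] [Finite Y] (R : Subgroup Y)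
    (hR2 : IsPGroup 2 R) (hna : ∃ n ∈ R, ∃ m ∈ R, n * m ≠ m * n) (z : Y) (hzR : z ∈ R)
    (hz1 : z ≠ 1) (hzz : z * z = 1) (hu : ∀ t ∈ R, t * t = 1 → t = 1 ∨ t = z) (x : Y)
    (hx : x ∈ Subgroup.normalizer (R : Set Y)) (hodd : Odd (orderOf x))
    (hnc : ¬ ∀ q ∈ R, x * q * x⁻¹ = q) :
    Involves (Matrix.SpecialLinearGroup (Fin 2) (ZMod 3)) Y := by
  -- structure of `R`
  have hz' : orderOf (⟨z, hzR⟩ : ↥R) = 2 := by
    apply orderOf_eq_prime
    · apply Subtype.ext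
      rw [pow_two]
      exact hzz
    · intro h
      exact hz1 (congrArg Subtype.val h)
  have hu' : ∀ t : ↥R, orderOf t = 2 → t = ⟨z, hzR⟩ := by
    intro t ht
    have h1 : t ^ 2 = 1 := by
      have := pow_orderOf_eq_one t
      rwa [ht] at this
    have h2 : (t : Y) * (t : Y) = 1 := by
      have := congrArg Subtype.val h1
      rw [pow_two] at this
      exact this
    rcases hu t t.2 h2 with h | h
    · exfalso
      have : t = 1 := Subtype.ext h
      rw [this, orderOf_one] at ht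
      omega
    · exact Subtype.ext h
  have hna' : ∃ x y : ↥R, x * y ≠ y * x := by
    obtain ⟨n, hn, m, hm, hnm⟩ := hna
    exact ⟨⟨n, hn⟩, ⟨m, hm⟩, fun h => hnm (congrArg Subtype.val h)⟩
  obtain ⟨a₀, ha₀⟩ := ui_exists_cyclic_index_two hR2 hz' hu' hna'
  have hst := fun (b : ↥R) (hb : b ∉ Subgroup.zpowers a₀) =>
    ui_struct hR2 hz' hu' hna' ha₀ hb
  obtain ⟨A, hA⟩ : ∃ A : Subgroup Y, A = Subgroup.zpowers (a₀ : Y) := ⟨_, rfl⟩
  have hmemA : ∀ t : ↥R, (t : Y) ∈ A ↔ t ∈ Subgroup.zpowers a₀ := by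
    intro t
    rw [hA, Subgroup.mem_zpowers_iff, Subgroup.mem_zpowers_iff]
    constructor
    · rintro ⟨k, hk⟩
      refine ⟨k, Subtype.ext ?_⟩
      rw [Subgroup.coe_zpow]
      exact hk
    · rintro ⟨k, hk⟩
      refine ⟨k, ?_⟩
      rw [← hk, Subgroup.coe_zpow]
  have hAR : A ≤ R := by
    rw [hA, Subgroup.zpowers_le]
    exact a₀.2
  have hgq : GQ R A z := by
    refine ⟨hAR, ?_, hz1, hzz, ?_, ?_, ?_, hu⟩
    · rw [hA]; infer_instance
    · intro t ht htA
      have h1 := (hst ⟨t, ht⟩ (fun h => htA ((hmemA ⟨t, ht⟩).mpr h))).1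
      exact congrArg Subtype.val h1
    · intro t ht htA v hv
      have h1 := (hst ⟨t, ht⟩ (fun h => htA ((hmemA ⟨t, ht⟩).mpr h))).2
      have h2 : t * (a₀ : Y) * t⁻¹ = (a₀ : Y)⁻¹ := congrArg Subtype.val h1
      rw [hA] at hv
      obtain ⟨k, rfl⟩ := Subgroup.mem_zpowers_iff.mp hv
      rw [← zpow_neg, ← inv_zpow']
      have : t * (a₀ : Y) ^ k * t⁻¹ = (t * (a₀ : Y) * t⁻¹) ^ k := by
        rw [conj_zpow]
      rw [this, h2]
    · intro s hs t ht hsA htA
      have h1 : (⟨t, ht⟩ : ↥R) * ⟨s, hs⟩ ∈ Subgroup.zpowers a₀ := by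
        rw [Subgroup.mul_mem_iff_of_index_two ha₀]
        constructor
        · intro h; exact absurd ((hmemA ⟨t, ht⟩).mpr h) htA
        · intro h; exact absurd ((hmemA ⟨s, hs⟩).mpr h) hsA
      exact (hmemA _).mpr h1
  obtain ⟨i, hi⟩ := exists_rel hgq hR2 R le_rfl x hx hodd hnc
  exact section_of_rel hi hodd

end Cfsg.Agent.Lib.Helper35.SL23Rec
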