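import Mathlib
import Cfsg.Agent.Lib.Helper35.GenGroup
import Cfsg.Agent.Lib.Helper35.SL23Rec
import Cfsg.Agent.Lib.Helper35.DualHH
import Cfsg.Agent.Lib.Helper11.Repl
import Cfsg.Agent.Lib.Helper51.InvolvesT

set_option autoImplicit false

/-! A `p`-solvable finite group generated by two elements represented by `[[1,l],[0,1]]` and
`[[1,0],[1,1]]` (`l ≠ 0`) in odd characteristic `p`: then `p = 3` and `SL(2,3)` is involved. -/

namespace Cfsg.Agent.Lib.Helper35.GenQuad

open Cfsg Module Matrix Cfsg.Agent.Lib.Helper35.Quad2 Cfsg.Agent.Lib.Helper35.OddGL2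
  Cfsg.Agent.Lib.Helper76 Cfsg.Agent.Lib.Helper30 Cfsg.Agent.Lib.Helper22

universe u v

variable {K : Type v} [Field K]

/-- the two generators have no common invariant line -/
theorem no_common_line (l : K) (hl : l ≠ 0) (v : Fin 2 → K) (hv0 : v ≠ 0)
    (h1 : (!![1, l; 0, 1] : Matrix (Fin 2) (Fin 2) K).mulVec v ∈ Submodule.span K {v})
    (h2 : (!![1, 0; 1, 1] : Matrix (Fin 2) (Fin 2) K).mulVec v ∈ Submodule.span K {v}) :
    False := by
  obtain ⟨c, hc⟩ := Submodule.mem_span_singleton.mp h1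
  obtain ⟨c', hc'⟩ := Submodule.mem_span_singleton.mp h2
  have e0 := congrFun hc 0
  have e1 := congrFun hc 1
  have e0' := congrFun hc' 0
  have e1' := congrFun hc' 1
  simp [Matrix.mulVec, dotProduct, Fin.sum_univ_two] at e0 e1 e0' e1'
  have hv1 : v 1 = 0 := by
    by_contra hv1
    have hc1 : c = 1 := by
      have : (c - 1) * v 1 = 0 := by linear_combination e1
      rcases mul_eq_zero.mp this with h | h
      · linear_combination h
      · exact absurd h hv1
    rw [hc1, one_mul] at e0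
    have : l * v 1 = 0 := by linear_combination -e0
    rcases mul_eq_zero.mp this with h | h
    · exact hl h
    · exact hv1 h
  have hv0' : v 0 = 0 := by
    by_contra hv0'
    have hc1 : c' = 1 := by
      have : (c' - 1) * v 0 = 0 := by linear_combination e0'
      rcases mul_eq_zero.mp this with h | h
      · linear_combination h
      · exact absurd h hv0'
    rw [hc1, one_mul, hv1] at e1'
    exact hv0' (by linear_combination -e1')
  apply hv0
  ext i
  fin_cases i
  · exact hv0'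
  · exact hv1

/-- injective version -/
theorem sl23_of_rep2_injective {H : Type u} [Group H] [Finite H] {p : ℕ} [Fact p.Prime]
    [CharP K p] (hp2 : p ≠ 2) (φ : H →* Matrix (Fin 2) (Fin 2) K) (hφ : Function.Injective φ)
    (hdet : ∀ g, (φ g).det = 1) (a b : H) (l : K)
    (hl : l ≠ 0) (hφa : φ a = !![1, l; 0, 1]) (hφb : φ b = !![1, 0; 1, 1])
    (hsol : IsPSolvable p H) :
    p = 3 ∧ Involves (Matrix.SpecialLinearGroup (Fin 2) (ZMod 3)) H := by
  have h2K : (2 : K) ≠ 0 := two_ne_zero_of_charP hp2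
  have hap : a ^ p = 1 := hφ (by rw [map_pow, hφa, upper_pow_char, map_one])
  have ha1 : a ≠ 1 := by
    intro h
    rw [h, map_one] at hφa
    have := congrFun (congrFun hφa 0) 1
    simp at this
    exact hl this.symm
  -- `O_p(H) = 1`
  have hOp : pCore p H = ⊥ := by
    by_contra hne
    have hMn : (pCore p H).Normal := pCore_normal' p H
    obtain ⟨v, hv0, hv⟩ := exists_invariant_line (p := p) φ hφ (pCore p H)
      (pCore_isPGroup' p H) hne
    have h1 := hv a
    have h2 := hv b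
    rw [hφa] at h1
    rw [hφb] at h2
    exact no_common_line l hl v hv0 h1 h2
  obtain ⟨x₀, hx₀, hx₀a⟩ := DualHH.exists_not_commute hsol hOp a ha1 hap
  have hNn : (pPrimeCore p H).Normal := inferInstance
  have hnt : ∃ n ∈ pPrimeCore p H, φ (a * n * a⁻¹) ≠ φ n := by
    refine ⟨x₀, hx₀, fun h => hx₀a ?_⟩
    have h1 : a * x₀ * a⁻¹ = x₀ := hφ h
    calc x₀ * a * x₀⁻¹ = (a * x₀ * a⁻¹) * a * x₀⁻¹ := by rw [h1]
      _ = a := by group
  obtain ⟨hp3, R, ⟨-, hRx, n₀, hn₀R, hn₀⟩, hR2, ⟨n₁, hn₁, m₁, hm₁, hnm⟩, ⟨z, hzR, hφz⟩, hU⟩ :=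
    dim2_core hp2 φ (pPrimeCore p H) (pPrimeCore_card_coprime p) (fun n _ => hdet n) a hap hnt
  refine ⟨hp3, ?_⟩
  have hz1 : z ≠ 1 := by
    intro h
    rw [h, map_one] at hφz
    exact neg_one_ne_one h2K hφz.symm
  have hzz : z * z = 1 := hφ (by rw [map_mul, hφz, map_one]; simp)
  have hu : ∀ t ∈ R, t * t = 1 → t = 1 ∨ t = z := by
    intro t ht htt
    have h1 : φ t * φ t = 1 := by rw [← map_mul, htt, map_one]
    rcases hU t ht h1 with h | h
    · left; exact hφ (by rw [h, map_one])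
    · right; exact hφ (by rw [h, hφz])
  have hx : a ∈ Subgroup.normalizer (R : Set H) :=
    Cfsg.Agent.Lib.Helper11.mem_normalizer_of_conj_mem R a hRx
  have hodd : Odd (orderOf a) := by
    have h1 : orderOf a ∣ 3 := by
      rw [← hp3]
      exact orderOf_dvd_of_pow_eq_one hap
    rcases (Nat.dvd_prime Nat.prime_three).mp h1 with h | h
    · rw [h]; exact odd_one
    · rw [h]; decide
  exact SL23Rec.involves_sl23_of_two_group R hR2
    ⟨n₁, hn₁, m₁, hm₁, fun h => hnm (by rw [h])⟩ z hzR hz1 hzz hu a hx hodd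
    (fun h => hn₀ (by rw [h n₀ hn₀R]))

/-- transport along a surjection -/
theorem sl23_of_rep2_surjective {H : Type u} [Group H] [Finite H] {G' : Type u} [Group G']
    [Finite G'] {p : ℕ} [Fact p.Prime]
    [CharP K p] (hp2 : p ≠ 2) (π : H →* G') (hπ : Function.Surjective π)
    (φ' : G' →* Matrix (Fin 2) (Fin 2) K) (hφ' : Function.Injective φ')
    (hdet : ∀ g, (φ' (π g)).det = 1) (a b : H) (l : K)
    (hl : l ≠ 0) (hφa : φ' (π a) = !![1, l; 0, 1]) (hφb : φ' (π b) = !![1, 0; 1, 1])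
    (hsol : IsPSolvable p H) :
    p = 3 ∧ Involves (Matrix.SpecialLinearGroup (Fin 2) (ZMod 3)) H := by
  have hdet' : ∀ k : G', (φ' k).det = 1 := by
    intro k
    obtain ⟨g, rfl⟩ := hπ k
    exact hdet g
  obtain ⟨h3, hinv⟩ := sl23_of_rep2_injective hp2 φ' hφ' hdet' (π a) (π b) l hl hφa hφb
    (isPSolvable_of_surjective π hπ hsol)
  exact ⟨h3, Cfsg.Agent.Lib.Helper51.involves_of_surjective π hπ hinv⟩

/-- general version -/
theorem sl23_of_rep2 {H : Type u} [Group H] [Finite H] {p : ℕ} [Fact p.Prime]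
    [CharP K p] (hp2 : p ≠ 2) (φ : H →* Matrix (Fin 2) (Fin 2) K)
    (hdet : ∀ g, (φ g).det = 1) (a b : H) (l : K)
    (hl : l ≠ 0) (hφa : φ a = !![1, l; 0, 1]) (hφb : φ b = !![1, 0; 1, 1])
    (hsol : IsPSolvable p H) :
    p = 3 ∧ Involves (Matrix.SpecialLinearGroup (Fin 2) (ZMod 3)) H := by
  obtain ⟨ψ, hψ⟩ : ∃ ψ : H →* (Matrix (Fin 2) (Fin 2) K)ˣ, ψ = φ.toHomUnits := ⟨_, rfl⟩
  have hψφ : ∀ g : H, ((ψ g : (Matrix (Fin 2) (Fin 2) K)ˣ) : Matrix (Fin 2) (Fin 2) K) = φ g := by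
    intro g; rw [hψ]; rfl
  have hφb' : ∀ g : H, ((Units.coeHom _).comp (QuotientGroup.kerLift ψ))
      (QuotientGroup.mk' ψ.ker g) = φ g := by
    intro g
    rw [MonoidHom.comp_apply, QuotientGroup.mk'_apply, QuotientGroup.kerLift_mk]
    exact hψφ g
  have hinj : Function.Injective ((Units.coeHom (Matrix (Fin 2) (Fin 2) K)).comp
      (QuotientGroup.kerLift ψ)) := by
    intro x y h
    apply QuotientGroup.kerLift_injective ψ
    exact Units.ext h
  exact sl23_of_rep2_surjective hp2 (QuotientGroup.mk' ψ.ker) (QuotientGroup.mk'_surjective _)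
    _ hinj
    (fun g => by rw [hφb']; exact hdet g) a b l hl (by rw [hφb', hφa]) (by rw [hφb', hφb]) hsol

end Cfsg.Agent.Lib.Helper35.GenQuad
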