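import Mathlib
import Cfsg.Agent.Lib.Helper35.GenPSolv
import Cfsg.Agent.Lib.Helper35.GenInternal

set_option autoImplicit false

/-! Two quadratic generators: the dichotomy "acts as a `p`-group" or "has a two-dimensional
representation in which the generators are `[[1,l],[0,1]]` and `[[1,0],[1,1]]`, `l ≠ 0`". -/

namespace Cfsg.Agent.Lib.Helper35.GenQuad

open Cfsg Module Matrix Cfsg.Agent.Lib.Helper35.PStab
open scoped commutatorElement IsMulCommutative

universe u v w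

/-- the group `H` has a representation of degree two of determinant one over a field of
characteristic `p` in which `a ↦ [[1,l],[0,1]]`, `b ↦ [[1,0],[1,1]]` with `l ≠ 0` -/
def HasRep2 (p : ℕ) {H : Type u} [Group H] (a b : H) : Prop :=
  ∃ (K : Type) (_ : Field K) (_ : CharP K p) (l : K) (φ : H →* Matrix (Fin 2) (Fin 2) K),
    l ≠ 0 ∧ (∀ g, (φ g).det = 1) ∧ φ a = !![1, l; 0, 1] ∧ φ b = !![1, 0; 1, 1]

theorem HasRep2.nonabelian {p : ℕ} [Fact p.Prime] (hp2 : p ≠ 2) {H : Type u} [Group H]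
    [Finite H] {a b : H} (h : HasRep2 p a b) (hgen : Subgroup.closure {a, b} = ⊤)
    (T : Sylow 2 H) : ∃ x ∈ T, ∃ y ∈ T, x * y ≠ y * x := by
  obtain ⟨K, _, _, l, φ, hl, hdet, hφa, hφb⟩ := h
  exact nonabelian_two_subgroup hp2 φ hdet a b hgen l hl hφa hφb T

theorem HasRep2.sl23 {p : ℕ} [Fact p.Prime] (hp2 : p ≠ 2) {H : Type u} [Group H]
    [Finite H] {a b : H} (h : HasRep2 p a b) (hsol : IsPSolvable p H) :
    p = 3 ∧ Involves (Matrix.SpecialLinearGroup (Fin 2) (ZMod 3)) H := by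
  obtain ⟨K, _, _, l, φ, hl, hdet, hφa, hφb⟩ := h
  exact sl23_of_rep2 hp2 φ hdet a b l hl hφa hφb hsol

theorem gen_core' {K : Type v} [Field K] [IsAlgClosed K] {V : Type*} [AddCommGroup V]
    [Module K V] [FiniteDimensional K V] {H : Type u} [Group H] (ρ : H →* End K V) (a b : H)
    (hgen : Subgroup.closure {a, b} = ⊤) (ha : (ρ a - 1) * (ρ a - 1) = 0)
    (hb : (ρ b - 1) * (ρ b - 1) = 0) :
    (∃ k : ℕ, ∀ d : H, (ρ d - 1) ^ k = 0) ∨
      ∃ (l : K) (φ : H →* Matrix (Fin 2) (Fin 2) K), l ≠ 0 ∧ (∀ g, (φ g).det = 1) ∧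
        φ a = !![1, l; 0, 1] ∧ φ b = !![1, 0; 1, 1] := by
  obtain ⟨A, hA⟩ : ∃ A, A = ρ a - 1 := ⟨_, rfl⟩
  obtain ⟨B, hB⟩ : ∃ B, B = ρ b - 1 := ⟨_, rfl⟩
  have hρa : ρ a = 1 + A := by rw [hA]; abel
  have hρb : ρ b = 1 + B := by rw [hB]; abel
  rw [← hA] at ha
  rw [← hB] at hb
  by_cases hZ : QuadAlg.zEl A B ^ finrank K V = 0
  · left
    obtain ⟨h1, h2⟩ := mul_pow_eq_zero_of_zEl A B ha hb _ hZ
    obtain ⟨k, hk⟩ := chain_eq_bot A B ha hb _ h1 h2
    exact ⟨k, sub_one_pow_eq_zero ρ a b hgen A B hρa hρb ha hb k hk⟩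
  · right
    obtain ⟨l, u, hl, hu, hAu, hABu⟩ := exists_eigen_of_not_nilpotent A B ha hZ
    obtain ⟨φ, hdet, hφa, hφb⟩ := exists_rep2 ρ a b hgen A B hρa hρb hb l u hl hu hAu hABu
    exact ⟨l, φ, hl, hdet, hφa, hφb⟩

theorem gen_module' {p : ℕ} [Fact p.Prime] {W : Type w} [AddCommGroup W]
    [Module (ZMod p) W] [Finite W] {H : Type u} [Group H]
    (θ : H →* Module.End (ZMod p) W) (a b : H) (hgen : Subgroup.closure {a, b} = ⊤)
    (ha : (θ a - 1) * (θ a - 1) = 0) (hb : (θ b - 1) * (θ b - 1) = 0) :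
    (∃ k : ℕ, ∀ d : H, (θ d - 1) ^ k = 0) ∨ HasRep2 p a b := by
  classical
  let F := ZMod p
  let K := AlgebraicClosure F
  have : Module.Finite F W := Module.Finite.of_finite
  let ι := Module.Free.ChooseBasisIndex F W
  let bs : Basis ι F W := Module.Free.chooseBasis F W
  let e₁ : Module.End F W ≃ₐ[F] Matrix ι ι F := LinearMap.toMatrixAlgEquiv bs
  let e₂ : Matrix ι ι F →+* Matrix ι ι K := (algebraMap F K).mapMatrix
  let e₃ : Matrix ι ι K ≃ₐ[K] Module.End K (ι → K) := Matrix.toLinAlgEquiv'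
  let Ψ : Module.End F W →+* Module.End K (ι → K) :=
    (e₃.toRingEquiv.toRingHom).comp (e₂.comp e₁.toRingEquiv.toRingHom)
  have hΨ : Function.Injective Ψ := by
    have h2 : Function.Injective e₂ := by
      intro M M' h
      ext i j
      have := congrFun (congrFun h i) j
      simp only [e₂, RingHom.mapMatrix_apply, Matrix.map_apply] at this
      exact (algebraMap F K).injective this
    exact e₃.injective.comp (h2.comp e₁.injective)
  let ρ : H →* Module.End K (ι → K) := (Ψ : Module.End F W →* Module.End K (ι → K)).comp θ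
  have hchar : CharP K p := charP_of_injective_algebraMap (algebraMap F K).injective p
  have hρ : ∀ g, ρ g = Ψ (θ g) := fun g => rfl
  have ha' : (ρ a - 1) * (ρ a - 1) = 0 := by
    rw [hρ, ← map_one Ψ, ← map_sub, ← map_mul, ha, map_zero]
  have hb' : (ρ b - 1) * (ρ b - 1) = 0 := by
    rw [hρ, ← map_one Ψ, ← map_sub, ← map_mul, hb, map_zero]
  rcases gen_core' ρ a b hgen ha' hb' with ⟨k, hk⟩ | ⟨l, φ, hl, hdet, hφa, hφb⟩
  · left
    refine ⟨k, fun d => ?_⟩
    apply hΨ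
    rw [map_pow, map_sub, map_one, map_zero, ← hρ]
    exact hk d
  · right
    exact ⟨K, inferInstance, hchar, l, φ, hl, hdet, hφa, hφb⟩

theorem gen_abstract' {p : ℕ} [Fact p.Prime] {X : Type u} [Group X]
    {V : Type w} [CommGroup V] [Finite V] (hVe : ∀ v : V, v ^ p = 1) (κ : X →* MulAut V)
    (a b : X) (hgen : Subgroup.closure {a, b} = ⊤)
    (ha : ∀ v : V, κ a (κ a v * v⁻¹) = κ a v * v⁻¹)
    (hb : ∀ v : V, κ b (κ b v * v⁻¹) = κ b v * v⁻¹) :
    (∃ j : ℕ, ∀ d : X, κ d ^ (p ^ j) = 1) ∨ HasRep2 p a b := by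
  have instMod : Module (ZMod p) (Additive V) := AddCommGroup.zmodModule (by
    intro x
    have := hVe (Additive.toMul x)
    exact congrArg Additive.ofMul this)
  obtain ⟨θ, hθ⟩ : ∃ θ : X →* Module.End (ZMod p) (Additive V), θ = (autEnd p V).comp κ :=
    ⟨_, rfl⟩
  have hquad : ∀ c : X, (∀ v : V, κ c (κ c v * v⁻¹) = κ c v * v⁻¹) →
      (θ c - 1) * (θ c - 1) = 0 := by
    intro c hc
    apply LinearMap.ext
    intro w
    have e1 : ∀ w : Additive V,
        (θ c - 1) w = Additive.ofMul (κ c (Additive.toMul w) * (Additive.toMul w)⁻¹) := by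
      intro w
      rw [LinearMap.sub_apply, Module.End.one_apply, hθ]
      show autEnd p V (κ c) w - w = _
      rw [autEnd_apply, ofMul_mul, ofMul_inv, ofMul_toMul, sub_eq_add_neg]
    rw [Module.End.mul_apply, e1, e1, LinearMap.zero_apply]
    simp only [toMul_ofMul]
    rw [hc, mul_inv_cancel]
    rfl
  rcases gen_module' θ a b hgen (hquad a ha) (hquad b hb) with ⟨k, hk⟩ | h
  · left
    refine ⟨k, fun d => ?_⟩
    apply autEnd_injective p V
    rcases subsingleton_or_nontrivial (Additive V) with hs | hn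
    · apply LinearMap.ext
      intro x
      exact Subsingleton.elim _ _
    have hchar : CharP (Module.End (ZMod p) (Additive V)) p :=
      charP_of_injective_algebraMap
        (algebraMap (ZMod p) (Module.End (ZMod p) (Additive V))).injective p
    have hle : k ≤ p ^ k := (Nat.lt_pow_self (Fact.out : p.Prime).one_lt).le
    have h1 : (θ d - 1) ^ (p ^ k) = 0 := pow_eq_zero_of_le hle (hk d)
    rw [sub_pow_char_pow_of_commute p k (Commute.one_right _), one_pow, sub_eq_zero] at h1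
    rw [map_pow, map_one]
    have : autEnd p V (κ d) = θ d := by rw [hθ]; rfl
    rw [this]
    exact h1
  · right
    exact h

/-- the dichotomy inside an ambient group -/
theorem two_quad_rep_internal {G : Type u} [Group G] [Finite G] {p : ℕ} [Fact p.Prime]
    (V H : Subgroup G)
    (hV : IsElementaryAbelian p V) (hHV : H ≤ Subgroup.normalizer (V : Set G))
    (hf : H ⊓ Subgroup.centralizer (V : Set G) = ⊥) (a b : G)
    (hab : H = Subgroup.closure {a, b}) (ha : ∀ v ∈ V, ⁅a, ⁅a, v⁆⁆ = 1)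
    (hb : ∀ v ∈ V, ⁅b, ⁅b, v⁆⁆ = 1) (hnp : ¬ IsPGroup p H) (haH : a ∈ H) (hbH : b ∈ H) :
    HasRep2 p (⟨a, haH⟩ : ↥H) (⟨b, hbH⟩ : ↥H) := by
  have := hV.1
  have hVe : ∀ v : ↥V, v ^ p = 1 := fun v => Subtype.ext (by
    have := hV.2 v v.2
    simpa using this)
  rcases gen_abstract' hVe (conjOn V H hHV) ⟨a, haH⟩ ⟨b, hbH⟩
    (closure_pair_eq_top H a b hab haH hbH) (conjOn_quad V H hHV ⟨a, haH⟩ ha)
    (conjOn_quad V H hHV ⟨b, hbH⟩ hb) with ⟨j, hj⟩ | h
  · exfalso
    apply hnp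
    intro d
    refine ⟨j, ?_⟩
    apply eq_one_of_conjOn_eq_one V H hHV hf
    rw [map_pow]
    exact hj d
  · exact h

end Cfsg.Agent.Lib.Helper35.GenQuad
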