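import Mathlib
import Cfsg.Prelude.Def_LocalEven

set_option autoImplicit false

/-! A section of a subgroup is a section of the ambient group lying in the subgroup. -/

namespace Cfsg.Agent.Lib.Helper35

open Cfsg

universe u v

theorem exists_section_of_involves_subgroup {G : Type u} [Group G] {S : Type v} [Group S]
    (H₁ : Subgroup G) (h : Involves S ↥H₁) :
    ∃ (K L : Subgroup G) (_ : (L.subgroupOf K).Normal), K ≤ H₁ ∧
      Nonempty ((K ⧸ L.subgroupOf K) ≃* S) := by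
  obtain ⟨K₀, R₀, hn, ⟨e⟩⟩ := h
  obtain ⟨K, hK⟩ : ∃ K : Subgroup G, K = K₀.map H₁.subtype := ⟨_, rfl⟩
  obtain ⟨L, hL⟩ : ∃ L : Subgroup G, L = R₀.map H₁.subtype := ⟨_, rfl⟩
  have hKle : K ≤ H₁ := by rw [hK]; exact Subgroup.map_subtype_le K₀
  -- the isomorphism `K₀ ≃* K`
  have hmemK : ∀ k : ↥K₀, ((k : ↥H₁) : G) ∈ K := by
    intro k
    rw [hK]
    exact ⟨(k : ↥H₁), k.2, rfl⟩
  let f : ↥K₀ →* ↥K :=
    { toFun := fun k => ⟨((k : ↥H₁) : G), hmemK k⟩
      map_one' := rfl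
      map_mul' := fun _ _ => rfl }
  have hfinj : Function.Injective f := by
    intro x y hxy
    have := congrArg Subtype.val hxy
    exact Subtype.ext (Subtype.ext this)
  have hfsurj : Function.Surjective f := by
    rintro ⟨y, hy⟩
    rw [hK] at hy
    obtain ⟨k, hk, rfl⟩ := hy
    exact ⟨⟨k, hk⟩, rfl⟩
  let ε : ↥K₀ ≃* ↥K := MulEquiv.ofBijective f ⟨hfinj, hfsurj⟩
  have hmap : (R₀.subgroupOf K₀).map ε.toMonoidHom = L.subgroupOf K := by
    ext y
    constructor
    · rintro ⟨k, hk, rfl⟩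
      have hk' : (k : ↥H₁) ∈ R₀ := Subgroup.mem_subgroupOf.mp hk
      rw [Subgroup.mem_subgroupOf, hL]
      exact ⟨(k : ↥H₁), hk', rfl⟩
    · intro hy
      rw [Subgroup.mem_subgroupOf, hL] at hy
      obtain ⟨r, hr, hry⟩ := hy
      obtain ⟨k, hk⟩ := hfsurj y
      have hkr : (k : ↥H₁) = r := by
        apply Subtype.ext
        have h1 : ((k : ↥H₁) : G) = (y : G) := congrArg Subtype.val hk
        rw [h1, ← hry]
        rfl
      refine ⟨k, ?_, hk⟩
      have : (k : ↥H₁) ∈ R₀ := by rw [hkr]; exact hr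
      exact Subgroup.mem_subgroupOf.mpr this
  have hLn : (L.subgroupOf K).Normal := by
    rw [← hmap]
    exact hn.map _ ε.surjective
  refine ⟨K, L, hLn, hKle, ⟨?_⟩⟩
  exact (QuotientGroup.congr (R₀.subgroupOf K₀) (L.subgroupOf K) ε hmap).symm.trans e

end Cfsg.Agent.Lib.Helper35
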