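import Mathlib
import Cfsg.Agent.Lib.Helper35.GenRep
import Cfsg.Agent.Lib.Helper35.InvolvesSub

set_option autoImplicit false

/-! Two quadratic generators in the `p`-solvable case: `p = 3` and an `SL(2,3)` section. -/

namespace Cfsg.Agent.Lib.Helper35.GenQuad

open Cfsg Cfsg.Agent.Lib.Helper35 Cfsg.Agent.Lib.Helper35.PStab
open scoped commutatorElement IsMulCommutative

universe u

variable {G : Type u} [Group G]

/-- quadratic action is preserved by conjugation with elements normalizing `V` -/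
theorem quad_conj (V : Subgroup G) (g a : G) (hg : g ∈ Subgroup.normalizer (V : Set G))
    (ha : ∀ v ∈ V, ⁅a, ⁅a, v⁆⁆ = 1) : ∀ v ∈ V, ⁅g * a * g⁻¹, ⁅g * a * g⁻¹, v⁆⁆ = 1 := by
  intro v hv
  have hv' : g⁻¹ * v * g ∈ V := by
    rw [Subgroup.mem_normalizer_iff] at hg
    rw [hg (g⁻¹ * v * g)]
    have : g * (g⁻¹ * v * g) * g⁻¹ = v := by group
    rw [this]; exact hv
  have h1 := ha _ hv'
  have h2 : ⁅g * a * g⁻¹, ⁅g * a * g⁻¹, v⁆⁆ = g * ⁅a, ⁅a, g⁻¹ * v * g⁆⁆ * g⁻¹ := by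
    simp only [commutatorElement_def]
    group
  rw [h2, h1, mul_one, mul_inv_cancel]

/-- a quadratic element of a faithful group has order dividing `p` -/
theorem pow_eq_one_of_quad {p : ℕ} (V H : Subgroup G) (hV : IsElementaryAbelian p V)
    (hHV : H ≤ Subgroup.normalizer (V : Set G))
    (hf : H ⊓ Subgroup.centralizer (V : Set G) = ⊥) (a : G) (haH : a ∈ H)
    (ha : ∀ v ∈ V, ⁅a, ⁅a, v⁆⁆ = 1) : a ^ p = 1 := by
  have := hV.1
  have hVe : ∀ v : ↥V, v ^ p = 1 := fun v => Subtype.ext (by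
    have := hV.2 v v.2
    simpa using this)
  have h1 : (⟨a, haH⟩ : ↥H) ^ p = 1 := by
    apply eq_one_of_conjOn_eq_one V H hHV hf
    rw [map_pow]
    ext v
    rw [quad_pow _ (conjOn_quad V H hHV ⟨a, haH⟩ ha) p v, hVe, one_mul]
    rfl
  have := congrArg Subtype.val h1
  simpa using this

/-- **Two quadratic generators, `p`-solvable case.** -/
theorem two_quad_psolv_internal [Finite G] {p : ℕ} [Fact p.Prime] (hp2 : p ≠ 2)
    (V H : Subgroup G)
    (hV : IsElementaryAbelian p V) (hHV : H ≤ Subgroup.normalizer (V : Set G))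
    (hf : H ⊓ Subgroup.centralizer (V : Set G) = ⊥) (a b : G)
    (hab : H = Subgroup.closure {a, b}) (ha : ∀ v ∈ V, ⁅a, ⁅a, v⁆⁆ = 1)
    (hb : ∀ v ∈ V, ⁅b, ⁅b, v⁆⁆ = 1) (hnp : ¬ IsPGroup p H) (hsol : IsPSolvable p ↥H) :
    p = 3 ∧ ∃ (K L : Subgroup G) (_ : (L.subgroupOf K).Normal), K ≤ H ∧
      Nonempty ((K ⧸ L.subgroupOf K) ≃* Matrix.SpecialLinearGroup (Fin 2) (ZMod 3)) := by
  have haH : a ∈ H := by rw [hab]; exact Subgroup.subset_closure (by simp)
  have hbH : b ∈ H := by rw [hab]; exact Subgroup.subset_closure (by simp)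
  have hrep := two_quad_rep_internal V H hV hHV hf a b hab ha hb hnp haH hbH
  obtain ⟨h3, hinv⟩ := hrep.sl23 hp2 hsol
  exact ⟨h3, exists_section_of_involves_subgroup H hinv⟩

end Cfsg.Agent.Lib.Helper35.GenQuad
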