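import Cfsg.Agent.Lib.Helper76.E8mDefs

/-! # E8m / Ez hives: a generic Boolean checker for `TabBasic D`, split into ranges of rows (helper35) -/

set_option autoImplicit false

namespace Cfsg.Agent.Lib.Helper76.E8m

open Cfsg Cfsg.Lie Cfsg.Agent.Lib.Helper39.Sm

/-- `Cm D a b` as a `Bool` -/
def ezb_cm (D : ChevalleyDatum) (a b : ℕ) : Bool :=
  decide (a < D.nroots) && decide (b < D.nroots) && (b != D.neg a) && (D.chainEntry a b).isEmpty

theorem ezb_cm_iff (D : ChevalleyDatum) (a b : ℕ) : ezb_cm D a b = true ↔ Cm D a b := by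
  unfold ezb_cm Cm
  simp only [Bool.and_eq_true, decide_eq_true_eq, bne_iff_ne, ne_eq, List.isEmpty_iff]
  tauto

/-- the check for one pair `(a, b)` -/
def ezb_pair (D : ChevalleyDatum) (a b : ℕ) : Bool :=
  match sm D a b with
  | none => true
  | some e =>
    decide (a < D.nroots) && decide (b < D.nroots) && decide (e < D.nroots) &&
    (a != b) && (b != D.neg a) && (a != D.neg b) &&
    (ep D a b == 1 || ep D a b == -1) &&
    (sm D b a == some e) && (ep D b a == - ep D a b) &&
    ezb_cm D a e && ezb_cm D b e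

/-- the check for the row of `a` -/
def ezb_row (D : ChevalleyDatum) (a : ℕ) : Bool :=
  (D.chain.getD a #[]).toList.all fun p => ezb_pair D a p.1

/-- the rows `lo ≤ a < hi` pass the check -/
def ezb_rng (D : ChevalleyDatum) (lo hi : ℕ) : Bool :=
  (List.range hi).all fun a => decide (a < lo) || ezb_row D a

/-- `neg` is an involution on the root indices -/
def ezb_neg (D : ChevalleyDatum) : Bool :=
  (List.range D.nroots).all fun b => D.neg (D.neg b) == b

theorem ezb_rng_spec (D : ChevalleyDatum) (lo hi : ℕ) (h : ezb_rng D lo hi = true) (a : ℕ) (h1 : lo ≤ a) (h2 : a < hi) :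
    ezb_row D a = true := by
  unfold ezb_rng at h
  rw [List.all_eq_true] at h
  have := h a (List.mem_range.2 h2)
  rw [Bool.or_eq_true, decide_eq_true_eq] at this
  rcases this with h3 | h3
  · omega
  · exact h3

/-- two adjacent ranges glue -/
theorem ezb_rng_append (D : ChevalleyDatum) (lo mid hi : ℕ) (h1 : ezb_rng D lo mid = true) (h2 : ezb_rng D mid hi = true) :
    ezb_rng D lo hi = true := by
  unfold ezb_rng
  rw [List.all_eq_true]
  intro a ha
  rw [Bool.or_eq_true, decide_eq_true_eq]
  by_cases c : a < lo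
  · exact Or.inl c
  · right
    by_cases c2 : a < mid
    · exact ezb_rng_spec D lo mid h1 a (by omega) c2
    · exact ezb_rng_spec D mid hi h2 a (by omega) (List.mem_range.1 ha)

theorem ezb_sm_mem (D : ChevalleyDatum) (a b e : ℕ) (h : sm D a b = some e) :
    a < D.chain.size ∧ ∃ p ∈ (D.chain.getD a #[]).toList, p.1 = b := by
  unfold sm ChevalleyDatum.chainEntry at h
  by_cases ha : a < D.chain.size
  · refine ⟨ha, ?_⟩
    cases hf : (D.chain.getD a #[]).toList.find? (fun e => e.1 = b) with
    | none => rw [hf] at h; simp at h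
    | some p =>
      refine ⟨p, List.mem_of_find?_eq_some hf, ?_⟩
      have := List.find?_some hf
      simpa using this
  · exfalso
    have h0 : D.chain.getD a #[] = #[] := by
      simp [Array.getD, ha]
    rw [h0] at h
    simp at h

theorem ezb_spec (D : ChevalleyDatum) (N : ℕ) (hN : D.chain.size ≤ N) (h : ezb_rng D 0 N = true)
    (hneg : ezb_neg D = true) : TabBasic D := by
  have key : ∀ a b e, sm D a b = some e →
      (a < D.nroots ∧ b < D.nroots ∧ e < D.nroots) ∧ (a ≠ b ∧ b ≠ D.neg a ∧ a ≠ D.neg b) ∧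
      (ep D a b = 1 ∨ ep D a b = -1) ∧ (sm D b a = some e ∧ ep D b a = - ep D a b) ∧ (Cm D a e ∧ Cm D b e) := by
    intro a b e hs
    obtain ⟨ha, p, hp, rfl⟩ := ezb_sm_mem D a b e hs
    have h0 := ezb_rng_spec D 0 N h a (Nat.zero_le _) (lt_of_lt_of_le ha hN)
    unfold ezb_row at h0
    rw [List.all_eq_true] at h0
    have h1 := h0 p hp
    unfold ezb_pair at h1
    rw [hs] at h1
    simp only [Bool.and_eq_true, decide_eq_true_eq, bne_iff_ne, ne_eq, Bool.or_eq_true, beq_iff_eq,
      ezb_cm_iff] at h1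
    obtain ⟨⟨⟨⟨⟨⟨⟨⟨⟨⟨h1, h2⟩, h3⟩, h4⟩, h5⟩, h6⟩, h7⟩, h8⟩, h9⟩, h10⟩, h11⟩ := h1
    exact ⟨⟨h1, h2, h3⟩, ⟨h4, h5, h6⟩, h7, ⟨h8, h9⟩, h10, h11⟩
  constructor
  · intro a b e hs; exact (key a b e hs).1
  · intro a b e hs; exact (key a b e hs).2.1
  · intro a b e hs; exact (key a b e hs).2.2.1
  · intro a b e hs; exact (key a b e hs).2.2.2.1
  · rintro a b ⟨ha, hb, hne, hc⟩
    refine ⟨hb, ha, ?_, ?_⟩
    · intro hab
      apply hne
      unfold ezb_neg at hneg
      rw [List.all_eq_true] at hneg
      have := hneg b (List.mem_range.2 hb)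
      rw [beq_iff_eq] at this
      rw [hab, this]
    · by_contra hne2
      have hs : ∃ e, sm D b a = some e := by
        unfold sm
        cases hl : D.chainEntry b a with
        | nil => exact absurd hl hne2
        | cons x l => exact ⟨x.1, rfl⟩
      obtain ⟨e, hs⟩ := hs
      have h2 := (key b a e hs).2.2.2.1.1
      unfold sm at h2
      rw [hc] at h2
      simp at h2
  · intro a b e hs; exact (key a b e hs).2.2.2.2

end Cfsg.Agent.Lib.Helper76.E8m
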