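import Mathlib

/-! # Rx hive (helper12, S2113), leaf RX-P2 `lifts_comm_of_seven`

Lifts of the elements of an elementary abelian subgroup `S` of order 8, self-centralising and normalised by an element
`g` of order 7, commute in any central extension. -/

set_option autoImplicit false

namespace Cfsg.Agent.Lib.Helper12.Rx

section p2

/-- the cyclic relations `v k v (k+1) = v (k+j)` on `ℤ/7` force `v = 1`. -/
theorem rxp2_cyc {M : Type*} [Group M] (v : ℕ → M) (h0 : v 0 = 1) (hper : ∀ k, v (k + 7) = v k)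
    (hsym : ∀ k, k ≤ 7 → v (7 - k) = v k) (hsq : ∀ k, v k * v k = 1) (j : ℕ) (hj2 : 2 ≤ j) (hj6 : j ≤ 6)
    (hrel : ∀ k, v k * v (k + 1) = v (k + j)) : ∀ k, v k = 1 := by
  have h4 : v 4 = v 3 := hsym 3 (by norm_num)
  have h5 : v 5 = v 2 := hsym 2 (by norm_num)
  have h6 : v 6 = v 1 := hsym 1 (by norm_num)
  have h7 : v 7 = 1 := by rw [← h0]; exact hper 0
  have h8 : v 8 = v 1 := hper 1
  have h9 : v 9 = v 2 := hper 2
  have key : v 1 = 1 ∧ v 2 = 1 ∧ v 3 = 1 := by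
    interval_cases j
    · -- j = 2
      have r0 : v 0 * v 1 = v 2 := hrel 0
      have r1 : v 1 * v 2 = v 3 := hrel 1
      have r2 : v 2 * v 3 = v 4 := hrel 2
      rw [h0, one_mul] at r0
      rw [← r0, hsq 1] at r1
      rw [h4, ← r1, mul_one] at r2
      exact ⟨r0.trans r2, r2, r1.symm⟩
    · -- j = 3
      have r0 : v 0 * v 1 = v 3 := hrel 0
      have r1 : v 1 * v 2 = v 4 := hrel 1
      have r2 : v 2 * v 3 = v 5 := hrel 2
      rw [h0, one_mul] at r0
      rw [h4, ← r0] at r1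
      have hb : v 2 = 1 := mul_left_cancel (a := v 1) (by rw [r1, mul_one])
      rw [h5, hb, one_mul] at r2
      exact ⟨r0.trans r2, hb, r2⟩
    · -- j = 4
      have r0 : v 0 * v 1 = v 4 := hrel 0
      have r1 : v 1 * v 2 = v 5 := hrel 1
      have r2 : v 2 * v 3 = v 6 := hrel 2
      rw [h0, one_mul, h4] at r0
      rw [h5] at r1
      have ha : v 1 = 1 := mul_right_cancel (b := v 2) (by rw [r1, one_mul])
      have hc : v 3 = 1 := by rw [← r0, ha]
      rw [h6, hc, ha, mul_one] at r2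
      exact ⟨ha, r2, hc⟩
    · -- j = 5
      have r0 : v 0 * v 1 = v 5 := hrel 0
      have r1 : v 1 * v 2 = v 6 := hrel 1
      have r2 : v 2 * v 3 = v 7 := hrel 2
      rw [h0, one_mul, h5] at r0
      rw [h6] at r1
      have hb : v 2 = 1 := mul_left_cancel (a := v 1) (by rw [r1, mul_one])
      have ha : v 1 = 1 := r0.trans hb
      rw [h7, hb, one_mul] at r2
      exact ⟨ha, hb, r2⟩
    · -- j = 6
      have r1 : v 1 * v 2 = v 7 := hrel 1
      have r2 : v 2 * v 3 = v 8 := hrel 2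
      have r3 : v 3 * v 4 = v 9 := hrel 3
      rw [h4, hsq 3, h9] at r3
      rw [h7, ← r3, mul_one] at r1
      rw [h8, ← r3, one_mul, r1] at r2
      exact ⟨r1, r3.symm, r2⟩
  obtain ⟨k1, k2, k3⟩ := key
  intro k
  induction k using Nat.strong_induction_on with
  | _ k ih =>
    by_cases hk : k < 7
    · interval_cases k
      · exact h0
      · exact k1
      · exact k2
      · exact k3
      · exact h4.trans k3
      · exact h5.trans k2
      · exact h6.trans k1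
    · have : k = (k - 7) + 7 := by omega
      rw [this, hper]
      exact ih (k - 7) (by omega)

/-- powers of a normalising element normalise. -/
theorem rxp2_powS {G : Type*} [Group G] (S : Subgroup G) (g : G) (hgS : ∀ x ∈ S, g * x * g⁻¹ ∈ S) :
    ∀ (k : ℕ), ∀ x ∈ S, g ^ k * x * (g ^ k)⁻¹ ∈ S := by
  intro k
  induction k with
  | zero => intro x hx; simpa using hx
  | succ k ih =>
    intro x hx
    have h := hgS _ (ih x hx)
    have e : g ^ (k + 1) * x * (g ^ (k + 1))⁻¹ = g * (g ^ k * x * (g ^ k)⁻¹) * g⁻¹ := by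
      rw [pow_succ']; group
    rw [e]; exact h

/-- `g` of order 7 normalising the self-centralising elementary abelian `S` of order 8 fixes no involution of `S` and
is transitive on the involutions. -/
theorem rxp2_orbit {G : Type*} [Group G] (S : Subgroup G) (hS8 : Nat.card ↥S = 8) (hS2 : ∀ x ∈ S, x * x = 1)
    (hC : ∀ z : G, (∀ x ∈ S, z * x = x * z) → z ∈ S)
    (g : G) (hg7 : orderOf g = 7) (hgS : ∀ x ∈ S, g * x * g⁻¹ ∈ S) :
    (∀ a ∈ S, g * a * g⁻¹ = a → a = 1) ∧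
    (∀ a ∈ S, ∀ b ∈ S, a ≠ 1 → b ≠ 1 → ∃ i : ℕ, i < 7 ∧ g ^ i * a * (g ^ i)⁻¹ = b) := by
  classical
  have : Fact (Nat.Prime 7) := ⟨by norm_num⟩
  have : Finite S := Nat.finite_of_card_ne_zero (by rw [hS8]; norm_num)
  have : Fintype S := Fintype.ofFinite S
  have hg7' : g ^ 7 = 1 := by rw [← hg7]; exact pow_orderOf_eq_one g
  have hpowS := rxp2_powS S g hgS
  have hginv : g⁻¹ = g ^ 6 := by
    rw [inv_eq_iff_mul_eq_one, ← pow_succ', hg7']
  have hinvS : ∀ x ∈ S, g⁻¹ * x * g ∈ S := by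
    intro x hx
    have h := hpowS 6 x hx
    rwa [← hginv, inv_inv] at h
  -- conjugation by `g` as a permutation of `S`
  let σ : Equiv.Perm S :=
    { toFun := fun s => ⟨g * s * g⁻¹, hgS s s.2⟩
      invFun := fun s => ⟨g⁻¹ * s * g, hinvS s s.2⟩
      left_inv := fun s => Subtype.ext (by simp [mul_assoc])
      right_inv := fun s => Subtype.ext (by simp [mul_assoc]) }
  have hσpow : ∀ (k : ℕ) (s : S), (((σ ^ k) s : S) : G) = g ^ k * s * (g ^ k)⁻¹ := by
    intro k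
    induction k with
    | zero => intro s; simp
    | succ k ih =>
      intro s
      rw [pow_succ', Equiv.Perm.mul_apply]
      show g * ((σ ^ k) s : G) * g⁻¹ = _
      rw [ih s, pow_succ']
      group
  have hσ7 : σ ^ 7 ^ 1 = 1 := by
    ext s
    rw [pow_one, hσpow 7 s, hg7']
    simp
  have hmod := Equiv.Perm.card_compl_support_modEq hσ7
  have hcardS : Fintype.card S = 8 := by rw [← Nat.card_eq_fintype_card, hS8]
  rw [hcardS] at hmod
  have hle : σ.supportᶜ.card ≤ 8 := by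
    rw [← hcardS]; exact Finset.card_le_univ _
  have hone_fixed : (1 : S) ∈ σ.supportᶜ := by
    rw [Finset.mem_compl, Equiv.Perm.mem_support, not_not]
    exact Subtype.ext (by show g * 1 * g⁻¹ = 1; simp)
  have hcases : σ.supportᶜ.card = 1 ∨ σ.supportᶜ.card = 8 := by
    have h := hmod
    unfold Nat.ModEq at h
    have hpos : 0 < σ.supportᶜ.card := Finset.card_pos.mpr ⟨1, hone_fixed⟩
    omega
  have hnot8 : σ.supportᶜ.card ≠ 8 := by
    intro h8
    have huniv : σ.supportᶜ = Finset.univ := by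
      apply Finset.eq_univ_of_card
      rw [h8, hcardS]
    have hgmem : g ∈ S := by
      apply hC
      intro s hs
      have hmem : (⟨s, hs⟩ : S) ∈ σ.supportᶜ := by rw [huniv]; exact Finset.mem_univ _
      rw [Finset.mem_compl, Equiv.Perm.mem_support, not_not] at hmem
      have h1 : g * s * g⁻¹ = s := congrArg Subtype.val hmem
      rw [mul_inv_eq_iff_eq_mul] at h1
      exact h1
    have hg2 : g ^ 2 = 1 := by rw [pow_two]; exact hS2 g hgmem
    have hdvd : orderOf g ∣ 2 := orderOf_dvd_of_pow_eq_one hg2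
    rw [hg7] at hdvd
    omega
  have hcard1 : σ.supportᶜ.card = 1 := hcases.resolve_right hnot8
  have hfix_only : ∀ s : S, σ s = s → s = 1 := by
    intro s hs
    have hmem : s ∈ σ.supportᶜ := by
      rw [Finset.mem_compl, Equiv.Perm.mem_support, not_not]; exact hs
    obtain ⟨z, hz⟩ := Finset.card_eq_one.mp hcard1
    rw [hz, Finset.mem_singleton] at hmem hone_fixed
    rw [hmem, hone_fixed]
  have hfix' : ∀ a ∈ S, g * a * g⁻¹ = a → a = 1 := by
    intro a ha h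
    have h1 : σ ⟨a, ha⟩ = ⟨a, ha⟩ := Subtype.ext h
    exact congrArg Subtype.val (hfix_only _ h1)
  refine ⟨hfix', ?_⟩
  intro a haS b hbS ha1 hb1
  -- no power `g ^ d`, `0 < d < 7`, commutes with `a`
  have hno : ∀ d : ℕ, 0 < d → d < 7 → g ^ d * a * (g ^ d)⁻¹ ≠ a := by
    intro d hd0 hd7 hcomm
    have hcop : Nat.Coprime d 7 :=
      Nat.Coprime.symm ((Nat.Prime.coprime_iff_not_dvd (by norm_num : Nat.Prime 7)).2
        (fun h => by have := Nat.le_of_dvd hd0 h; omega))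
    have hc : Commute (g ^ d) a := by
      rw [mul_inv_eq_iff_eq_mul] at hcomm
      exact hcomm
    have hbez := Int.gcd_eq_gcd_ab (d : ℤ) 7
    have hg1 : Int.gcd (d : ℤ) 7 = 1 := by
      have : Int.gcd (d : ℤ) (7 : ℕ) = Nat.gcd d 7 := Int.gcd_natCast_natCast d 7
      simpa [hcop.gcd_eq_one] using this
    rw [hg1] at hbez
    have hyz : g = (g ^ d) ^ (Int.gcdA d 7) := by
      have h1 : g ^ ((d : ℤ) * Int.gcdA d 7 + 7 * Int.gcdB d 7) = g := by
        rw [← hbez]; simp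
      rw [zpow_add, zpow_mul, zpow_mul, zpow_natCast] at h1
      have h7 : g ^ (7 : ℤ) = 1 := by
        have : g ^ ((7 : ℕ) : ℤ) = 1 := by rw [zpow_natCast]; exact hg7'
        simpa using this
      rw [h7, one_zpow, mul_one] at h1
      exact h1.symm
    have hcy : Commute g a := by
      rw [hyz]; exact hc.zpow_left _
    apply ha1
    apply hfix' a haS
    rw [hcy.eq, mul_inv_cancel_right]
  have hinj : Set.InjOn (fun i : ℕ => g ^ i * a * (g ^ i)⁻¹) (Finset.range 7 : Set ℕ) := by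
    intro i hi j hj hij
    simp only [Finset.coe_range, Set.mem_Iio] at hi hj
    by_contra hne
    rcases Nat.lt_or_gt_of_ne hne with hlt | hlt
    · refine hno (j - i) (by omega) (by omega) ?_
      have : g ^ (j - i) = (g ^ i)⁻¹ * g ^ j := by
        rw [eq_inv_mul_iff_mul_eq, ← pow_add]; congr 1; omega
      have hij' : g ^ i * a * (g ^ i)⁻¹ = g ^ j * a * (g ^ j)⁻¹ := hij
      rw [this, mul_inv_rev, inv_inv]
      calc (g ^ i)⁻¹ * g ^ j * a * ((g ^ j)⁻¹ * g ^ i)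
          = (g ^ i)⁻¹ * (g ^ j * a * (g ^ j)⁻¹) * g ^ i := by group
        _ = (g ^ i)⁻¹ * (g ^ i * a * (g ^ i)⁻¹) * g ^ i := by rw [hij']
        _ = a := by group
    · refine hno (i - j) (by omega) (by omega) ?_
      have : g ^ (i - j) = (g ^ j)⁻¹ * g ^ i := by
        rw [eq_inv_mul_iff_mul_eq, ← pow_add]; congr 1; omega
      have hij' : g ^ i * a * (g ^ i)⁻¹ = g ^ j * a * (g ^ j)⁻¹ := hij
      rw [this, mul_inv_rev, inv_inv]
      calc (g ^ j)⁻¹ * g ^ i * a * ((g ^ i)⁻¹ * g ^ j)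
          = (g ^ j)⁻¹ * (g ^ i * a * (g ^ i)⁻¹) * g ^ j := by group
        _ = (g ^ j)⁻¹ * (g ^ j * a * (g ^ j)⁻¹) * g ^ j := by rw [hij']
        _ = a := by group
  have hmemS : ∀ i : ℕ, g ^ i * a * (g ^ i)⁻¹ ∈ S := fun i => hpowS i a haS
  let T : Finset S := (Finset.univ : Finset S).erase 1
  have hT : T.card = 7 := by
    rw [Finset.card_erase_of_mem (Finset.mem_univ _), Finset.card_univ, hcardS]
  let O : Finset S := (Finset.range 7).image
    (fun i : ℕ => (⟨g ^ i * a * (g ^ i)⁻¹, hmemS i⟩ : S))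
  have hO : O.card = 7 := by
    rw [Finset.card_image_of_injOn, Finset.card_range]
    intro i hi j hj hij
    exact hinj hi hj (congrArg Subtype.val hij)
  have hOT : O ⊆ T := by
    intro s hs
    obtain ⟨i, -, rfl⟩ := Finset.mem_image.mp hs
    refine Finset.mem_erase.mpr ⟨?_, Finset.mem_univ _⟩
    intro h1
    have h2 : g ^ i * a * (g ^ i)⁻¹ = 1 := congrArg Subtype.val h1
    apply ha1
    have : a = (g ^ i)⁻¹ * (g ^ i * a * (g ^ i)⁻¹) * g ^ i := by group
    rw [this, h2]; group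
  have hOeq : O = T := Finset.eq_of_subset_of_card_le hOT (by rw [hT, hO])
  have hbT : (⟨b, hbS⟩ : S) ∈ T :=
    Finset.mem_erase.mpr ⟨fun h => hb1 (congrArg Subtype.val h), Finset.mem_univ _⟩
  rw [← hOeq] at hbT
  obtain ⟨i, hi7, hi⟩ := Finset.mem_image.mp hbT
  exact ⟨i, Finset.mem_range.1 hi7, congrArg Subtype.val hi⟩

/-- RX-P2. -/
theorem lifts_comm_of_seven {Γ G : Type*} [Group Γ] [Group G] (σ : Γ →* G) (hσ : Function.Surjective σ)
    (hZ : σ.ker ≤ Subgroup.center Γ) (S : Subgroup G) (hS8 : Nat.card ↥S = 8) (hS2 : ∀ x ∈ S, x * x = 1)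
    (hC : ∀ z : G, (∀ x ∈ S, z * x = x * z) → z ∈ S)
    (g : G) (hg7 : orderOf g = 7) (hgS : ∀ x ∈ S, g * x * g⁻¹ ∈ S)
    (x y : Γ) (hx : σ x ∈ S) (hy : σ y ∈ S) : x * y = y * x := by
  obtain ⟨hfix, horb⟩ := rxp2_orbit S hS8 hS2 hC g hg7 hgS
  have hpowS := rxp2_powS S g hgS
  have hg7' : g ^ 7 = 1 := by rw [← hg7]; exact pow_orderOf_eq_one g
  have hcen : ∀ z : Γ, σ z = 1 → ∀ w : Γ, z * w = w * z := by
    intro z hz w
    exact ((Subgroup.mem_center_iff.1 (hZ (MonoidHom.mem_ker.2 hz))) w).symm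
  by_cases hx1 : σ x = 1
  · exact hcen x hx1 y
  by_cases hy1 : σ y = 1
  · exact (hcen y hy1 x).symm
  have hSab : ∀ a ∈ S, ∀ b ∈ S, a * b = b * a := by
    intro a ha b hb
    have h := hS2 (a * b) (mul_mem ha hb)
    have haa := hS2 a ha
    have hbb := hS2 b hb
    have h' : b * a = a * (a * b * (a * b)) * b := by
      calc b * a = (a * a) * (b * a) * (b * b) := by rw [haa, hbb, one_mul, mul_one]
        _ = a * (a * b * (a * b)) * b := by group
    rw [h', h, mul_one]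
  have hinvS : ∀ a ∈ S, a⁻¹ = a := fun a ha => inv_eq_of_mul_eq_one_left (hS2 a ha)
  obtain ⟨γ, hγ⟩ := hσ g
  have hγ7 : σ (γ ^ 7) = 1 := by rw [map_pow, hγ, hg7']
  obtain ⟨τ, hτ⟩ : ∃ τ : ℕ → Γ, ∀ k, τ k = γ ^ k * x * (γ ^ k)⁻¹ := ⟨_, fun _ => rfl⟩
  have hστ : ∀ k, σ (τ k) = g ^ k * σ x * (g ^ k)⁻¹ := by
    intro k
    rw [hτ, map_mul, map_mul, map_inv, map_pow, hγ]
  have hτS : ∀ k, σ (τ k) ∈ S := fun k => by rw [hστ]; exact hpowS k _ hx
  have hτ0 : τ 0 = x := by rw [hτ]; simp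
  have hτper : ∀ k, τ (k + 7) = τ k := by
    intro k
    have hz := hcen (γ ^ 7) hγ7 x
    rw [hτ, hτ, pow_add]
    calc γ ^ k * γ ^ 7 * x * (γ ^ k * γ ^ 7)⁻¹ = γ ^ k * (γ ^ 7 * x) * (γ ^ 7)⁻¹ * (γ ^ k)⁻¹ := by group
      _ = γ ^ k * (x * γ ^ 7) * (γ ^ 7)⁻¹ * (γ ^ k)⁻¹ := by rw [hz]
      _ = γ ^ k * x * (γ ^ k)⁻¹ := by group
  obtain ⟨c, hc⟩ : ∃ c : Γ → Γ, ∀ w, c w = x * w * x⁻¹ * w⁻¹ := ⟨_, fun _ => rfl⟩
  have hcker : ∀ w, σ w ∈ S → σ (c w) = 1 := by
    intro w hw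
    rw [hc, map_mul, map_mul, map_mul, map_inv, map_inv, hSab _ hx _ hw]
    group
  have hcmul : ∀ w w', σ w' ∈ S → c (w * w') = c w * c w' := by
    intro w w' hw'
    have hz := hcen (c w') (hcker w' hw') w⁻¹
    calc c (w * w') = x * w * x⁻¹ * (c w' * w⁻¹) := by rw [hc, hc]; group
      _ = x * w * x⁻¹ * (w⁻¹ * c w') := by rw [hz]
      _ = c w * c w' := by rw [hc w]; group
  have hcdep : ∀ w w', σ w = σ w' → c w = c w' := by
    intro w w' h
    have hz1 : σ (w⁻¹ * w') = 1 := by rw [map_mul, map_inv, h, inv_mul_cancel]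
    have hz := hcen _ hz1 x⁻¹
    have e : w' = w * (w⁻¹ * w') := by group
    rw [e, hc, hc]
    generalize w⁻¹ * w' = z at hz
    calc x * w * x⁻¹ * w⁻¹ = x * w * x⁻¹ * w⁻¹ := rfl
      _ = x * w * (x⁻¹ * z) * z⁻¹ * w⁻¹ := by group
      _ = x * w * (z * x⁻¹) * z⁻¹ * w⁻¹ := by rw [hz]
      _ = x * (w * z) * x⁻¹ * (w * z)⁻¹ := by group
  have hc1 : ∀ z, σ z = 1 → c z = 1 := by
    intro z hz
    rw [hc, ← hcen z hz x]
    group
  obtain ⟨v, hv⟩ : ∃ v : ℕ → Γ, ∀ k, v k = c (τ k) := ⟨_, fun _ => rfl⟩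
  have h0 : v 0 = 1 := by
    rw [hv, hτ0, hc]; group
  have hper : ∀ k, v (k + 7) = v k := by
    intro k; rw [hv, hv, hτper]
  have hsq : ∀ k, v k * v k = 1 := by
    intro k
    rw [hv, ← hcmul _ _ (hτS k)]
    apply hc1
    rw [map_mul]
    exact hS2 _ (hτS k)
  have hsym : ∀ k, k ≤ 7 → v (7 - k) = v k := by
    intro k hk
    have hcz := hcen (v (7 - k)) (by rw [hv]; exact hcker _ (hτS _)) ((γ ^ k)⁻¹)
    have e1 : γ ^ k * τ (7 - k) * (γ ^ k)⁻¹ = x := by
      rw [← hτ0, ← hτper 0, hτ (7 - k), hτ (0 + 7)]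
      have : γ ^ (0 + 7) = γ ^ k * γ ^ (7 - k) := by rw [← pow_add]; congr 1; omega
      rw [this]; group
    have e2 : γ ^ k * x * (γ ^ k)⁻¹ = τ k := (hτ k).symm
    have e3 : v (7 - k) = γ ^ k * v (7 - k) * (γ ^ k)⁻¹ := by
      rw [mul_assoc, hcz]; group
    have e4 : γ ^ k * v (7 - k) * (γ ^ k)⁻¹ = (v k)⁻¹ := by
      rw [hv, hv, hc, hc]
      calc γ ^ k * (x * τ (7 - k) * x⁻¹ * (τ (7 - k))⁻¹) * (γ ^ k)⁻¹
          = (γ ^ k * x * (γ ^ k)⁻¹) * (γ ^ k * τ (7 - k) * (γ ^ k)⁻¹) * (γ ^ k * x * (γ ^ k)⁻¹)⁻¹ *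
              (γ ^ k * τ (7 - k) * (γ ^ k)⁻¹)⁻¹ := by group
        _ = τ k * x * (τ k)⁻¹ * x⁻¹ := by rw [e1, e2]
        _ = (x * τ k * x⁻¹ * (τ k)⁻¹)⁻¹ := by group
    rw [e3, e4]
    exact inv_eq_of_mul_eq_one_left (hsq k)
  -- the index `j`
  have hb : σ x * (g * σ x * g⁻¹) ∈ S := mul_mem hx (hgS _ hx)
  have hb1 : σ x * (g * σ x * g⁻¹) ≠ 1 := by
    intro h
    apply hx1
    apply hfix _ hx
    have h2 : g * σ x * g⁻¹ = (σ x)⁻¹ := (inv_eq_of_mul_eq_one_right h).symm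
    rw [h2, hinvS _ hx]
  obtain ⟨j, hj7, hj⟩ := horb _ hx _ hb hx1 hb1
  have hj0 : j ≠ 0 := by
    rintro rfl
    apply hx1
    have h : σ x = σ x * (g * σ x * g⁻¹) := by simpa using hj
    have h2 : g * σ x * g⁻¹ = 1 := by
      have := mul_left_cancel (a := σ x) (b := 1) (c := g * σ x * g⁻¹) (by rw [mul_one]; exact h)
      exact this.symm
    have h3 : σ x = g⁻¹ * (g * σ x * g⁻¹) * g := by group
    rw [h3, h2]; group
  have hj1 : j ≠ 1 := by
    rintro rfl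
    apply hx1
    have h : g * σ x * g⁻¹ = σ x * (g * σ x * g⁻¹) := by simpa using hj
    exact (mul_right_cancel (b := g * σ x * g⁻¹) (a := 1) (c := σ x) (by rw [one_mul]; exact h)).symm
  have hrel : ∀ k, v k * v (k + 1) = v (k + j) := by
    intro k
    rw [hv, hv, hv, ← hcmul _ _ (hτS _)]
    apply hcdep
    rw [map_mul, hστ, hστ, hστ, pow_add g k j, pow_succ g k]
    calc g ^ k * σ x * (g ^ k)⁻¹ * (g ^ k * g * σ x * (g ^ k * g)⁻¹)
        = g ^ k * (σ x * (g * σ x * g⁻¹)) * (g ^ k)⁻¹ := by group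
      _ = g ^ k * (g ^ j * σ x * (g ^ j)⁻¹) * (g ^ k)⁻¹ := by rw [hj]
      _ = g ^ k * g ^ j * σ x * (g ^ k * g ^ j)⁻¹ := by group
  have hv1 := rxp2_cyc v h0 hper hsym hsq j (by omega) (by omega) hrel
  -- conclusion
  obtain ⟨i, -, hi⟩ := horb _ hx _ hy hx1 hy1
  have hcy : c y = 1 := by
    rw [hcdep y (τ i) (by rw [hστ, hi]), ← hv, hv1]
  rw [hc] at hcy
  have : x * y = y * x := by
    have h := mul_inv_eq_one.1 hcy
    -- h : x * y * x⁻¹ = y
    calc x * y = x * y * x⁻¹ * x := by group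
      _ = y * x := by rw [h]
  exact this

end p2

end Cfsg.Agent.Lib.Helper12.Rx
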