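import Mathlib
import Cfsg.Agent.Lib.Helper2.Frobenius
import Cfsg.Agent.Lib.Helper33.Pair

set_option autoImplicit false

universe u

namespace Cfsg.Agent.Lib.Helper35

open Subgroup
open Cfsg.Agent.Lib.Helper33 Cfsg.Agent.Lib.Helper2
open scoped commutatorElement

/-- `P` controls its own fusion in `G`. -/
def SelfFusion {G : Type*} [Group G] (P : Subgroup G) : Prop :=
  ∀ x ∈ P, ∀ y ∈ P, (∃ g : G, g * x * g⁻¹ = y) → ∃ u ∈ P, u * x * u⁻¹ = y

section inherit
variable {G : Type*} [Group G] [Finite G] {p : ℕ} [hp : Fact p.Prime]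

/-- The `p`-part of an element outside a normal subgroup of index `p` is still outside. -/
theorem exists_pElement_notMem (M : Subgroup G) [M.Normal] (hM : M.index = p) {c : G}
    (hc : c ∉ M) : ∃ r k : ℕ, (c ^ r) ^ p ^ k = 1 ∧ c ^ r ∉ M := by
  have ho : orderOf c ≠ 0 := (orderOf_pos c).ne'
  refine ⟨ordCompl[p] (orderOf c), (orderOf c).factorization p, ?_, ?_⟩
  · rw [← pow_mul, mul_comm, Nat.ordProj_mul_ordCompl_eq_self, pow_orderOf_eq_one]
  · intro hd
    apply hc
    have h1 : ((c : G ⧸ M)) ^ (ordCompl[p] (orderOf c)) = 1 := by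
      rw [← QuotientGroup.mk_pow, QuotientGroup.eq_one_iff]; exact hd
    have h2 : ((c : G ⧸ M)) ^ p = 1 := by
      rw [← QuotientGroup.mk_pow, QuotientGroup.eq_one_iff, ← hM]
      exact M.pow_index_mem c
    have h3 : orderOf (c : G ⧸ M) ∣ Nat.gcd p (ordCompl[p] (orderOf c)) :=
      Nat.dvd_gcd (orderOf_dvd_of_pow_eq_one h2) (orderOf_dvd_of_pow_eq_one h1)
    rw [(Nat.coprime_ordCompl hp.out ho).gcd_eq_one, Nat.dvd_one, orderOf_eq_one_iff,
      QuotientGroup.eq_one_iff] at h3
    exact h3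

/-- Control of fusion passes to a normal subgroup of index `p`. -/
theorem selfFusion_inherit (P : Sylow p G) (hfus : SelfFusion (P : Subgroup G))
    (M : Subgroup G) [hMn : M.Normal] (hM : M.index = p) :
    ∀ x ∈ (P : Subgroup G) ⊓ M, ∀ y ∈ (P : Subgroup G) ⊓ M, (∃ m ∈ M, m * x * m⁻¹ = y) →
      ∃ u ∈ (P : Subgroup G) ⊓ M, u * x * u⁻¹ = y := by
  rintro x ⟨hxP, hxM⟩ y ⟨hyP, hyM⟩ ⟨m, hm, hmx⟩
  obtain ⟨u, huP, hux⟩ := hfus x hxP y hyP ⟨m, hmx⟩
  by_cases huM : u ∈ M
  · exact ⟨u, ⟨huP, huM⟩, hux⟩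
  -- `c = m⁻¹ u` centralizes `x` and is outside `M`
  have hcM : m⁻¹ * u ∉ M := by
    intro h
    apply huM
    have : u = m * (m⁻¹ * u) := by group
    rw [this]; exact M.mul_mem hm h
  have hcx : (m⁻¹ * u) * x = x * (m⁻¹ * u) := by
    have e1 : u * x = y * u := by rw [← hux]; group
    have e2 : m * x = y * m := by rw [← hmx]; group
    have e3 : m⁻¹ * y = x * m⁻¹ := by
      have : m⁻¹ * y = m⁻¹ * (y * m) * m⁻¹ := by group
      rw [this, ← e2]; group
    rw [mul_assoc, e1, ← mul_assoc, e3, mul_assoc]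
  obtain ⟨r, k, hdk, hdM⟩ := exists_pElement_notMem M hM hcM
  set d := (m⁻¹ * u) ^ r with hd
  have hdx : Commute d x := (Commute.pow_left (show Commute (m⁻¹ * u) x from hcx) r)
  -- the `p`-group generated by `d` and `x`
  have hDd : IsPGroup p (zpowers d) := by
    have h1 : orderOf d ∣ p ^ k := orderOf_dvd_of_pow_eq_one hdk
    obtain ⟨j, -, hj⟩ := (Nat.dvd_prime_pow hp.out).mp h1
    exact IsPGroup.of_card (n := j) (by rw [Nat.card_zpowers, hj])
  have hDx : IsPGroup p (zpowers x) := P.2.to_le (zpowers_le.mpr hxP)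
  have hnorm : zpowers d ≤ normalizer ((zpowers x : Subgroup G) : Set G) := by
    refine le_trans ?_ (centralizer_le_normalizer _)
    rw [zpowers_le]
    rw [mem_centralizer_iff]
    intro h hh
    obtain ⟨i, rfl⟩ := mem_zpowers_iff.mp hh
    exact ((hdx.zpow_right i).eq).symm
  have hD : IsPGroup p (zpowers d ⊔ zpowers x : Subgroup G) :=
    IsPGroup.to_sup_of_normal_right' hDd hDx hnorm
  obtain ⟨g, -, hg⟩ := sylow_sub (K := ⊤) (P := (P : Subgroup G)) le_top P.2
    (by rw [relIndex_top_right]; exact P.not_dvd_index) le_top hD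
  have hgx : g * x * g⁻¹ ∈ (P : Subgroup G) :=
    hg (conj_mem_cj (le_sup_right (a := zpowers d) (mem_zpowers x)))
  have hgd : g * d * g⁻¹ ∈ (P : Subgroup G) :=
    hg (conj_mem_cj (le_sup_left (b := zpowers x) (mem_zpowers d)))
  obtain ⟨v, hvP, hvx⟩ := hfus x hxP _ hgx ⟨g, rfl⟩
  -- `c' = (v⁻¹ g) d (v⁻¹ g)⁻¹`
  set w := v⁻¹ * g with hw
  have hwx : w * x = x * w := by
    have e1 : v * x = g * x * g⁻¹ * v := by rw [← hvx]; group
    have : w * x = v⁻¹ * (g * x * g⁻¹ * v) * v⁻¹ * g := by rw [hw]; group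
    rw [this, ← e1, hw]; group
  set c' := w * d * w⁻¹ with hc'
  have hc'P : c' ∈ (P : Subgroup G) := by
    have : c' = v⁻¹ * (g * d * g⁻¹) * v := by rw [hc', hw]; group
    rw [this]
    exact mul_mem (mul_mem (inv_mem hvP) hgd) hvP
  have hc'M : c' ∉ M := by
    intro h
    apply hdM
    have := hMn.conj_mem _ h w⁻¹
    have e : w⁻¹ * c' * w⁻¹⁻¹ = d := by rw [hc']; group
    rwa [e] at this
  have hc'x : Commute c' x := by
    show c' * x = x * c'
    have hwx' : w⁻¹ * x = x * w⁻¹ := by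
      have : w⁻¹ * x = w⁻¹ * (x * w) * w⁻¹ := by group
      rw [this, ← hwx]; group
    rw [hc', mul_assoc, hwx', ← mul_assoc, mul_assoc w, hdx.eq, ← mul_assoc, hwx]
    group
  -- choose `j` with `u * c' ^ j ∈ M`
  have hcard : Nat.card (G ⧸ M) = p := by rw [← index_eq_card]; exact hM
  have hne : (c' : G ⧸ M) ≠ 1 := by
    rw [Ne, QuotientGroup.eq_one_iff]; exact hc'M
  have htop := zpowers_eq_top_of_prime_card hcard hne
  have hmem : ((u : G ⧸ M))⁻¹ ∈ zpowers (c' : G ⧸ M) := by rw [htop]; trivial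
  obtain ⟨j, hj⟩ := mem_zpowers_iff.mp hmem
  have hqM : u * c' ^ j ∈ M := by
    rw [← QuotientGroup.eq_one_iff, QuotientGroup.mk_mul, QuotientGroup.mk_zpow, hj,
      mul_inv_cancel]
  refine ⟨u * c' ^ j, ⟨mul_mem huP (zpow_mem hc'P j), hqM⟩, ?_⟩
  have hcj : c' ^ j * x = x * c' ^ j := (hc'x.zpow_left j).eq
  rw [← hux, mul_inv_rev, mul_assoc u, hcj]
  group

end inherit

/-- Under control of fusion the focal subgroup is the derived subgroup. -/
theorem focalSubgroup_le_commutator_of_selfFusion {G : Type*} [Group G] (P : Subgroup G)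
    (hfus : SelfFusion P) : P.focalSubgroup ≤ ⁅P, P⁆ := by
  rw [Subgroup.focalSubgroup_def, Subgroup.closure_le]
  rintro g ⟨hgP, x, hx, u, rfl⟩
  have h2 : u * x⁻¹ * u⁻¹ ∈ P := by
    have e : u * x⁻¹ * u⁻¹ = x⁻¹ * ⁅x, u⁆ := by rw [commutatorElement_def]; group
    rw [e]; exact P.mul_mem (P.inv_mem hx) hgP
  obtain ⟨s, hs, hs2⟩ := hfus x⁻¹ (P.inv_mem hx) _ h2 ⟨u, rfl⟩
  have e2 : ⁅x, u⁆ = ⁅x, s⁆ := by
    rw [commutatorElement_def, commutatorElement_def]
    calc x * u * x⁻¹ * u⁻¹ = x * (u * x⁻¹ * u⁻¹) := by group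
      _ = x * (s * x⁻¹ * s⁻¹) := by rw [hs2]
      _ = x * s * x⁻¹ * s⁻¹ := by group
  rw [SetLike.mem_coe, e2]
  exact Subgroup.commutator_mem_commutator hx hs

open scoped IsMulCommutative in
/-- If a Sylow `p`-subgroup controls its own fusion, then `O^p(G)` is a `p'`-group. -/
theorem not_dvd_card_pResidual_of_selfFusion {p : ℕ} [hp : Fact p.Prime] :
    ∀ (n : ℕ) (G : Type u) [Group G] [Finite G], Nat.card G = n → ∀ P : Sylow p G,
      SelfFusion (P : Subgroup G) → ¬ p ∣ Nat.card (Cfsg.pResidual p G) := by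
  intro n
  induction n using Nat.strong_induction_on with
  | _ n ih =>
  intro G _ _ hn P hF
  by_cases hP : (P : Subgroup G) = ⊥
  · intro hdvd
    have h1 : p ∣ Nat.card G := hdvd.trans (Subgroup.card_subgroup_dvd_card _)
    have h2 : Nat.card (P : Subgroup G) * (P : Subgroup G).index = Nat.card G :=
      Subgroup.card_mul_index _
    rw [hP, Subgroup.card_bot, one_mul] at h2
    rw [← h2, ← hP] at h1
    exact P.not_dvd_index h1
  · have hfoc := focalSubgroup_le_commutator_of_selfFusion _ hF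
    have hnil : Group.IsNilpotent (P : Subgroup G) := P.2.isNilpotent
    have hnt : Nontrivial (P : Subgroup G) := (Subgroup.nontrivial_iff_ne_bot _).mpr hP
    have h5 : ⁅(P : Subgroup G), (P : Subgroup G)⁆ < (P : Subgroup G) := by
      have := Group.IsSolvable.commutator_lt_top_of_nontrivial (P : Subgroup G)
      rw [← (P : Subgroup G).map_subtype_commutator]
      calc Subgroup.map (P : Subgroup G).subtype (commutator (P : Subgroup G))
          < Subgroup.map (P : Subgroup G).subtype ⊤ :=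
            (Subgroup.map_subtype_lt_map_subtype).mpr this
        _ = (P : Subgroup G) := by rw [← MonoidHom.range_eq_map, Subgroup.range_subtype]
    have hfoclt : (P : Subgroup G).focalSubgroup < (P : Subgroup G) := lt_of_le_of_lt hfoc h5
    -- the abelian quotient
    have hQ : IsPGroup p ((P : Subgroup G) ⧸ (P : Subgroup G).focalSubgroupOf) :=
      P.2.to_quotient _
    obtain ⟨k, hk⟩ := hQ.exists_card_eq
    have hk0 : k ≠ 0 := by
      rintro rfl
      rw [pow_zero, ← Subgroup.index_eq_card, Subgroup.index_eq_one,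
        Subgroup.focalSubgroupOf_def, Subgroup.subgroupOf_eq_top] at hk
      exact (not_le_of_gt hfoclt) hk
    obtain ⟨L, hL⟩ := Sylow.exists_subgroup_card_pow_prime p
      (show p ^ (k - 1) ∣ Nat.card ((P : Subgroup G) ⧸ (P : Subgroup G).focalSubgroupOf) from by
        rw [hk]; exact pow_dvd_pow p (Nat.sub_le k 1))
    have hLidx : L.index = p := by
      have h1 := L.card_mul_index
      rw [hL, hk] at h1
      have h2 : p ^ k = p ^ (k - 1) * p := by
        rw [← pow_succ]; congr 1; omega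
      rw [h2] at h1
      exact Nat.eq_of_mul_eq_mul_left (pow_pos hp.out.pos _) h1
    set M : Subgroup G := L.comap (Subgroup.transferFocal (P : Subgroup G)) with hMdef
    have hMn : M.Normal := by rw [hMdef]; infer_instance
    have hMidx : M.index = p := by
      rw [hMdef, Subgroup.index_comap_of_surjective L (Subgroup.transferFocal_surjective P)]
      exact hLidx
    have hMp : IsPGroup p (G ⧸ M) :=
      IsPGroup.of_card (n := 1) (by rw [← Subgroup.index_eq_card, hMidx, pow_one])
    have hK1 : ∀ g : G, Nat.Coprime (orderOf g) p → g ∈ M := fun g hg =>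
      mem_of_coprime_of_isPGroup_quotient M hMp hg
    have hcardM : Nat.card M < n := by
      rw [← hn]
      have hlt : M < ⊤ := by
        rw [lt_top_iff_ne_top]
        intro h
        rw [h, Subgroup.index_top] at hMidx
        exact hp.out.one_lt.ne hMidx
      have := card_lt_of_lt' hlt
      rwa [Subgroup.card_top] at this
    -- the Sylow subgroup of `M`
    have hQi : ¬ p ∣ ((P : Subgroup G) ⊓ M).relIndex M :=
      sylow_inf_normal (N := ⊤) (R := (P : Subgroup G)) (C := M) le_top P.2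
        (by rw [Subgroup.relIndex_top_right]; exact P.not_dvd_index) le_top
        (by rw [Subgroup.normalizer_eq_top])
    have hQp : IsPGroup p (((P : Subgroup G) ⊓ M).subgroupOf M) :=
      (P.2.to_le inf_le_left).comap_subtype
    let Q : Sylow p M := hQp.toSylow hQi
    have hQmem : ∀ z : M, z ∈ (Q : Subgroup M) ↔ (z : G) ∈ (P : Subgroup G) ⊓ M := by
      intro z
      show z ∈ ((P : Subgroup G) ⊓ M).subgroupOf M ↔ _
      rw [Subgroup.mem_subgroupOf]
    have hFQ : SelfFusion (Q : Subgroup M) := by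
      intro x hx y hy ⟨g, hg⟩
      rw [hQmem] at hx hy
      obtain ⟨u, hu, hux⟩ := selfFusion_inherit P hF M hMidx (x : G) hx (y : G) hy
        ⟨(g : G), g.2, by rw [← hg]; rfl⟩
      refine ⟨⟨u, hu.2⟩, (hQmem _).mpr hu, Subtype.ext ?_⟩
      simpa using hux
    have hIH := ih (Nat.card M) hcardM M rfl Q hFQ
    intro hdvd
    apply hIH
    have hle := pResidual_le_map_pResidual M hK1
    have h1 := Subgroup.card_dvd_of_le hle
    rw [Subgroup.card_map_of_injective M.subtype_injective] at h1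
    exact hdvd.trans h1

/-- **Control of fusion gives a normal `p`-complement.** -/
theorem exists_normal_complement_of_selfFusion {G : Type u} [Group G] [Finite G] {p : ℕ}
    [hp : Fact p.Prime] (P : Sylow p G) (hF : SelfFusion (P : Subgroup G)) :
    ∃ N : Subgroup G, N.Normal ∧ N.IsComplement' (P : Subgroup G) :=
  (exists_normal_complement_iff_not_dvd_card_pResidual P).mpr
    (not_dvd_card_pResidual_of_selfFusion (Nat.card G) G rfl P hF)

end Cfsg.Agent.Lib.Helper35
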