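import Mathlib
import Cfsg.Agent.Lib.Helper35.FusionControl

set_option autoImplicit false

universe u

namespace Cfsg.Agent.Lib.Helper35

open Subgroup

/-- In a nilpotent group, elements of coprime (finite) orders commute. -/
theorem commute_of_coprime_of_isNilpotent (G : Type*) [Group G] [Group.IsNilpotent G] :
    ∀ (x e : G) (m n : ℕ), x ^ m = 1 → e ^ n = 1 → Nat.Coprime m n → Commute x e := by
  refine Group.nilpotent_center_quotient_ind
    (P := fun G _ _ => ∀ (x e : G) (m n : ℕ), x ^ m = 1 → e ^ n = 1 → Nat.Coprime m n →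
      Commute x e) G ?_ ?_
  · intro G _ _ x e m n _ _ _
    exact Subsingleton.elim _ _
  · intro G _ _ ih x e m n hx he hmn
    have hc := ih (x : G ⧸ center G) (e : G ⧸ center G) m n
      (by rw [← QuotientGroup.mk_pow, hx]; rfl) (by rw [← QuotientGroup.mk_pow, he]; rfl) hmn
    have hz : x * e * x⁻¹ * e⁻¹ ∈ center G := by
      rw [← QuotientGroup.eq_one_iff]
      simp only [QuotientGroup.mk_mul, QuotientGroup.mk_inv]
      rw [hc.eq]; group
    set z := x * e * x⁻¹ * e⁻¹ with hzdef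
    have hzc : ∀ g : G, Commute z g := fun g => (mem_center_iff.mp hz g).symm
    have hzn : z ^ n = 1 := by
      have e1 : x * e * x⁻¹ = z * e := by rw [hzdef]; group
      have e2 : (x * e * x⁻¹) ^ n = 1 := by rw [conj_pow, he]; group
      rw [e1, (hzc e).mul_pow, he, mul_one] at e2
      exact e2
    have hzm : z ^ m = 1 := by
      have e1 : e * x⁻¹ * e⁻¹ = x⁻¹ * z := by rw [hzdef]; group
      have e2 : (e * x⁻¹ * e⁻¹) ^ m = 1 := by rw [conj_pow, inv_pow, hx]; group
      rw [e1, ((hzc x⁻¹).symm).mul_pow, inv_pow, hx, inv_one, one_mul] at e2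
      exact e2
    have h1 : orderOf z ∣ Nat.gcd m n :=
      Nat.dvd_gcd (orderOf_dvd_of_pow_eq_one hzm) (orderOf_dvd_of_pow_eq_one hzn)
    rw [hmn.gcd_eq_one, Nat.dvd_one, orderOf_eq_one_iff] at h1
    show x * e = e * x
    have : x * e = z * (e * x) := by rw [hzdef]; group
    rw [this, h1, one_mul]

/-- In a finite nilpotent group, conjugation of an element of a Sylow subgroup can be done
inside that Sylow subgroup. -/
theorem exists_mem_sylow_conj_eq {H : Type*} [Group H] [Finite H] [hH : Group.IsNilpotent H]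
    {p : ℕ} [hp : Fact p.Prime] (P : Sylow p H) (h x : H) (hx : x ∈ P) :
    ∃ u ∈ P, u * x * u⁻¹ = h * x * h⁻¹ := by
  have h3 : ∀ (p : ℕ) (_ : Fact p.Prime) (P : Sylow p H), (P : Subgroup H).Normal :=
    ((Group.isNilpotent_of_finite_tfae (G := H)).out 0 3).mp hH
  have hPn : (P : Subgroup H).Normal := h3 p hp P
  have ho : orderOf h ≠ 0 := (orderOf_pos h).ne'
  set k := (orderOf h).factorization p
  set r := ordCompl[p] (orderOf h)
  have hkr : p ^ k * r = orderOf h := Nat.ordProj_mul_ordCompl_eq_self _ _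
  have hcop : Nat.Coprime (p ^ k) r := Nat.Coprime.pow_left _ (Nat.coprime_ordCompl hp.out ho)
  have hbez := Nat.gcd_eq_gcd_ab (p ^ k) r
  rw [hcop.gcd_eq_one] at hbez
  set A := Nat.gcdA (p ^ k) r
  set B := Nat.gcdB (p ^ k) r
  -- the `p`-part and the `p'`-part
  set u := (h ^ r) ^ B with hu
  set e := (h ^ (p ^ k)) ^ A with he
  have hue : h = u * e := by
    have : h = h ^ (((p ^ k : ℕ) : ℤ) * A + ((r : ℕ) : ℤ) * B) := by
      rw [← hbez]; simp
    rw [zpow_add, zpow_mul, zpow_mul, zpow_natCast, zpow_natCast] at this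
    rw [hu, he]
    have hcomm : Commute ((h ^ p ^ k) ^ A) ((h ^ r) ^ B) :=
      (((Commute.refl h).pow_pow _ _).zpow_zpow _ _)
    rw [← hcomm.eq]; exact this
  have hupk : u ^ (p ^ k) = 1 := by
    rw [hu, ← zpow_natCast, ← zpow_mul, mul_comm, zpow_mul, zpow_natCast, ← pow_mul, mul_comm,
      hkr, pow_orderOf_eq_one, one_zpow]
  have her : e ^ r = 1 := by
    rw [he, ← zpow_natCast, ← zpow_mul, mul_comm, zpow_mul, zpow_natCast, ← pow_mul,
      hkr, pow_orderOf_eq_one, one_zpow]
  -- `u ∈ P`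
  have huP : u ∈ P := by
    have hDu : IsPGroup p (zpowers u) := by
      have h1 : orderOf u ∣ p ^ k := orderOf_dvd_of_pow_eq_one hupk
      obtain ⟨j, -, hj⟩ := (Nat.dvd_prime_pow hp.out).mp h1
      exact IsPGroup.of_card (n := j) (by rw [Nat.card_zpowers, hj])
    obtain ⟨Q, hQ⟩ := hDu.exists_le_sylow
    have := Sylow.unique_of_normal P hPn
    have hQP : Q = P := Subsingleton.elim _ _
    rw [← hQP]
    exact hQ (mem_zpowers u)
  -- `e` commutes with `x`
  obtain ⟨j, hj⟩ := (IsPGroup.iff_orderOf.mp P.2) ⟨x, hx⟩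
  have hxj : x ^ (p ^ j) = 1 := by
    rw [← hj, Subgroup.orderOf_mk]; exact pow_orderOf_eq_one x
  have hxe : Commute x e :=
    commute_of_coprime_of_isNilpotent H x e (p ^ j) r hxj her
      (Nat.Coprime.pow_left _ (Nat.coprime_ordCompl hp.out ho))
  refine ⟨u, huP, ?_⟩
  have h4 : h * x * h⁻¹ = u * (e * x * e⁻¹) * u⁻¹ := by
    conv_lhs => rw [hue]
    group
  rw [h4, ← hxe.eq, mul_inv_cancel_right]

section hall
variable {G : Type u} [Group G] [Finite G]

/-- A nilpotent Hall subgroup controlling its own fusion: normal `p`-complements for the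
primes dividing its order. -/
theorem exists_normal_pComplement_of_hall_fusion (H : Subgroup G) (hH : Group.IsNilpotent H)
    (hHall : Nat.Coprime (Nat.card H) H.index)
    (p : ℕ) [hp : Fact p.Prime] (hpH : p ∣ Nat.card H)
    (hfus : ∀ x ∈ H, ∀ y ∈ H, (∃ k : ℕ, x ^ p ^ k = 1) → (∃ g : G, g * x * g⁻¹ = y) →
      ∃ h ∈ H, h * x * h⁻¹ = y) :
    ∃ N : Subgroup G, N.Normal ∧ N.index = p ^ (Nat.card H).factorization p ∧
      (Nat.card N).Coprime p := by
  let PH : Sylow p H := default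
  have hpi : ¬ p ∣ H.index := fun h =>
    hp.out.one_lt.ne' (Nat.eq_one_of_dvd_coprimes hHall hpH h)
  have hP0 : IsPGroup p ((PH : Subgroup H).map H.subtype) := PH.2.map _
  have hP0i : ¬ p ∣ ((PH : Subgroup H).map H.subtype).index := by
    rw [index_map_subtype]
    exact Nat.Prime.not_dvd_mul hp.out PH.not_dvd_index hpi
  let P : Sylow p G := hP0.toSylow hP0i
  have hPmem : ∀ z : G, z ∈ (P : Subgroup G) ↔ ∃ hz : z ∈ H, (⟨z, hz⟩ : H) ∈ PH := by
    intro z
    show z ∈ (PH : Subgroup H).map H.subtype ↔ _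
    constructor
    · rintro ⟨w, hw, rfl⟩
      exact ⟨w.2, hw⟩
    · rintro ⟨hz, hw⟩
      exact ⟨⟨z, hz⟩, hw, rfl⟩
  have hF : SelfFusion (P : Subgroup G) := by
    intro x hx y hy hg
    obtain ⟨hxH, hxP⟩ := (hPmem x).mp hx
    obtain ⟨hyH, hyP⟩ := (hPmem y).mp hy
    have hxpow : ∃ k : ℕ, x ^ p ^ k = 1 := by
      obtain ⟨k, hk⟩ := PH.2 ⟨⟨x, hxH⟩, hxP⟩
      refine ⟨k, ?_⟩
      have := congrArg (fun z : (PH : Subgroup H) => ((z : H) : G)) hk
      simpa using this
    obtain ⟨h, hhH, hh⟩ := hfus x hxH y hyH hxpow hg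
    obtain ⟨u, hu, hux⟩ := exists_mem_sylow_conj_eq PH ⟨h, hhH⟩ ⟨x, hxH⟩ hxP
    refine ⟨u, (hPmem u).mpr ⟨u.2, hu⟩, ?_⟩
    have := congrArg Subtype.val hux
    simp only [Subgroup.coe_mul, Subgroup.coe_inv] at this
    rw [this, hh]
  obtain ⟨N, hNn, hNc⟩ := exists_normal_complement_of_selfFusion P hF
  refine ⟨N, hNn, ?_, ?_⟩
  · rw [hNc.symm.index_eq_card, P.card_eq_multiplicity]
    congr 1
    have h1 : Nat.card G = Nat.card H * H.index := (H.card_mul_index).symm
    rw [h1, Nat.factorization_mul Nat.card_pos.ne' (H.index_ne_zero_of_finite)]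
    simp [Nat.factorization_eq_zero_of_not_dvd hpi]
  · rw [← hNc.index_eq_card]
    exact (Nat.Prime.coprime_iff_not_dvd hp.out).mpr P.not_dvd_index |>.symm

/-- A nilpotent Hall subgroup controlling the fusion of its elements of prime power order has a
normal complement. -/
theorem exists_normal_complement_of_hall_local_fusion (H : Subgroup G)
    (hH : Group.IsNilpotent H) (hHall : Nat.Coprime (Nat.card H) H.index)
    (hfus : ∀ p : ℕ, p.Prime → p ∣ Nat.card H → ∀ x ∈ H, ∀ y ∈ H, (∃ k : ℕ, x ^ p ^ k = 1) →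
      (∃ g : G, g * x * g⁻¹ = y) → ∃ h ∈ H, h * x * h⁻¹ = y) :
    ∃ N : Subgroup G, N.Normal ∧ N.IsComplement' H := by
  classical
  have hex : ∀ q : (Nat.card H).primeFactors, ∃ N : Subgroup G, N.Normal ∧
      N.index = (q : ℕ) ^ (Nat.card H).factorization q ∧ (Nat.card N).Coprime q := by
    intro q
    have : Fact (q : ℕ).Prime := ⟨Nat.prime_of_mem_primeFactors q.2⟩
    exact exists_normal_pComplement_of_hall_fusion H hH hHall q
      (Nat.dvd_of_mem_primeFactors q.2)
      (hfus q (Nat.prime_of_mem_primeFactors q.2) (Nat.dvd_of_mem_primeFactors q.2))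
  choose Nq hNn hNi hNc using hex
  let N : Subgroup G := ⨅ q, Nq q
  have hNnormal : N.Normal := Subgroup.normal_iInf_normal hNn
  have hdisj : Disjoint N H := by
    rw [Subgroup.disjoint_def]
    intro h hhN hhH
    by_contra hne
    have ho : orderOf h ≠ 1 := by rwa [Ne, orderOf_eq_one_iff]
    obtain ⟨q, hq, hqd⟩ := Nat.exists_prime_and_dvd ho
    have hqH : q ∣ Nat.card H := hqd.trans (by
      have := orderOf_dvd_natCard (⟨h, hhH⟩ : H)
      rwa [Subgroup.orderOf_mk] at this)
    have hqmem : q ∈ (Nat.card H).primeFactors :=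
      Nat.mem_primeFactors.mpr ⟨hq, hqH, Nat.card_pos.ne'⟩
    have hhNq : h ∈ Nq ⟨q, hqmem⟩ := (Subgroup.mem_iInf.mp hhN) ⟨q, hqmem⟩
    have h1 : q ∣ Nat.card (Nq ⟨q, hqmem⟩) := hqd.trans (by
      have := orderOf_dvd_natCard (⟨h, hhNq⟩ : Nq ⟨q, hqmem⟩)
      rwa [Subgroup.orderOf_mk] at this)
    have hc := hNc ⟨q, hqmem⟩
    exact hq.one_lt.ne' (Nat.eq_one_of_dvd_coprimes hc h1 (dvd_refl q))
  have hidx : N.index ≤ Nat.card H := by
    calc N.index ≤ ∏ q, (Nq q).index := Subgroup.index_iInf_le _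
      _ = ∏ q : (Nat.card H).primeFactors, (q : ℕ) ^ (Nat.card H).factorization q :=
          Finset.prod_congr rfl (fun q _ => hNi q)
      _ = Nat.card H := (Nat.prod_primeFactors_coe_pow_factorization Nat.card_pos.ne').symm
  have hcard : Nat.card N * Nat.card H = Nat.card G := by
    apply le_antisymm
    · have hinj := Subgroup.mul_injective_of_disjoint hdisj
      have := Nat.card_le_card_of_injective _ hinj
      rwa [Nat.card_prod] at this
    · rw [← N.card_mul_index]; exact Nat.mul_le_mul_left _ hidx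
  exact ⟨N, hNnormal, Subgroup.isComplement'_of_card_mul_and_disjoint hcard hdisj⟩

/-- A nilpotent Hall subgroup controlling its own fusion has a normal complement. -/
theorem exists_normal_complement_of_hall_fusion (H : Subgroup G) (hH : Group.IsNilpotent H)
    (hHall : Nat.Coprime (Nat.card H) H.index)
    (hfus : ∀ x ∈ H, ∀ y ∈ H, (∃ g : G, g * x * g⁻¹ = y) → ∃ h ∈ H, h * x * h⁻¹ = y) :
    ∃ N : Subgroup G, N.Normal ∧ N.IsComplement' H :=
  exists_normal_complement_of_hall_local_fusion H hH hHall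
    (fun _ _ _ x hx y hy _ hg => hfus x hx y hy hg)

end hall

end Cfsg.Agent.Lib.Helper35
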