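import Cfsg.Agent.Lib.Helper20.G2cDefs

/-! # G2c mini-hive (S2180, helper20): leaf G2C-SUP `C0_le` -/

set_option autoImplicit false

namespace Cfsg.Agent.Lib.Helper20.G2c

open Cfsg Cfsg.Lie Cfsg.Agent.Lib.Helper36

variable (F : Type*) [Field F]

/-- a root subgroup `X_r` lies in `G ⊓ C(x_9(1))` as soon as `x_r(t)` commutes with `x_9(1)` for all `t` -/
theorem sup_root_le (r : ℕ)
    (h : ∀ t : F, xg F r t * xg F 9 1 = xg F 9 1 * xg F r t) :
    chevG2.rootSubgroup F r ≤ chevG2.group F ⊓ Subgroup.centralizer {xg F 9 1} := by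
  unfold ChevalleyDatum.rootSubgroup
  rw [Subgroup.closure_le]
  rintro x ⟨t, hx⟩
  have hx' : x = xg F r t := Units.ext hx
  rw [SetLike.mem_coe, Subgroup.mem_inf, hx']
  refine ⟨xGL_mem_group chevG2 hG2 F r t, ?_⟩
  rw [Subgroup.mem_centralizer_iff]
  intro y hy
  rw [Set.mem_singleton_iff] at hy
  subst hy
  exact (h t).symm

theorem sup_vanish (s : ℕ) (hs : commVanish chevG2 0 9 s = true) (t : F) :
    xg F s t * xg F 9 1 = xg F 9 1 * xg F s t := by
  have hp : ∀ c : ℤ, c % 0 = 0 → (c : F) = 0 := by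
    intro c hc
    have h0 : c = 0 := by simpa using hc
    rw [h0]
    simp
  exact comm_of_vanish chevG2 hG2 F 0 hp 9 s (by decide) hs 1 t

/-- G2C-SUP -/
theorem C0_le : C0 F ≤ chevG2.group F ⊓ Subgroup.centralizer {xg F 9 1} := by
  unfold C0
  refine sup_le (sup_le (sup_le (sup_le ?_ ?_) ?_) ?_) ?_
  · apply sup_root_le
    intro t
    show xGL chevG2 hG2 F 9 t * xGL chevG2 hG2 F 9 1 = xGL chevG2 hG2 F 9 1 * xGL chevG2 hG2 F 9 t
    rw [← xGL_add, ← xGL_add, add_comm]
  · exact sup_root_le F 10 (sup_vanish F 10 (by decide))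
  · exact sup_root_le F 11 (sup_vanish F 11 (by decide))
  · exact sup_root_le F 6 (sup_vanish F 6 (by decide))
  · exact sup_root_le F 5 (sup_vanish F 5 (by decide))

end Cfsg.Agent.Lib.Helper20.G2c
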