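import Cfsg.Agent.Lib.Helper20.F4cDefs

/-! # F4c hive (S2179, helper20): leaf F4C-SUP `C0_le` (helper35) -/

set_option autoImplicit false

namespace Cfsg.Agent.Lib.Helper20.F4c

open Cfsg Cfsg.Lie Cfsg.Agent.Lib.Helper36

variable (F : Type*) [Field F]

/-- `x_s(t)` commutes with `x_r(1)` if `s = r` or the commutator constants vanish mod 2 -/
theorem f4csup_comm1 [CharP F 2] (r s : ℕ) (hr : r < chevF4.nroots) (h : s = r ∨ commVanish chevF4 2 r s = true) (t : F) :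
    xf F s t * xf F r 1 = xf F r 1 * xf F s t := by
  rcases h with rfl | h
  · show xGL chevF4 hF4 F s t * xGL chevF4 hF4 F s 1 = xGL chevF4 hF4 F s 1 * xGL chevF4 hF4 F s t
    rw [← xGL_add, ← xGL_add, add_comm]
  · exact comm_of_vanish chevF4 hF4 F 2 (hp2 F) r s hr h 1 t

/-- the table: every generator root commutes with `39` and `45` -/
theorem f4csup_tab : ∀ r < 48, (chevF4.IsPosRoot r ∧ r ∉ [27, 25, 34, 26]) ∨ r = 33 ∨ r = 14 ∨ r = 24 ∨ r = 23 →
    (r = 39 ∨ commVanish chevF4 2 39 r = true) ∧ (r = 45 ∨ commVanish chevF4 2 45 r = true) := by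
  decide +kernel

theorem f4csup_mem [CharP F 2] (r : ℕ) (hr : r < 48)
    (h : (chevF4.IsPosRoot r ∧ r ∉ [27, 25, 34, 26]) ∨ r = 33 ∨ r = 14 ∨ r = 24 ∨ r = 23) (t : F) :
    xf F r t ∈ chevF4.group F ⊓ Subgroup.centralizer {T F 1 0 0 1 0 0} := by
  rw [Subgroup.mem_inf]
  refine ⟨xGL_mem_group chevF4 hF4 F r t, ?_⟩
  rw [Subgroup.mem_centralizer_iff]
  intro y hy
  rw [Set.mem_singleton_iff] at hy
  subst hy
  rw [T_v]
  obtain ⟨h1, h2⟩ := f4csup_tab r hr h
  have e1 := f4csup_comm1 F 39 r (by decide) h1 t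
  have e2 := f4csup_comm1 F 45 r (by decide) h2 t
  rw [mul_assoc, ← e2, ← mul_assoc, ← e1, mul_assoc]

theorem f4csup_root_le [CharP F 2] (r : ℕ) (hr : r < 48) (h : r = 33 ∨ r = 14 ∨ r = 24 ∨ r = 23) :
    chevF4.rootSubgroup F r ≤ chevF4.group F ⊓ Subgroup.centralizer {T F 1 0 0 1 0 0} := by
  unfold ChevalleyDatum.rootSubgroup
  rw [Subgroup.closure_le]
  rintro x ⟨t, hx⟩
  have hx' : x = xf F r t := Units.ext (by rw [hx]; exact (xGL_coe chevF4 hF4 F r t).symm)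
  rw [SetLike.mem_coe, hx']
  exact f4csup_mem F r hr (Or.inr h) t

/-- F4C-SUP -/
theorem C0_le [CharP F 2] : C0 F ≤ chevF4.group F ⊓ Subgroup.centralizer {T F 1 0 0 1 0 0} := by
  unfold C0
  refine sup_le (sup_le (sup_le (sup_le ?_ ?_) ?_) ?_) ?_
  · exact f4csup_root_le F 33 (by decide) (by decide)
  · exact f4csup_root_le F 14 (by decide) (by decide)
  · exact f4csup_root_le F 24 (by decide) (by decide)
  · exact f4csup_root_le F 23 (by decide) (by decide)
  · rw [Subgroup.closure_le]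
    rintro x ⟨r, c, hpos, hr, hx⟩
    have hx' : x = xf F r c := Units.ext (by rw [hx]; exact (xGL_coe chevF4 hF4 F r c).symm)
    rw [SetLike.mem_coe, hx']
    exact f4csup_mem F r hpos.1 (Or.inl ⟨hpos, hr⟩) c

end Cfsg.Agent.Lib.Helper20.F4c
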