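import Cfsg.Agent.Lib.Helper48.U3XeDefs
import Cfsg.Agent.Lib.Helper99.UPair1

/-! # U3 hive (S2283, helper23), XE sub-hive (helper48): sub-leaf XE-GEN `xe_gen` -/

set_option autoImplicit false

namespace Cfsg.Agent.Lib.Helper23.U3

open Matrix Cfsg.Agent.Lib.Helper99 Cfsg.Agent.Lib.Helper13 Cfsg.Agent.Lib.Helper90.Psu

variable {F : Type*} [Field F] [Fintype F] {q : ℕ}

local notation "hh" => Cfsg.hermForm 3 F q

/-- XE-GEN (E/M).  If `M = F` then `e ∈ Tset H`. -/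
theorem xe_gen (hF : Fintype.card F = q ^ 2) (C : Cfg q F)
    (hcomm : ∀ r₁ r₂ : F, r₁ ∈ xeM C → r₂ ∈ xeM C → utv q C.e (r₁ * r₂ ^ q - r₂ * r₁ ^ q) ∈ C.H)
    (hall : ∀ r : F, r ∈ xeM C) : C.e ∈ Tset q C.H := by
  refine ⟨C.hee, ?_⟩
  intro z hz
  obtain ⟨z', hz'⟩ := exists_tz_sq_mul hF z hz
  have ht2 : (tz hF * tz hF) ^ q = tz hF * tz hF := by
    rw [mul_pow, tz_pow hF]; ring
  have h := hcomm (tz hF * tz hF * z') 1 (hall _) (hall _)
  have e : tz hF * tz hF * z' * 1 ^ q - 1 * (tz hF * tz hF * z') ^ q = z := by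
    rw [one_pow, mul_one, one_mul, mul_pow, ht2, ← hz']; ring
  rwa [e] at h

end Cfsg.Agent.Lib.Helper23.U3
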