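import Mathlib
import Cfsg.Agent.Lib.Helper35.PStabGen
import Cfsg.Agent.Lib.Helper35.GenInternal
import Cfsg.Agent.S0199

set_option autoImplicit false

/-! `p`-stability (`p` odd) for groups all of whose `2`-subgroups are abelian; no solvability
hypothesis. -/

namespace Cfsg.Agent.Lib.Helper35.PStab

open Cfsg Cfsg.Agent.Lib.Helper35 Cfsg.Agent.Lib.Helper35.GenQuad Cfsg.Agent.Lib.Helper22

universe u w

/-- the irreducible case -/
theorem ps_minimal_general {p : ℕ} [Fact p.Prime] (hp2 : p ≠ 2)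
    {X : Type u} [Group X] [Finite X] (hA2 : NoSL 3 X)
    {V : Type w} [CommGroup V] [Finite V] [Nontrivial V] (hVe : ∀ v : V, v ^ p = 1)
    (κ : X →* MulAut V)
    (hirr : ∀ U : Subgroup V, (∀ g : X, ∀ v ∈ U, κ g v ∈ U) → U = ⊥ ∨ U = ⊤)
    (a : X) (hq : ∀ v : V, κ a (κ a v * v⁻¹) = κ a v * v⁻¹) : κ a = 1 := by
  classical
  by_contra hne
  -- the faithful quotient
  set H := X ⧸ κ.ker with hH
  let κb : H →* MulAut V := QuotientGroup.kerLift κ
  have hκb : Function.Injective κb := QuotientGroup.kerLift_injective κ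
  have hκmk : ∀ g : X, κb (QuotientGroup.mk g) = κ g := fun g => QuotientGroup.kerLift_mk κ g
  have hHno : NoSL 3 H := hA2.quotient κ.ker
  have hVp : IsPGroup p V := fun v => ⟨1, by rw [pow_one]; exact hVe v⟩
  have hpV : p ∣ Nat.card V := by
    obtain ⟨n, hn⟩ := IsPGroup.iff_card.mp hVp
    rw [hn]
    apply dvd_pow_self
    rintro rfl
    rw [pow_zero] at hn
    have := Finite.one_lt_card (α := V)
    omega
  -- `O_p(H) = 1`
  have hOp : pCore p H = ⊥ := by
    set M := pCore p H with hM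
    have hMn : M.Normal := pCore_normal' p H
    have hMp : IsPGroup p M := pCore_isPGroup' p H
    let U : Subgroup V :=
      { carrier := {v | ∀ m ∈ M, κb m v = v}
        one_mem' := fun m _ => map_one _
        mul_mem' := fun {x y} hx hy m hm => by rw [map_mul, hx m hm, hy m hm]
        inv_mem' := fun {x} hx m hm => by rw [map_inv, hx m hm] }
    have hUinv : ∀ g : X, ∀ v ∈ U, κ g v ∈ U := by
      intro g v hv m hm
      have h1 : (QuotientGroup.mk g : H)⁻¹ * m * (QuotientGroup.mk g : H) ∈ M := by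
        have := hMn.conj_mem m hm (QuotientGroup.mk g : H)⁻¹
        rwa [inv_inv] at this
      have h2 := hv _ h1
      rw [← hκmk g]
      have h3 : κb m (κb (QuotientGroup.mk g) v) =
          κb (QuotientGroup.mk g) (κb ((QuotientGroup.mk g : H)⁻¹ * m * (QuotientGroup.mk g : H)) v) := by
        rw [← MulAut.mul_apply, ← MulAut.mul_apply, ← map_mul, ← map_mul]
        congr 2
        group
      rw [h3, h2]
    have hUne : U ≠ ⊥ := by
      letI : MulAction M V := MulAction.compHom V (κb.comp M.subtype)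
      have hfix : (1 : V) ∈ MulAction.fixedPoints M V := by
        intro m
        show κb (m : H) 1 = 1
        exact map_one _
      obtain ⟨b, hb, hb1⟩ := hMp.exists_fixed_point_of_prime_dvd_card_of_fixed_point V hpV hfix
      intro hbot
      have hbU : b ∈ U := by
        intro m hm
        exact hb ⟨m, hm⟩
      rw [hbot, Subgroup.mem_bot] at hbU
      exact hb1 hbU.symm
    rcases hirr U hUinv with h | h
    · exact absurd h hUne
    · rw [eq_bot_iff]
      intro m hm
      have : κb m = 1 := by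
        ext v
        have hv : v ∈ U := by rw [h]; exact Subgroup.mem_top v
        exact hv m hm
      rw [Subgroup.mem_bot]
      exact hκb (by rw [this, map_one])
  -- the element `ā`
  set ab : H := QuotientGroup.mk a with hab
  have hab1 : ab ≠ 1 := by
    intro h
    apply hne
    rw [← hκmk a, ← hab, h, map_one]
  have hqb : ∀ v : V, κb ab (κb ab v * v⁻¹) = κb ab v * v⁻¹ := by
    intro v
    rw [hκmk]
    exact hq v
  have habp : ab ^ p = 1 := by
    apply hκb
    rw [map_pow, map_one, hκmk]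
    ext v
    rw [quad_pow (κ a) hq p v, hVe, one_mul]
    rfl
  -- Baer–Suzuki
  have hX₀ : IsPGroup p ↥(Subgroup.zpowers ab) := by
    rintro ⟨x, hx⟩
    obtain ⟨k, rfl⟩ := Subgroup.mem_zpowers_iff.mp hx
    refine ⟨1, ?_⟩
    apply Subtype.ext
    simp only [Subgroup.coe_pow, Subgroup.coe_one, pow_one]
    rw [← zpow_natCast, ← zpow_mul, mul_comm, zpow_mul, zpow_natCast, habp, one_zpow]
  have hBS : ∃ g : H, ¬ IsPGroup p
      ↥(Subgroup.zpowers ab ⊔ (Subgroup.zpowers ab).map (MulAut.conj g).toMonoidHom) := by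
    by_contra hcon
    push Not at hcon
    obtain ⟨N, hNn, hNp, hXN⟩ := Cfsg.Agent.S0199.result (Subgroup.zpowers ab) hX₀ hcon
    have h1 : N ≤ pCore p H := le_pCore' hNn hNp
    rw [hOp] at h1
    exact hab1 (Subgroup.mem_bot.mp (h1 (hXN (Subgroup.mem_zpowers ab))))
  obtain ⟨g, hg⟩ := hBS
  obtain ⟨bb, hbb⟩ : ∃ bb : H, bb = g * ab * g⁻¹ := ⟨_, rfl⟩
  obtain ⟨D, hD⟩ : ∃ D : Subgroup H, D = Subgroup.zpowers ab ⊔
      (Subgroup.zpowers ab).map (MulAut.conj g).toMonoidHom := ⟨_, rfl⟩
  rw [← hD] at hg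
  have hDcl : D = Subgroup.closure {ab, bb} := by
    rw [hD, MonoidHom.map_zpowers, Subgroup.zpowers_eq_closure, Subgroup.zpowers_eq_closure,
      ← Subgroup.closure_union, hbb]
    rfl
  have haD : ab ∈ D := by rw [hDcl]; exact Subgroup.subset_closure (by simp)
  have hbD : bb ∈ D := by rw [hDcl]; exact Subgroup.subset_closure (by simp)
  have hqbb : ∀ v : V, κb bb (κb bb v * v⁻¹) = κb bb v * v⁻¹ := by
    intro v
    have e : ∀ x : V, κb bb x = κb g (κb ab ((κb g)⁻¹ x)) := by
      intro x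
      rw [hbb, map_mul, map_mul, map_inv]
      rfl
    have h1 := hqb ((κb g)⁻¹ v)
    have h2 : κb bb v * v⁻¹ = κb g (κb ab ((κb g)⁻¹ v) * ((κb g)⁻¹ v)⁻¹) := by
      rw [e, map_mul, map_inv]
      simp
    rw [h2, e]
    simp only [MulAut.inv_apply_self]
    rw [h1]
  have : Fact (Nat.Prime 2) := ⟨Nat.prime_two⟩
  obtain ⟨T⟩ : Nonempty (Sylow 2 ↥D) := inferInstance
  rcases gen_abstract hp2 hVe (κb.comp D.subtype) ⟨ab, haD⟩ ⟨bb, hbD⟩
    (closure_pair_eq_top D ab bb hDcl haD hbD) hqb hqbb T with ⟨j, hj⟩ | ⟨x, hx, y, hy, hxy⟩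
  · apply hg
    intro d
    refine ⟨j, ?_⟩
    apply Subtype.ext
    apply hκb
    have := hj d
    rw [← map_pow] at this
    rw [Subgroup.coe_one, map_one]
    exact this
  · apply hxy
    apply Subtype.ext
    have h2 : IsPGroup 2 ↥((T : Subgroup ↥D).map D.subtype) := T.2.map _
    exact hHno rfl _ h2 (x : H) ⟨x, hx, rfl⟩ (y : H) ⟨y, hy, rfl⟩

/-- groups all of whose `2`-subgroups are abelian form a class to which the inductive proof of
`p`-stability applies -/
theorem stabClass_A2 {p : ℕ} [Fact p.Prime] (hp2 : p ≠ 2) :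
    StabClass.{u} p (fun X _ => NoSL 3 X) where
  quot := fun _ _ _ N _ h => h.quotient N
  min := fun _ _ _ h _ _ _ _ hVe κ hirr a hq => ps_minimal_general hp2 h hVe κ hirr a hq

end Cfsg.Agent.Lib.Helper35.PStab
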