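import Mathlib

set_option autoImplicit false

namespace Cfsg.Agent.Lib.Helper35

open Nat

lemma fact_ineq_two (m : ℕ) : ∀ k : ℕ, 2 ≤ k → 2 * m ! * 3 ^ k * (k + 1)! < (m + 3 * k)! := by
  intro k hk
  induction k, hk using Nat.le_induction with
  | base =>
    have h1 : m ! * (6)! ≤ (m + 6)! :=
      Nat.le_of_dvd (Nat.factorial_pos _) (Nat.factorial_mul_factorial_dvd_factorial_add m 6)
    have h2 : (6)! = 720 := by decide
    have h3 : (2 + 1)! = 6 := by decide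
    rw [h2] at h1
    rw [h3]
    have hpos : 0 < m ! := Nat.factorial_pos m
    show 2 * m ! * 3 ^ 2 * 6 < (m + 6)!
    nlinarith
  | succ k hk ih =>
    have e1 : m + 3 * (k + 1) = (m + 3 * k) + 3 := by ring
    have eR : ((m + 3 * k) + 3)! = (m + 3 * k + 3) * ((m + 3 * k + 2) * ((m + 3 * k + 1) * (m + 3 * k)!)) := by
      rw [Nat.factorial_succ (m + 3 * k + 2), Nat.factorial_succ (m + 3 * k + 1),
        Nat.factorial_succ (m + 3 * k)]
    have e2 : (k + 1 + 1)! = (k + 2) * (k + 1)! := Nat.factorial_succ (k + 1)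
    rw [e1, eR, e2, pow_succ]
    have hA : 0 < 2 * m ! * 3 ^ k * (k + 1)! := by positivity
    set A := 2 * m ! * 3 ^ k * (k + 1)! with hAdef
    set B := (m + 3 * k)! with hB
    have h4 : 3 * (k + 2) ≤ (m + 3 * k + 3) * ((m + 3 * k + 2) * (m + 3 * k + 1)) := by
      have ha : 3 ≤ m + 3 * k + 3 := by omega
      have hb : k + 2 ≤ m + 3 * k + 2 := by omega
      have hc : 1 ≤ m + 3 * k + 1 := by omega
      calc 3 * (k + 2) = 3 * ((k + 2) * 1) := by ring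
        _ ≤ (m + 3 * k + 3) * ((m + 3 * k + 2) * (m + 3 * k + 1)) :=
          Nat.mul_le_mul ha (Nat.mul_le_mul hb hc)
    calc 2 * m ! * (3 ^ k * 3) * ((k + 2) * (k + 1)!) = A * (3 * (k + 2)) := by rw [hAdef]; ring
      _ < B * (3 * (k + 2)) := Nat.mul_lt_mul_of_pos_right ih (by positivity)
      _ ≤ B * ((m + 3 * k + 3) * ((m + 3 * k + 2) * (m + 3 * k + 1))) :=
          Nat.mul_le_mul_left _ h4
      _ = (m + 3 * k + 3) * ((m + 3 * k + 2) * ((m + 3 * k + 1) * B)) := by ring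

lemma fact_ineq_one (m : ℕ) (hm : 1 ≤ m) : 2 * m ! * 3 ^ 1 * (1 + 1)! < (m + 3 * 1)! := by
  have e1 : m + 3 * 1 = m + 3 := by ring
  have eR : (m + 3)! = (m + 3) * ((m + 2) * ((m + 1) * m !)) := by
    rw [Nat.factorial_succ (m + 2), Nat.factorial_succ (m + 1), Nat.factorial_succ m]
  have h3 : (1 + 1)! = 2 := by decide
  rw [e1, eR, h3]
  have hpos : 0 < m ! := Nat.factorial_pos m
  have h12 : 12 < (m + 3) * ((m + 2) * (m + 1)) := by
    have ha : 4 ≤ m + 3 := by omega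
    have hb : 3 ≤ m + 2 := by omega
    have hc : 2 ≤ m + 1 := by omega
    calc 12 < 4 * (3 * 2) := by norm_num
      _ ≤ (m + 3) * ((m + 2) * (m + 1)) := Nat.mul_le_mul ha (Nat.mul_le_mul hb hc)
  calc 2 * m ! * 3 ^ 1 * 2 = m ! * 12 := by ring
    _ < m ! * ((m + 3) * ((m + 2) * (m + 1))) := Nat.mul_lt_mul_of_pos_left h12 hpos
    _ = (m + 3) * ((m + 2) * ((m + 1) * m !)) := by ring

lemma fact_ineq (m k : ℕ) (hk : 1 ≤ k) (h4 : 4 ≤ m + 3 * k) :
    2 * m ! * 3 ^ k * (k + 1)! < (m + 3 * k)! := by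
  rcases Nat.lt_or_ge k 2 with h | h
  · have hk1 : k = 1 := by omega
    subst hk1
    exact fact_ineq_one m (by omega)
  · exact fact_ineq_two m k h

/-- The arithmetic heart of "automorphisms of `A_n` preserve 3-cycles". -/
lemma arith_key (n k c e e' : ℕ) (hn : 7 ≤ n) (hk : 3 * (k + 1) ≤ n)
    (he : e = 1 ∨ e = 2) (he' : e' = 1 ∨ e' = 2)
    (h1 : (n - 3)! * 3 = c * e)
    (h2 : (n - 3 * (k + 1))! * 3 ^ (k + 1) * (k + 1)! = c * e') : k = 0 := by
  by_contra hk0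
  have hk1 : 1 ≤ k := Nat.one_le_iff_ne_zero.mpr hk0
  obtain ⟨m, hm⟩ : ∃ m, n = m + 3 * (k + 1) := ⟨n - 3 * (k + 1), by omega⟩
  have e1 : n - 3 = m + 3 * k := by omega
  have e2 : n - 3 * (k + 1) = m := by omega
  rw [e1] at h1
  rw [e2] at h2
  have hin := fact_ineq m k hk1 (by omega)
  -- (m+3k)! * 3 * e' = c e e' = m! 3^(k+1) (k+1)! e
  have h3 : (m + 3 * k)! * 3 * e' = m ! * 3 ^ (k + 1) * (k + 1)! * e := by
    rw [h1, h2]; ring
  have he1 : 1 ≤ e' := by rcases he' with h | h <;> omega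
  have he2 : e ≤ 2 := by rcases he with h | h <;> omega
  have h5 : m ! * 3 ^ (k + 1) * (k + 1)! * e ≤ m ! * 3 ^ (k + 1) * (k + 1)! * 2 :=
    Nat.mul_le_mul_left _ he2
  have h6 : (m + 3 * k)! * 3 * 1 ≤ (m + 3 * k)! * 3 * e' := Nat.mul_le_mul_left _ he1
  have h7 : m ! * 3 ^ (k + 1) * (k + 1)! * 2 = 3 * (2 * m ! * 3 ^ k * (k + 1)!) := by
    rw [pow_succ]; ring
  have h8 : 3 * (2 * m ! * 3 ^ k * (k + 1)!) < 3 * (m + 3 * k)! :=
    Nat.mul_lt_mul_of_pos_left hin (by norm_num)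
  omega

end Cfsg.Agent.Lib.Helper35
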