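import Cfsg.Agent.Lib.Helper35.AltAutJordan

set_option autoImplicit false

namespace Cfsg.Agent.Lib.Helper35

open Equiv Equiv.Perm Subgroup MulAction
open scoped Pointwise

variable {α : Type*} [Fintype α] [DecidableEq α]

/-- A subgroup of `A_n` generated by 3-cycles which acts transitively is everything. -/
lemma closure_eq_top_of_transitive (T : Set (alternatingGroup α))
    (hT : ∀ t ∈ T, (t : Perm α).IsThreeCycle) (hne : T.Nonempty)
    (htr : ∀ a b : α, ∃ k ∈ closure T, (k : Perm α) a = b) : closure T = ⊤ := by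
  set S : Set (Perm α) := (alternatingGroup α).subtype '' T with hS
  have hmap : (closure T).map (alternatingGroup α).subtype = closure S := by
    rw [MonoidHom.map_closure]
  have hS3 : ∀ c ∈ S, c.IsThreeCycle := by
    rintro c ⟨t, ht, rfl⟩
    exact hT t ht
  have hSne : S.Nonempty := hne.image _
  have hpre : IsPretransitive (closure S) α := by
    constructor
    intro a b
    obtain ⟨k, hk, hkab⟩ := htr a b
    have hk' : (k : Perm α) ∈ closure S := by
      rw [← hmap]; exact Subgroup.mem_map_of_mem _ hk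
    exact ⟨⟨(k : Perm α), hk'⟩, hkab⟩
  have hle := alternatingGroup_le_of_closure_threeCycles S hS3 hSne hpre
  rw [eq_top_iff]
  intro x _
  have hx : (x : Perm α) ∈ closure S := hle x.2
  rw [← hmap] at hx
  obtain ⟨k, hk, hkx⟩ := hx
  have : k = x := Subtype.ext hkx
  rw [← this]; exact hk

/-- A maximal subgroup of `A_n` generated by 3-cycles fixes a point. -/
theorem exists_fixed_point_of_coatom (T : Set (alternatingGroup α))
    (hT : ∀ t ∈ T, (t : Perm α).IsThreeCycle) (hne : T.Nonempty)
    (hK : IsCoatom (closure T)) : ∃ j : α, closure T ≤ stabilizer (alternatingGroup α) j := by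
  classical
  -- not transitive
  have hntr : ∃ a b : α, ∀ k ∈ closure T, (k : Perm α) a ≠ b := by
    by_contra hcon
    push Not at hcon
    exact hK.1 (closure_eq_top_of_transitive T hT hne hcon)
  obtain ⟨a, b, hab⟩ := hntr
  set S : Set α := {x | ∃ k ∈ closure T, (k : Perm α) a = x} with hS
  have haS : a ∈ S := ⟨1, Subgroup.one_mem _, rfl⟩
  have hbS : b ∉ S := fun ⟨k, hk, hkb⟩ => hab k hk hkb
  have hinv : ∀ k ∈ closure T, ∀ x ∈ S, (k : Perm α) x ∈ S := by
    rintro k hk x ⟨k', hk', rfl⟩
    exact ⟨k * k', Subgroup.mul_mem _ hk hk', rfl⟩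
  have hinvc : ∀ k ∈ closure T, ∀ x ∉ S, (k : Perm α) x ∉ S := by
    intro k hk x hx hkx
    apply hx
    have := hinv k⁻¹ (Subgroup.inv_mem _ hk) _ hkx
    simpa using this
  by_cases h1 : S.Subsingleton
  · refine ⟨a, fun k hk => ?_⟩
    rw [mem_stabilizer_iff]
    exact h1 (hinv k hk a haS) haS
  by_cases h2 : (Sᶜ : Set α).Subsingleton
  · refine ⟨b, fun k hk => ?_⟩
    rw [mem_stabilizer_iff]
    exact h2 (hinvc k hk b hbS) hbS
  exfalso
  rw [Set.not_subsingleton_iff] at h1 h2
  set Y := stabilizer (alternatingGroup α) S with hY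
  have hKY : closure T ≤ Y := by
    intro k hk
    rw [hY, mem_stabilizer_set' S.toFinite]
    intro x hx
    exact hinv k hk x hx
  have hYtop : Y ≠ ⊤ := alternatingGroup.stabilizer_ne_top ⟨a, haS⟩ h2
  have hKeq : closure T = Y := by
    by_contra hne'
    exact hYtop (hK.2 Y (lt_of_le_of_ne hKY hne'))
  -- the sign of the restriction to S
  let ε : Y →* ℤˣ := Perm.sign.comp (MulAction.toPermHom Y S)
  have hε3 : ∀ y : Y, ((y : alternatingGroup α) : Perm α).IsThreeCycle → ε y = 1 := by
    intro y hy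
    have h3 : y ^ 3 = 1 := by
      ext1; ext1
      have := hy.orderOf
      rw [Subgroup.coe_pow, Subgroup.coe_pow, ← this, pow_orderOf_eq_one]; rfl
    have h4 : ε y ^ 3 = 1 := by rw [← map_pow, h3, map_one]
    rcases Int.units_eq_one_or (ε y) with h | h
    · exact h
    · rw [h] at h4; exact absurd h4 (by decide)
  have hall : ∀ y : Y, ε y = 1 := by
    have hle : closure T ≤ (ε.ker).map Y.subtype := by
      rw [Subgroup.closure_le]
      intro t ht
      have htY : t ∈ Y := hKY (Subgroup.subset_closure ht)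
      exact ⟨⟨t, htY⟩, hε3 ⟨t, htY⟩ (hT t ht), rfl⟩
    intro y
    have : (y : alternatingGroup α) ∈ closure T := by rw [hKeq]; exact y.2
    obtain ⟨y', hy', hyy⟩ := hle this
    have : y' = y := Subtype.ext hyy
    rw [← this]; exact hy'
  obtain ⟨s₁, hs₁, s₂, hs₂, hs12⟩ := h1
  obtain ⟨y₀, hy₀⟩ := alternatingGroup.stabilizer.surjective_toPerm h2
    (Equiv.swap (⟨s₁, hs₁⟩ : S) ⟨s₂, hs₂⟩)
  have h5 : ε y₀ = -1 := by
    show Perm.sign (MulAction.toPermHom Y S y₀) = -1
    have : MulAction.toPermHom Y S y₀ = Equiv.swap (⟨s₁, hs₁⟩ : S) ⟨s₂, hs₂⟩ := hy₀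
    rw [this, Perm.sign_swap]
    intro h
    exact hs12 (congrArg Subtype.val h)
  rw [hall y₀] at h5
  exact absurd h5 (by decide)

end Cfsg.Agent.Lib.Helper35
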