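import Mathlib

set_option autoImplicit false

namespace Cfsg.Agent.Lib.Helper35

open Equiv Equiv.Perm Subgroup MulAction
open scoped Pointwise

variable {α : Type*} [Fintype α] [DecidableEq α]

/-- A 3-cycle cannot move a block of size at least two off itself. -/
lemma threeCycle_block_aux {c : Perm α} (hc : c.IsThreeCycle) {B : Set α}
    (hBnt : B.Nontrivial) (hmove : ∀ a ∈ B, c a ∉ B) : False := by
  obtain ⟨a, ha, b, hb, hab⟩ := hBnt
  have h1 : c a ≠ a := fun h => hmove a ha (by rw [h]; exact ha)
  have h2 : c b ≠ b := fun h => hmove b hb (by rw [h]; exact hb)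
  have ha' : a ∈ c.support := Perm.mem_support.mpr h1
  have hb' : b ∈ c.support := Perm.mem_support.mpr h2
  have hca' : c a ∈ c.support := Perm.apply_mem_support.mpr ha'
  have hcb' : c b ∈ c.support := Perm.apply_mem_support.mpr hb'
  have hcab : c a ≠ c b := fun h => hab (c.injective h)
  have hcaB : c a ∉ B := hmove a ha
  have hcbB : c b ∉ B := hmove b hb
  have n1 : a ≠ c a := fun h => hcaB (h ▸ ha)
  have n2 : a ≠ c b := fun h => hcbB (h ▸ ha)
  have n3 : b ≠ c a := fun h => hcaB (h ▸ hb)
  have n4 : b ≠ c b := fun h => hcbB (h ▸ hb)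
  have hsub : ({a, b, c a, c b} : Finset α) ⊆ c.support := by
    intro x hx
    simp only [Finset.mem_insert, Finset.mem_singleton] at hx
    rcases hx with rfl | rfl | rfl | rfl <;> assumption
  have h4 : ({a, b, c a, c b} : Finset α).card = 4 := by
    rw [Finset.card_insert_of_notMem, Finset.card_insert_of_notMem, Finset.card_pair hcab]
    · simp [n3, n4]
    · simp [hab, n1, n2]
  have := Finset.card_le_card hsub
  rw [h4, hc.card_support] at this
  omega

/-- A transitive permutation group generated by 3-cycles contains the alternating group. -/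
theorem alternatingGroup_le_of_closure_threeCycles (S : Set (Perm α))
    (hS : ∀ c ∈ S, c.IsThreeCycle) (hne : S.Nonempty)
    (htr : IsPretransitive (closure S) α) : alternatingGroup α ≤ closure S := by
  obtain ⟨c₀, hc₀⟩ := hne
  have hprim : IsPreprimitive (closure S) α := by
    refine { toIsPretransitive := htr, isTrivialBlock_of_isBlock := ?_ }
    intro B hB
    by_contra hnt
    rw [IsTrivialBlock, not_or] at hnt
    obtain ⟨hns, hnu⟩ := hnt
    rw [Set.not_subsingleton_iff] at hns
    -- some generator moves B
    have hex : ∃ c ∈ S, (c : Perm α) • B ≠ B := by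
      by_contra hall
      push Not at hall
      have hle : closure S ≤ stabilizer (Perm α) B := by
        rw [Subgroup.closure_le]
        intro c hc
        exact mem_stabilizer_iff.mpr (hall c hc)
      apply hnu
      rw [Set.eq_univ_iff_forall]
      intro x
      obtain ⟨b, hb⟩ := hns.nonempty
      obtain ⟨k, hk⟩ := htr.exists_smul_eq b x
      have hkB : (k : Perm α) • B = B := mem_stabilizer_iff.mp (hle k.2)
      rw [← hkB, ← hk]
      exact Set.smul_mem_smul_set hb
    obtain ⟨c, hcS, hcB⟩ := hex
    have hcK : c ∈ closure S := Subgroup.subset_closure hcS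
    apply threeCycle_block_aux (hS c hcS) hns
    intro a ha hca
    apply hcB
    have := hB.smul_eq_of_mem (g := (⟨c, hcK⟩ : closure S)) ha hca
    exact this
  exact alternatingGroup_le_of_isPreprimitive_of_isThreeCycle_mem hprim (hS c₀ hc₀)
    (Subgroup.subset_closure hc₀)

end Cfsg.Agent.Lib.Helper35
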