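import Cfsg.Agent.Lib.Helper35.AltAutArith

set_option autoImplicit false

namespace Cfsg.Agent.Lib.Helper35

open Equiv Equiv.Perm Subgroup

variable {α : Type*} [Fintype α] [DecidableEq α]

/-- The centralizer in `A_n` versus the centralizer in `S_n`. -/
lemma card_centralizer_alt_mul (g : alternatingGroup α) :
    ∃ e : ℕ, (e = 1 ∨ e = 2) ∧
      Nat.card (centralizer {(g : Perm α)}) = Nat.card (centralizer {g}) * e := by
  classical
  set C : Subgroup (Perm α) := centralizer {(g : Perm α)} with hC
  set A : Subgroup (Perm α) := alternatingGroup α with hA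
  refine ⟨A.relIndex C, ?_, ?_⟩
  · have h1 : A.relIndex C ∣ A.index := Subgroup.relIndex_dvd_index_of_normal A C
    by_cases hnt : Nontrivial α
    · rw [hA, alternatingGroup.index_eq_two] at h1
      have := (Nat.dvd_prime Nat.prime_two).mp h1
      exact this
    · rw [not_nontrivial_iff_subsingleton] at hnt
      rw [hA, alternatingGroup.index_eq_one] at h1
      left; exact Nat.dvd_one.mp h1
  · have h1 : Nat.card (A.subgroupOf C) * (A.subgroupOf C).index = Nat.card C :=
      Subgroup.card_mul_index _
    rw [← h1, Subgroup.relIndex]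
    congr 1
    apply Nat.card_congr
    refine
      { toFun := fun x => ⟨⟨(x.1 : Perm α), Subgroup.mem_subgroupOf.mp x.2⟩, ?_⟩
        invFun := fun y => ⟨⟨(y.1 : Perm α), ?_⟩, ?_⟩
        left_inv := fun x => rfl
        right_inv := fun y => rfl }
    · rw [Subgroup.mem_centralizer_singleton_iff]
      have := Subgroup.mem_centralizer_singleton_iff.mp x.1.2
      exact Subtype.ext this
    · have := Subgroup.mem_centralizer_singleton_iff.mp y.2
      rw [hC, Subgroup.mem_centralizer_singleton_iff]
      exact congrArg Subtype.val this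
    · exact Subgroup.mem_subgroupOf.mpr y.1.2

lemma card_centralizer_map (ψ : MulAut (alternatingGroup α)) (g : alternatingGroup α) :
    Nat.card (centralizer {ψ g}) = Nat.card (centralizer {g}) := by
  apply Nat.card_congr
  refine
    { toFun := fun x => ⟨ψ.symm x, ?_⟩
      invFun := fun y => ⟨ψ y, ?_⟩
      left_inv := fun x => by simp
      right_inv := fun y => by simp }
  · rw [Subgroup.mem_centralizer_singleton_iff]
    have := Subgroup.mem_centralizer_singleton_iff.mp x.2
    apply ψ.injective
    simpa using this
  · rw [Subgroup.mem_centralizer_singleton_iff]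
    have := Subgroup.mem_centralizer_singleton_iff.mp y.2
    rw [← map_mul, ← map_mul, this]

open Nat in
lemma card_centralizer_replicate (g : Perm α) (k : ℕ)
    (hg : g.cycleType = Multiset.replicate (k + 1) 3) :
    Nat.card (centralizer {g}) = (Fintype.card α - 3 * (k + 1))! * 3 ^ (k + 1) * (k + 1)! := by
  have h1 : (Multiset.replicate (k + 1) 3).toFinset = {3} := by
    rw [Multiset.toFinset_replicate]; simp
  rw [nat_card_centralizer, hg, h1, Multiset.sum_replicate, Multiset.prod_replicate,
    Finset.prod_singleton, Multiset.count_replicate_self, smul_eq_mul, mul_comm (k + 1) 3]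

theorem isThreeCycle_map (hα : 4 ≤ Fintype.card α) (h6 : Fintype.card α ≠ 6)
    (ψ : MulAut (alternatingGroup α)) (g : alternatingGroup α)
    (hg : (g : Perm α).IsThreeCycle) : ((ψ g : alternatingGroup α) : Perm α).IsThreeCycle := by
  have ho : orderOf ((ψ g : alternatingGroup α) : Perm α) = 3 := by
    rw [Subgroup.orderOf_coe, MulEquiv.orderOf_eq, ← Subgroup.orderOf_coe]
    exact hg.orderOf
  obtain ⟨k, hk⟩ := cycleType_prime_order (σ := ((ψ g : alternatingGroup α) : Perm α))
    (by rw [ho]; exact Nat.prime_three)
  rw [ho] at hk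
  have hsum : 3 * (k + 1) ≤ Fintype.card α := by
    have := sum_cycleType_le ((ψ g : alternatingGroup α) : Perm α)
    rw [hk, Multiset.sum_replicate, smul_eq_mul] at this
    omega
  suffices hk0 : k = 0 by
    rw [hk0] at hk
    rw [IsThreeCycle, hk]; rfl
  by_cases h7 : 7 ≤ Fintype.card α
  · obtain ⟨e, he, h1⟩ := card_centralizer_alt_mul g
    obtain ⟨e', he', h2⟩ := card_centralizer_alt_mul (ψ g)
    rw [card_centralizer_map] at h2
    have hg' : (g : Perm α).cycleType = Multiset.replicate (0 + 1) 3 := by
      have : (g : Perm α).cycleType = {3} := hg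
      rw [this]; rfl
    rw [card_centralizer_replicate _ 0 hg'] at h1
    rw [card_centralizer_replicate _ k hk] at h2
    simp only [zero_add, mul_one, pow_one, Nat.factorial_one] at h1
    exact arith_key (Fintype.card α) k _ e e' h7 hsum he he' h1 h2
  · omega

end Cfsg.Agent.Lib.Helper35
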