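import Cfsg.Agent.Lib.Helper35.AltAutFix
import Cfsg.Agent.Lib.Helper35.AltAutThreeCycle

set_option autoImplicit false

namespace Cfsg.Agent.Lib.Helper35

open Equiv Equiv.Perm Subgroup MulAction
open scoped Pointwise

variable {α : Type*} [Fintype α] [DecidableEq α]

lemma exists_two_ne (hα : 4 ≤ Fintype.card α) (x y : α) :
    ∃ c d : α, c ≠ x ∧ c ≠ y ∧ d ≠ x ∧ d ≠ y ∧ c ≠ d := by
  classical
  have h1 : 1 < (Finset.univ \ {x, y} : Finset α).card := by
    have h2 : ({x, y} : Finset α).card ≤ 2 := Finset.card_le_two
    have h3 := Finset.card_sdiff_add_card_eq_card (Finset.subset_univ ({x, y} : Finset α))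
    rw [Finset.card_univ] at h3
    omega
  obtain ⟨c, hc, d, hd, hcd⟩ := Finset.one_lt_card.mp h1
  simp only [Finset.mem_sdiff, Finset.mem_univ, Finset.mem_insert, Finset.mem_singleton,
    true_and, not_or] at hc hd
  exact ⟨c, d, hc.1, hc.2, hd.1, hd.2, hcd⟩

/-- The even permutation `(b c d)` as an element of the alternating group. -/
def threeCyc (b c d : α) (hbc : b ≠ c) (hcd : c ≠ d) : alternatingGroup α :=
  ⟨swap b c * swap c d, by
    rw [mem_alternatingGroup, Perm.sign_mul, sign_swap hbc, sign_swap hcd]; decide⟩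

lemma threeCyc_apply_self (b c d : α) (hbc : b ≠ c) (hcd : c ≠ d) (hbd : b ≠ d) :
    ((threeCyc b c d hbc hcd : alternatingGroup α) : Perm α) b = c := by
  simp only [threeCyc, Perm.coe_mul, Function.comp_apply]
  rw [swap_apply_of_ne_of_ne hbc hbd, swap_apply_left]

lemma threeCyc_apply_of_ne (a b c d : α) (hbc : b ≠ c) (hcd : c ≠ d)
    (hab : a ≠ b) (hac : a ≠ c) (had : a ≠ d) :
    ((threeCyc b c d hbc hcd : alternatingGroup α) : Perm α) a = a := by
  simp only [threeCyc, Perm.coe_mul, Function.comp_apply]
  rw [swap_apply_of_ne_of_ne hac had, swap_apply_of_ne_of_ne hab hac]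

/-- Distinct points have distinct stabilizers in `A_n`, `n ≥ 4`. -/
lemma stabilizer_injective (hα : 4 ≤ Fintype.card α) :
    Function.Injective (fun i : α => stabilizer (alternatingGroup α) i) := by
  intro i i' h
  by_contra hne
  obtain ⟨c, d, hci, hci', hdi, hdi', hcd⟩ := exists_two_ne hα i i'
  set g := threeCyc i' c d (Ne.symm hci') hcd with hg
  have hgi : g ∈ stabilizer (alternatingGroup α) i := by
    rw [mem_stabilizer_iff]
    exact threeCyc_apply_of_ne i i' c d _ _ hne (Ne.symm hci) (Ne.symm hdi)
  have hgi' : g ∈ stabilizer (alternatingGroup α) i' := by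
    have : stabilizer (alternatingGroup α) i = stabilizer (alternatingGroup α) i' := h
    rw [← this]; exact hgi
  rw [mem_stabilizer_iff] at hgi'
  have : ((g : alternatingGroup α) : Perm α) i' = c :=
    threeCyc_apply_self i' c d _ _ (Ne.symm hdi')
  have h2 : ((g : alternatingGroup α) : Perm α) i' = i' := hgi'
  rw [this] at h2
  exact hci' h2

lemma conjNormal_injective (hα : 4 ≤ Fintype.card α) :
    Function.Injective (MulAut.conjNormal : Perm α →* MulAut (alternatingGroup α)) := by
  rw [injective_iff_map_eq_one]
  intro σ hσ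
  by_contra hne
  obtain ⟨a, ha⟩ : ∃ a, σ a ≠ a := by
    by_contra hall
    push Not at hall
    exact hne (Perm.ext hall)
  obtain ⟨c, d, hca, hcb, hda, hdb, hcd⟩ := exists_two_ne hα a (σ a)
  set g := threeCyc (σ a) c d (Ne.symm hcb) hcd with hg
  have h1 : (MulAut.conjNormal σ g : alternatingGroup α) = g := by rw [hσ]; rfl
  have h2 : σ * (g : Perm α) * σ⁻¹ = (g : Perm α) := by
    rw [← MulAut.conjNormal_apply, h1]
  have h3 : σ * (g : Perm α) = (g : Perm α) * σ := by
    calc σ * (g : Perm α) = σ * (g : Perm α) * σ⁻¹ * σ := by group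
      _ = (g : Perm α) * σ := by rw [h2]
  have h4 := congrArg (fun p : Perm α => p a) h3
  simp only [Perm.coe_mul, Function.comp_apply] at h4
  rw [threeCyc_apply_of_ne a (σ a) c d _ _ (Ne.symm ha) (Ne.symm hca) (Ne.symm hda),
    threeCyc_apply_self (σ a) c d _ _ (Ne.symm hdb)] at h4
  exact hcb h4.symm

lemma stabilizer_eq_range (i : α) :
    stabilizer (alternatingGroup α) i = (alternatingGroup.ofSubtype (Finset.univ.erase i)).range := by
  ext k
  rw [alternatingGroup.mem_range_ofSubtype_iff, mem_stabilizer_iff]
  constructor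
  · intro h x hx
    rw [Finset.mem_erase]
    refine ⟨?_, Finset.mem_univ _⟩
    rintro rfl
    exact (Perm.mem_support.mp hx) h
  · intro h
    by_contra hk
    have : i ∈ (k : Perm α).support := Perm.mem_support.mpr hk
    exact (Finset.mem_erase.mp (h this)).1 rfl

lemma stabilizer_eq_closure (i : α) :
    stabilizer (alternatingGroup α) i =
      closure {t : alternatingGroup α | (t : Perm α).IsThreeCycle ∧
        t ∈ stabilizer (alternatingGroup α) i} := by
  apply le_antisymm
  · have h1 : stabilizer (alternatingGroup α) i =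
        closure ((alternatingGroup.ofSubtype (Finset.univ.erase i)) ''
          {g : alternatingGroup (Finset.univ.erase i : Finset α) |
            (g : Perm (Finset.univ.erase i : Finset α)).IsThreeCycle}) := by
      rw [stabilizer_eq_range, MonoidHom.range_eq_map,
        ← alternatingGroup.closure_isThreeCycles_eq_top, MonoidHom.map_closure]
    conv_lhs => rw [h1]
    refine Subgroup.closure_mono ?_
    rintro _ ⟨t, ht, rfl⟩
    refine ⟨?_, ?_⟩
    · rw [alternatingGroup.coe_ofSubtype, IsThreeCycle, cycleType_ofSubtype]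
      exact ht
    · rw [stabilizer_eq_range]
      exact ⟨t, rfl⟩
  · rw [Subgroup.closure_le]
    intro t ht
    exact ht.2

theorem conjNormal_surjective (hα : 4 ≤ Fintype.card α) (h6 : Fintype.card α ≠ 6) :
    Function.Surjective (MulAut.conjNormal : Perm α →* MulAut (alternatingGroup α)) := by
  classical
  intro ψ
  have hcard3 : 3 ≤ Nat.card α := by rw [Nat.card_eq_fintype_card]; omega
  have : Nontrivial α := by
    rw [← Fintype.one_lt_card_iff_nontrivial]; omega
  have hprim : IsPreprimitive (alternatingGroup α) α :=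
    alternatingGroup.isPreprimitive_of_three_le_card α hcard3
  have hcoatom : ∀ i : α, IsCoatom (stabilizer (alternatingGroup α) i) :=
    fun i => IsPreprimitive.isCoatom_stabilizer_of_isPreprimitive (alternatingGroup α) i
  -- the image of each point stabilizer is a point stabilizer
  have hkey : ∀ i : α, ∃ j : α, (stabilizer (alternatingGroup α) i).map ψ.toMonoidHom =
      stabilizer (alternatingGroup α) j := by
    intro i
    set T := {t : alternatingGroup α | (t : Perm α).IsThreeCycle ∧
        t ∈ stabilizer (alternatingGroup α) i} with hT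
    have hmap : (stabilizer (alternatingGroup α) i).map ψ.toMonoidHom =
        closure (ψ.toMonoidHom '' T) := by
      conv_lhs => rw [stabilizer_eq_closure i]
      rw [MonoidHom.map_closure]
    have hco : IsCoatom (closure (ψ.toMonoidHom '' T)) := by
      rw [← hmap]
      exact (OrderIso.isCoatom_iff (ψ.mapSubgroup) _).mpr (hcoatom i)
    have h3 : ∀ t ∈ ψ.toMonoidHom '' T, (t : Perm α).IsThreeCycle := by
      rintro _ ⟨t, ht, rfl⟩
      exact isThreeCycle_map hα h6 ψ t ht.1
    by_cases hne : (ψ.toMonoidHom '' T).Nonempty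
    · obtain ⟨j, hj⟩ := exists_fixed_point_of_coatom _ h3 hne hco
      refine ⟨j, ?_⟩
      rw [hmap]
      by_contra hne'
      exact (hcoatom j).1 (hco.2 _ (lt_of_le_of_ne hj hne'))
    · rw [Set.not_nonempty_iff_eq_empty] at hne
      rw [hne, Subgroup.closure_empty] at hco
      -- then the whole group has a trivial maximal subgroup, and any stabilizer is trivial
      refine ⟨i, ?_⟩
      rw [hmap, hne, Subgroup.closure_empty]
      symm
      by_contra hne'
      have hlt : (⊥ : Subgroup (alternatingGroup α)) < stabilizer (alternatingGroup α) i :=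
        bot_lt_iff_ne_bot.mpr hne'
      exact (hcoatom i).1 (hco.2 _ hlt)
  choose σ₀ hσ₀ using hkey
  have hinj : Function.Injective σ₀ := by
    intro i i' h
    have h1 : (stabilizer (alternatingGroup α) i).map ψ.toMonoidHom =
        (stabilizer (alternatingGroup α) i').map ψ.toMonoidHom := by
      rw [hσ₀ i, hσ₀ i', h]
    have h2 := Subgroup.map_injective ψ.injective h1
    exact stabilizer_injective hα h2
  have hbij : Function.Bijective σ₀ := Finite.injective_iff_bijective.mp hinj
  set σ : Perm α := Equiv.ofBijective σ₀ hbij with hσ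
  -- equivariance
  have hequiv : ∀ (g : alternatingGroup α) (i : α),
      ((ψ g : alternatingGroup α) : Perm α) (σ i) = σ ((g : Perm α) i) := by
    intro g i
    have h1 : stabilizer (alternatingGroup α) (g • i) =
        (stabilizer (alternatingGroup α) i).map (MulAut.conj g).toMonoidHom :=
      stabilizer_smul_eq_stabilizer_map_conj g i
    have h2 : stabilizer (alternatingGroup α) ((ψ g) • (σ₀ i)) =
        (stabilizer (alternatingGroup α) (σ₀ i)).map (MulAut.conj (ψ g)).toMonoidHom :=
      stabilizer_smul_eq_stabilizer_map_conj (ψ g) (σ₀ i)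
    have h3 : stabilizer (alternatingGroup α) (σ₀ (g • i)) =
        stabilizer (alternatingGroup α) ((ψ g) • (σ₀ i)) := by
      rw [← hσ₀ (g • i), h1, h2, ← hσ₀ i, Subgroup.map_map, Subgroup.map_map]
      congr 1
      ext x
      simp
    have h4 := stabilizer_injective hα h3
    exact h4.symm
  refine ⟨σ, ?_⟩
  ext g x
  rw [MulAut.conjNormal_apply]
  obtain ⟨i, rfl⟩ := σ.surjective x
  have h7 : σ⁻¹ (σ i) = i := σ.symm_apply_apply i
  simp only [Perm.coe_mul, Function.comp_apply, h7]
  exact (hequiv g i).symm

theorem conjNormal_bijective (hα : 4 ≤ Fintype.card α) (h6 : Fintype.card α ≠ 6) :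
    Function.Bijective (MulAut.conjNormal : Perm α →* MulAut (alternatingGroup α)) :=
  ⟨conjNormal_injective hα, conjNormal_surjective hα h6⟩

end Cfsg.Agent.Lib.Helper35
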