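import Mathlib

/-! # Sylow normalisation of automorphisms: the abstract part (helper35, for S2156-T1) -/

set_option autoImplicit false

namespace Cfsg.Agent.Lib.Helper35.Au

section
variable {G : Type*} [Group G] [Finite G]

/-- a subgroup of the order of a Sylow subgroup is a conjugate of it -/
theorem exists_conj_of_card_eq_sylow {p : ℕ} [Fact p.Prime] (P : Sylow p G) (Q : Subgroup G)
    (hcard : Nat.card Q = Nat.card P) : ∃ x : G, ∀ g : G, g ∈ Q ↔ x⁻¹ * g * x ∈ (P : Subgroup G) := by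
  have hQ : IsPGroup p Q := by
    obtain ⟨n, hn⟩ := IsPGroup.iff_card.mp P.isPGroup'
    exact IsPGroup.of_card (hcard.trans hn)
  obtain ⟨R, hR⟩ := hQ.exists_le_sylow
  have hQR : Q = R := by
    apply Subgroup.eq_of_le_of_card_ge hR
    rw [hcard, Sylow.card_eq_multiplicity, Sylow.card_eq_multiplicity]
  obtain ⟨x, hx⟩ := MulAction.exists_smul_eq G P R
  refine ⟨x, fun g => ?_⟩
  rw [hQR, ← hx, Sylow.coe_subgroup_smul, Subgroup.mem_pointwise_smul_iff_inv_smul_mem]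
  simp [MulAut.smul_def]

/-- the abstract normalisation: `U` a Sylow subgroup, `V` a conjugate of it meeting it trivially, and every conjugate
of `U` meeting `U` trivially is a conjugate of `V` under `U`. -/
theorem normalize_abstract {p : ℕ} [Fact p.Prime] (U V : Subgroup G) (P : Sylow p G) (hP : (P : Subgroup G) = U)
    (n₀ : G) (hn₀ : ∀ g : G, g ∈ V ↔ n₀⁻¹ * g * n₀ ∈ U)
    (hUV : ∀ y : G, y ∈ U → y ∈ V → y = 1)
    (hK : ∀ g : G, (∀ y ∈ U, g * y * g⁻¹ ∈ U → y = 1) →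
      ∃ u₁ ∈ U, ∀ z : G, g⁻¹ * z * g ∈ U ↔ u₁⁻¹ * z * u₁ ∈ V)
    (θ : G ≃* G) :
    ∃ (x : G) (θ₀ : G ≃* G), (∀ y, θ y = x * θ₀ y * x⁻¹) ∧ (∀ g, θ₀ g ∈ U ↔ g ∈ U) ∧ (∀ g, θ₀ g ∈ V ↔ g ∈ V) := by
  -- cardinalities
  have hcV : Nat.card V = Nat.card U := by
    have e : V = U.map (MulAut.conj n₀).toMonoidHom := by
      ext g
      rw [Subgroup.mem_map_equiv, MulAut.conj_symm_apply]
      exact hn₀ g
    rw [e]
    exact Subgroup.card_map_of_injective (MulAut.conj n₀).injective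
  have hcP : Nat.card (P : Subgroup G) = Nat.card U := by rw [hP]
  -- step 1
  have hc1 : Nat.card (U.map θ.toMonoidHom) = Nat.card (P : Subgroup G) := by
    rw [hcP]
    exact Subgroup.card_map_of_injective θ.injective
  obtain ⟨x₁, hx₁⟩ := exists_conj_of_card_eq_sylow P _ hc1
  set θ' : G ≃* G := θ.trans (MulAut.conj x₁).symm with hθ'
  have hθ'a : ∀ y, θ' y = x₁⁻¹ * θ y * x₁ := fun y => by
    rw [hθ', MulEquiv.trans_apply, MulAut.conj_symm_apply]
  have hU' : ∀ y, θ' y ∈ U ↔ y ∈ U := by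
    intro y
    have := hx₁ (θ y)
    rw [Subgroup.mem_map_equiv, MulEquiv.symm_apply_apply, hP] at this
    rw [hθ'a]
    exact this.symm
  -- step 2
  have hc2 : Nat.card (V.map θ'.toMonoidHom) = Nat.card (P : Subgroup G) := by
    rw [hcP, ← hcV]
    exact Subgroup.card_map_of_injective θ'.injective
  obtain ⟨g, hg⟩ := exists_conj_of_card_eq_sylow P _ hc2
  have hg' : ∀ z, θ'.symm z ∈ V ↔ g⁻¹ * z * g ∈ U := by
    intro z
    have := hg z
    rw [Subgroup.mem_map_equiv, hP] at this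
    exact this
  -- step 3
  have h3 : ∀ y ∈ U, g * y * g⁻¹ ∈ U → y = 1 := by
    intro y hy hz
    have hzV : θ'.symm (g * y * g⁻¹) ∈ V := by
      rw [hg']
      have : g⁻¹ * (g * y * g⁻¹) * g = y := by group
      rw [this]; exact hy
    have hzU : θ'.symm (g * y * g⁻¹) ∈ U := by
      rw [← hU', MulEquiv.apply_symm_apply]; exact hz
    have h1 := hUV _ hzU hzV
    have h2 : g * y * g⁻¹ = 1 := by
      have := congrArg θ' h1
      rwa [MulEquiv.apply_symm_apply, map_one] at this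
    have : y = g⁻¹ * (g * y * g⁻¹) * g := by group
    rw [this, h2]; group
  obtain ⟨u₁, hu₁, hu⟩ := hK g h3
  set θ₀ : G ≃* G := θ'.trans (MulAut.conj u₁).symm with hθ₀
  have hθ₀a : ∀ y, θ₀ y = u₁⁻¹ * θ' y * u₁ := fun y => by
    rw [hθ₀, MulEquiv.trans_apply, MulAut.conj_symm_apply]
  refine ⟨x₁ * u₁, θ₀, ?_, ?_, ?_⟩
  · intro y
    rw [hθ₀a, hθ'a]; group
  · intro y
    rw [hθ₀a, ← hU' y]
    constructor
    · intro h
      have : θ' y = u₁ * (u₁⁻¹ * θ' y * u₁) * u₁⁻¹ := by group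
      rw [this]
      exact mul_mem (mul_mem hu₁ h) (inv_mem hu₁)
    · intro h
      exact mul_mem (mul_mem (inv_mem hu₁) h) hu₁
  · intro y
    rw [hθ₀a, ← hu, ← hg', MulEquiv.symm_apply_apply]

end

end Cfsg.Agent.Lib.Helper35.Au
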