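import Cfsg.Agent.Lib.Helper18.AutDefs
import Cfsg.Agent.Lib.Helper18.ChevBruhat
import Cfsg.Agent.Lib.Helper18.ChevNWord
import Cfsg.Agent.Lib.Helper36.ChevW0d
import Cfsg.Agent.S1042
import Cfsg.Agent.S2326
import Cfsg.Agent.Lib.Helper35.AutT1Abs

/-! # Sylow normalisation of automorphisms of Chevalley groups (helper35, S2156-T1) -/

set_option autoImplicit false

namespace Cfsg.Agent.Lib.Helper35.Au

open Cfsg Cfsg.Lie Cfsg.Agent.Lib.Helper36 Cfsg.Agent.Lib.Helper18 Cfsg.Agent.Lib.Helper18.Au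

section
variable (D : ChevalleyDatum) (hD : D ∈ [chevG2, chevB2, chevD4, chevF4, chevE6, chevE7, chevE8])
variable (F : Type*) [Field F]

include hD in
/-- a conjugate `g U g⁻¹` meeting `U` trivially is `u₁ V u₁⁻¹` for some `u₁ ∈ U` -/
theorem conj_pos_eq_conj_neg [Finite F] (g : GL D.Idx F) (hg : g ∈ D.group F)
    (htriv : ∀ y ∈ D.posUnipotent F, g * y * g⁻¹ ∈ D.posUnipotent F → y = 1) :
    ∃ u₁ ∈ D.posUnipotent F, ∀ z : GL D.Idx F,
      g⁻¹ * z * g ∈ D.posUnipotent F ↔ u₁⁻¹ * z * u₁ ∈ D.negUnipotent F := by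
  classical
  obtain ⟨P, hB, hN, -⟩ := Cfsg.Agent.S1042.result (F := F) D hD
  obtain ⟨b, hb, n, hn, u, hu, e⟩ := bruhat_exists D hD F P hB hN g hg
  have huU : u ∈ D.posUnipotent F := uMinus_le_pos D F n hu
  obtain ⟨u₁, hu₁, h, hh, ebh⟩ := (mem_borel_iff D hD F b).1 hb
  have hn'N : h * n ∈ D.monomialSubgroup F := mul_mem (diagonal_le_monomial D F hh) hn
  have eg : g = u₁ * (h * n) * u := by rw [e, ← ebh]; group
  obtain ⟨l, hl, hact⟩ := exists_word_conj D hD F (h * n) hn'N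
  -- all positive roots become negative
  have hneg : ∀ r, D.IsPosRoot r → D.IsNegRoot (wRoot D l r) := by
    intro r hr
    rcases pos_or_neg D hD _ (wRoot_lt D hD l hl r hr.1) with hp | hp
    · exfalso
      obtain ⟨c, hc0, hc⟩ := hact r hr.1
      have hxU : xGL D hD F r 1 ∈ D.posUnipotent F := by
        unfold ChevalleyDatum.posUnipotent
        exact Subgroup.subset_closure ⟨r, 1, hr, xGL_coe D hD F r 1⟩
      have hy : u⁻¹ * xGL D hD F r 1 * u ∈ D.posUnipotent F := mul_mem (mul_mem (inv_mem huU) hxU) huU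
      have hgy : g * (u⁻¹ * xGL D hD F r 1 * u) * g⁻¹ ∈ D.posUnipotent F := by
        have e1 : g * (u⁻¹ * xGL D hD F r 1 * u) * g⁻¹ =
            u₁ * ((h * n) * xGL D hD F r 1 * (h * n)⁻¹) * u₁⁻¹ := by rw [eg]; group
        rw [e1, hc 1]
        refine mul_mem (mul_mem hu₁ ?_) (inv_mem hu₁)
        unfold ChevalleyDatum.posUnipotent
        exact Subgroup.subset_closure ⟨_, _, hp, xGL_coe D hD F _ _⟩
      have h1 := htriv _ hy hgy
      have h2 : xGL D hD F r 1 = 1 := by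
        have e2 : xGL D hD F r 1 = u * (u⁻¹ * xGL D hD F r 1 * u) * u⁻¹ := by group
        rw [e2, h1]; group
      have h3 : D.x F r (1 : F) = 1 := by
        rw [← xGL_coe D hD F, h2]; rfl
      exact one_ne_zero (x_eq_one_iff D hD F r hr.1 1 h3)
    · exact hp
  -- n' U n'⁻¹ ≤ V
  have hle : (D.posUnipotent F).map (MulAut.conj (h * n)).toMonoidHom ≤ D.negUnipotent F := by
    unfold ChevalleyDatum.posUnipotent
    rw [MonoidHom.map_closure, Subgroup.closure_le]
    rintro _ ⟨z, ⟨s, t, hs, hz⟩, rfl⟩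
    have hz' : z = xGL D hD F s t := Units.ext (by rw [hz, xGL_coe])
    obtain ⟨c, -, hc⟩ := hact s hs.1
    show (h * n) * z * (h * n)⁻¹ ∈ D.negUnipotent F
    rw [hz', hc t]
    unfold ChevalleyDatum.negUnipotent
    exact Subgroup.subset_closure ⟨_, _, hneg s hs, xGL_coe D hD F _ _⟩
  -- equality by cardinality
  have heq : (D.posUnipotent F).map (MulAut.conj (h * n)).toMonoidHom = D.negUnipotent F := by
    apply Subgroup.eq_of_le_of_card_ge hle
    rw [Subgroup.card_map_of_injective (MulAut.conj (h * n)).injective, ← posUnipotent_map_conj D hD F,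
      Subgroup.card_map_of_injective (MulAut.conj _).injective]
  refine ⟨u₁, hu₁, fun z => ?_⟩
  rw [← heq, Subgroup.mem_map_equiv, MulAut.conj_symm_apply]
  have e3 : g⁻¹ * z * g = u⁻¹ * ((h * n)⁻¹ * (u₁⁻¹ * z * u₁) * (h * n)) * u := by rw [eg]; group
  rw [e3]
  constructor
  · intro h4
    have h5 := mul_mem (mul_mem huU h4) (inv_mem huU)
    have e4 : u * (u⁻¹ * ((h * n)⁻¹ * (u₁⁻¹ * z * u₁) * (h * n)) * u) * u⁻¹ =
        (h * n)⁻¹ * (u₁⁻¹ * z * u₁) * (h * n) := by group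
    rw [e4] at h5
    exact h5
  · intro h4
    exact mul_mem (mul_mem (inv_mem huU) h4) huU

include hD in
/-- T1: Sylow normalisation. -/
theorem T1_normalize [Finite F] (θ : ↥(D.group F) ≃* ↥(D.group F)) :
    ∃ (x : ↥(D.group F)) (θ₀ : ↥(D.group F) ≃* ↥(D.group F)), (∀ y, θ y = x * θ₀ y * x⁻¹) ∧
      Pres D F θ₀ (D.posUnipotent F) ∧ Pres D F θ₀ (D.negUnipotent F) := by
  classical
  have : Fintype F := Fintype.ofFinite F
  obtain ⟨p, hchar⟩ := CharP.exists F
  have hpp : Fact p.Prime :=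
    ⟨(CharP.char_is_prime_or_zero F p).resolve_right (CharP.char_ne_zero_of_finite F p)⟩
  obtain ⟨P, hP⟩ := Cfsg.Agent.S2326.result (F := F) p D hD
  have hUG := posUnipotent_le_group D hD F
  obtain ⟨h1, -, -⟩ := chkW0_spec D hD
  have hn₀N := nWordGL_mem D hD F (w0word D) h1
  have hn₀G := monomial_le_group D hD F hn₀N
  have hUB : D.posUnipotent F ≤ D.borelSubgroup F := by
    unfold ChevalleyDatum.borelSubgroup; exact le_sup_left
  have key := normalize_abstract ((D.posUnipotent F).subgroupOf (D.group F))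
    ((D.negUnipotent F).subgroupOf (D.group F)) P hP ⟨nWordGL D hD F (w0word D), hn₀G⟩ ?_ ?_ ?_ θ
  · obtain ⟨x, θ₀, e1, e2, e3⟩ := key
    exact ⟨x, θ₀, e1, e2, e3⟩
  · -- V = n₀ U n₀⁻¹
    intro g
    rw [Subgroup.mem_subgroupOf, Subgroup.mem_subgroupOf, ← posUnipotent_map_conj D hD F,
      Subgroup.mem_map_equiv, MulAut.conj_symm_apply]
    rfl
  · -- U ∩ V = 1
    intro y hyU hyV
    rw [Subgroup.mem_subgroupOf] at hyU hyV
    have h3 : (y : GL D.Idx F) ∈ D.borelSubgroup F ⊓ D.negUnipotent F := Subgroup.mem_inf.2 ⟨hUB hyU, hyV⟩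
    rw [borel_inf_neg D hD F, Subgroup.mem_bot] at h3
    exact Subtype.ext h3
  · -- the key step
    intro g hg
    obtain ⟨u₁, hu₁, hu⟩ := conj_pos_eq_conj_neg D hD F (g : GL D.Idx F) g.2 (by
      intro y hy hgy
      have := hg ⟨y, hUG hy⟩ (by rw [Subgroup.mem_subgroupOf]; exact hy)
        (by rw [Subgroup.mem_subgroupOf]; exact hgy)
      exact congrArg Subtype.val this)
    refine ⟨⟨u₁, hUG hu₁⟩, by rw [Subgroup.mem_subgroupOf]; exact hu₁, fun z => ?_⟩
    rw [Subgroup.mem_subgroupOf, Subgroup.mem_subgroupOf]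
    exact hu (z : GL D.Idx F)

end

end Cfsg.Agent.Lib.Helper35.Au
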