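import Cfsg.Agent.S1429
import Cfsg.Agent.Lib.Helper56.FrobApply
import Cfsg.Agent.Lib.Helper56.BG143
import Cfsg.Agent.Lib.Helper24.BG121
import Cfsg.Agent.Lib.Helper76.BGSigU4

set_option autoImplicit false
set_option linter.style.haveILetI false
set_option linter.unusedSectionVars false

/-!
# Bender–Glauberman 14.7(f): `|K|` is prime when `M` is of type `𝒫` but not of type `𝒫₁`

`M` maximal in a minimal simple group of odd order, `K ≠ 1` a Hall `κ(M)`-subgroup, and some prime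
divisor of `|M|` outside `σ(M) ∪ κ(M)`.  Then `K` has prime order.  The proof is the Frobenius
fixed point formula for `A ⋊ K'` acting on `M_σ`, where `A = Ω₁` of a Sylow subgroup of the abelian
Hall subgroup `U` of BG 14.2(a) and `K' = K` resp. `K'` of prime order: `|M_σ| = |K*| ^ |K'|`.

Everything is derived from the conclusion `C1430 M K` of S1430 for the pair `(M, K)` and S1429.
-/

namespace Cfsg.Agent.Lib.Helper35.BG147F

open Subgroup Cfsg
open Cfsg.Agent.Lib.Helper56.BG143 (C1430 Ks_ne_bot)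

universe u

variable {G : Type u} [Group G] [Finite G]

/-- the elements of order dividing `t` of a commutative subgroup -/
def omegaAb (U : Subgroup G) (hU : ∀ a ∈ U, ∀ b ∈ U, a * b = b * a) (t : ℕ) : Subgroup G where
  carrier := {u | u ∈ U ∧ u ^ t = 1}
  one_mem' := ⟨U.one_mem, one_pow t⟩
  mul_mem' := by
    rintro a b ⟨ha, hat⟩ ⟨hb, hbt⟩
    refine ⟨U.mul_mem ha hb, ?_⟩
    rw [(show Commute a b from hU a ha b hb).mul_pow, hat, hbt, one_mul]
  inv_mem' := by
    rintro a ⟨ha, hat⟩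
    exact ⟨U.inv_mem ha, by rw [inv_pow, hat, inv_one]⟩

theorem mem_omegaAb {U : Subgroup G} {hU : ∀ a ∈ U, ∀ b ∈ U, a * b = b * a} {t : ℕ} {u : G} :
    u ∈ omegaAb U hU t ↔ u ∈ U ∧ u ^ t = 1 := Iff.rfl

/-- `|A ⊔ E|` divides `|A| * |E|` when `E` normalizes `A` -/
theorem card_sup_dvd_mul (A E : Subgroup G) (h : E ≤ normalizer (A : Set G)) :
    Nat.card ↥(E ⊔ A) ∣ Nat.card A * Nat.card E := by
  have h1 : A.relIndex (E ⊔ A) = A.relIndex E :=
    Cfsg.Agent.Lib.Helper32.relIndex_sup_right_of_le_normalizer h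
  have h2 : A.relIndex (E ⊔ A) * Nat.card A = Nat.card ↥(E ⊔ A) :=
    Cfsg.Agent.Lib.Helper24.relIndex_mul_card' (le_sup_right : A ≤ E ⊔ A)
  rw [← h2, h1, mul_comm]
  exact Nat.mul_dvd_mul_left _ (Subgroup.relIndex_dvd_card A E)


theorem centralizer_zpowers_eq (x : G) :
    centralizer ((zpowers x : Subgroup G) : Set G) = centralizer ({x} : Set G) := by
  ext g
  simp only [mem_centralizer_iff]
  constructor
  · intro h y hy
    rw [Set.mem_singleton_iff] at hy
    subst hy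
    exact h _ (mem_zpowers y)
  · intro h y hy
    obtain ⟨n, rfl⟩ := mem_zpowers_iff.mp hy
    exact ((show Commute x g from h x rfl).zpow_left n).eq

/-- **BG 14.7(f)**: if `M` is not of type `𝒫₁` then a nontrivial Hall `κ(M)`-subgroup has prime
order. -/
theorem card_prime_of_not_P1 (hG : IsMinSimpleOddOrder G) {M K : Subgroup G} (hM : IsCoatom M)
    (hK : IsPiHallOf (kappa M) K M) (hK1 : K ≠ ⊥) (h30 : C1430 M K)
    (hP1 : ¬ (∀ q : ℕ, q.Prime → q ∣ Nat.card M → q ∉ sigma M → q ∈ kappa M)) :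
    (Nat.card K).Prime := by
  classical
  obtain ⟨h1, ⟨U, hUab, hUH, hKU, hUfpf⟩, -⟩ := h30
  have hP1' := hP1
  push Not at hP1'
  obtain ⟨t, ht, htM, htσ, htκ⟩ := hP1'
  haveI : Fact t.Prime := ⟨ht⟩
  obtain ⟨S⟩ : Nonempty (Sylow t M) := inferInstance
  obtain ⟨-, hCA, hnil⟩ := Cfsg.Agent.S1429.result hG M hM hP1 t htM
    (by rw [Set.mem_union]; push Not; exact ⟨htσ, htκ⟩) S
  have hKs1 : sigmaCore M ⊓ centralizer (K : Set G) ≠ ⊥ := Ks_ne_bot hK hK1 h1
  -- commutativity of `U`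
  have hUc : ∀ a ∈ U, ∀ b ∈ U, a * b = b * a := by
    intro a ha b hb
    have := hUab.is_comm.comm (⟨a, ha⟩ : U) ⟨b, hb⟩
    exact congrArg Subtype.val this
  set A : Subgroup G := omegaAb U hUc t with hA
  have hAM : A ≤ M := fun a ha => hUH.1 ha.1
  -- `K` normalizes `A`
  have hKA : ∀ e ∈ K, ∀ u ∈ A, e * u * e⁻¹ ∈ A := by
    intro e he u hu
    refine ⟨(mem_normalizer_iff.mp (hKU he) u).mp hu.1, ?_⟩
    rw [conj_pow, hu.2, mul_one, mul_inv_cancel]
  -- `K` acts fixed point freely on `A`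
  have hfpf : ∀ e ∈ K, e ≠ 1 → ∀ u ∈ A, e * u = u * e → u = 1 := by
    intro e he he1 u hu heu
    have hmem : u ∈ U ⊓ centralizer ({e} : Set G) := by
      refine Subgroup.mem_inf.mpr ⟨hu.1, ?_⟩
      rw [mem_centralizer_iff]
      intro g hg
      rw [Set.mem_singleton_iff] at hg
      rw [hg]; exact heu
    rw [hUfpf e he he1, mem_bot] at hmem
    exact hmem
  -- `C_{M_σ}(A) = 1`
  have hQ : IsPGroup t ((S : Subgroup M).map M.subtype) := S.2.map _
  have hQM : (S : Subgroup M).map M.subtype ≤ M := by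
    rintro _ ⟨x, -, rfl⟩; exact x.2
  have hidx : ¬ t ∣ U.relIndex M := hUH.2.2 t ht ⟨ht, htκ, htσ⟩
  obtain ⟨m, hmM, hm⟩ :=
    Cfsg.Agent.Lib.Helper76.BGSigU.exists_conj_le_of_not_dvd hUH.1 hidx hQ hQM
  have hCA' : sigmaCore M ⊓ centralizer (A : Set G) = ⊥ := by
    rw [eq_bot_iff]
    intro y hy
    rw [mem_bot]
    have hy1 : m * y * m⁻¹ ∈ sigmaCore M :=
      Cfsg.Agent.Lib.Helper56.BG143.conj_mem_sigmaCore hmM hy.1
    have hle : closure {x : G | x ∈ (S : Subgroup M).map M.subtype ∧ x ^ t = 1} ≤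
        centralizer ({m * y * m⁻¹} : Set G) := by
      rw [closure_le]
      rintro x ⟨hxQ, hxt⟩
      rw [SetLike.mem_coe, mem_centralizer_iff]
      intro h hh
      rw [Set.mem_singleton_iff] at hh
      subst hh
      have hxA : m⁻¹ * x * m ∈ A := by
        refine ⟨hm x hxQ, ?_⟩
        have e1 : m⁻¹ * x * m = m⁻¹ * x * m⁻¹⁻¹ := by rw [inv_inv]
        rw [e1, conj_pow, hxt, mul_one, mul_inv_cancel]
      have hc := (mem_centralizer_iff.mp hy.2) (m⁻¹ * x * m) hxA
      calc m * y * m⁻¹ * x = m * (y * (m⁻¹ * x * m)) * m⁻¹ := by group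
        _ = m * ((m⁻¹ * x * m) * y) * m⁻¹ := by rw [hc]
        _ = x * (m * y * m⁻¹) := by group
    have hy2 : m * y * m⁻¹ ∈ centralizer ((closure {x : G | x ∈ (S : Subgroup M).map M.subtype ∧
        x ^ t = 1} : Subgroup G) : Set G) := by
      rw [mem_centralizer_iff]
      intro g hg
      have := mem_centralizer_iff.mp (hle hg) (m * y * m⁻¹) (Set.mem_singleton _)
      exact this.symm
    have h0 : m * y * m⁻¹ ∈ (⊥ : Subgroup G) := by rw [← hCA]; exact Subgroup.mem_inf.mpr ⟨hy1, hy2⟩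
    rw [mem_bot] at h0
    have e2 : y = m⁻¹ * (m * y * m⁻¹) * m := by group
    rw [e2, h0]; group
  -- `A` is a `t`-group
  have hAt : IsPGroup t A := by
    intro a
    refine ⟨1, Subtype.ext ?_⟩
    have := a.2.2
    simpa using this
  -- the Frobenius formula for `A ⋊ E`, `E ≤ K`
  have key : ∀ E : Subgroup G, E ≤ K → E ≠ ⊥ →
      Nat.card ↥(sigmaCore M) =
        Nat.card ↥(sigmaCore M ⊓ centralizer (E : Set G)) ^ Nat.card E := by
    intro E hEK hE1
    have hHn : ∀ x ∈ A ⊔ E, ∀ h ∈ sigmaCore M, x * h * x⁻¹ ∈ sigmaCore M := by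
      intro x hx h hh
      have hxM : x ∈ M := (sup_le hAM (hEK.trans hK.1)) hx
      exact Cfsg.Agent.Lib.Helper56.BG143.conj_mem_sigmaCore hxM hh
    have hsolv : Group.IsSolvable ↥(sigmaCore M) := by
      haveI := hnil
      infer_instance
    have hEA : E ≤ normalizer (A : Set G) := by
      intro e he
      rw [mem_normalizer_iff]
      intro u
      constructor
      · exact hKA e (hEK he) u
      · intro h
        have := hKA e⁻¹ (K.inv_mem (hEK he)) _ h
        have e3 : e⁻¹ * (e * u * e⁻¹) * e⁻¹⁻¹ = u := by group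
        rwa [e3] at this
    have hcop : Nat.Coprime (Nat.card ↥(sigmaCore M)) (Nat.card ↥(A ⊔ E)) := by
      have hd : Nat.card ↥(A ⊔ E) ∣ Nat.card A * Nat.card E := by
        rw [sup_comm]; exact card_sup_dvd_mul A E hEA
      refine Nat.Coprime.coprime_dvd_right hd (Nat.Coprime.mul_right ?_ ?_)
      · obtain ⟨n, hn⟩ := IsPGroup.iff_card.mp hAt
        rw [hn]
        apply Nat.Coprime.pow_right
        apply Nat.Coprime.symm
        rw [Nat.Prime.coprime_iff_not_dvd ht]
        intro hd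
        exact htσ (Cfsg.Agent.Lib.Helper24.BG.mem_sigma_of_dvd_card_sigmaCore M ht hd)
      · apply Nat.coprime_of_dvd
        intro q hq hq1 hq2
        have hqσ : q ∈ sigma M :=
          Cfsg.Agent.Lib.Helper24.BG.mem_sigma_of_dvd_card_sigmaCore M hq hq1
        have hqκ : q ∈ kappa M := hK.2.1 q hq (hq2.trans (Subgroup.card_dvd_of_le hEK))
        exact hqκ.2.2.1 hqσ
    have hf := Cfsg.Agent.Lib.Helper56.FrobApply.frobenius_formula A E (sigmaCore M) hE1
      (fun e he u hu => hKA e (hEK he) u hu)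
      (fun e he he1 u hu h => hfpf e (hEK he) he1 u hu h) hHn hsolv hcop
    have h2 : sigmaCore M ⊓ centralizer ((A ⊔ E : Subgroup G) : Set G) = ⊥ := by
      rw [eq_bot_iff, ← hCA']
      exact inf_le_inf_left _ (centralizer_le (by exact_mod_cast (le_sup_left : A ≤ A ⊔ E)))
    rw [h2, hCA', Subgroup.card_bot, one_pow, one_mul, mul_one] at hf
    exact hf
  have hcK := key K le_rfl hK1
  -- a subgroup of prime order of `K`
  have hcard : Nat.card K ≠ 1 := fun h => hK1 (Subgroup.card_eq_one.mp h)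
  obtain ⟨p, hp, hpK⟩ := Nat.exists_prime_and_dvd hcard
  haveI : Fact p.Prime := ⟨hp⟩
  obtain ⟨x, hx⟩ := exists_prime_orderOf_dvd_card' p hpK
  have hxo : orderOf (x : G) = p := by rw [Subgroup.orderOf_coe, hx]
  have hx1 : (x : G) ≠ 1 := by
    intro h
    rw [h, orderOf_one] at hxo
    exact hp.one_lt.ne' hxo.symm
  have hXK : zpowers (x : G) ≤ K := zpowers_le.mpr x.2
  have hXcard : Nat.card ↥(zpowers (x : G)) = p := by rw [Nat.card_zpowers, hxo]
  have hX1 : zpowers (x : G) ≠ ⊥ := by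
    intro h
    rw [h, Subgroup.card_bot] at hXcard
    exact hp.one_lt.ne' hXcard.symm
  have hcX := key (zpowers (x : G)) hXK hX1
  rw [centralizer_zpowers_eq, h1 (x : G) x.2 hx1, hXcard] at hcX
  -- compare
  have h2le : 2 ≤ Nat.card ↥(sigmaCore M ⊓ centralizer (K : Set G)) := by
    have h0 : Nat.card ↥(sigmaCore M ⊓ centralizer (K : Set G)) ≠ 0 := Nat.card_pos.ne'
    have h1' : Nat.card ↥(sigmaCore M ⊓ centralizer (K : Set G)) ≠ 1 :=
      fun h => hKs1 (Subgroup.card_eq_one.mp h)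
    omega
  have : Nat.card K = p := Nat.pow_right_injective h2le (hcK.symm.trans hcX)
  rw [this]
  exact hp


/-- **P1-ness**: if `|K|` is not prime then `M = M_σ K` (`M` is of type `𝒫₁`). -/
theorem le_sup_of_not_prime (hG : IsMinSimpleOddOrder G) {M K : Subgroup G} (hM : IsCoatom M)
    (hK : IsPiHallOf (kappa M) K M) (hK1 : K ≠ ⊥) (h30 : C1430 M K)
    (hnp : ¬ (Nat.card K).Prime) : M ≤ sigmaCore M ⊔ K := by
  have hP1 : ∀ q : ℕ, q.Prime → q ∣ Nat.card M → q ∉ sigma M → q ∈ kappa M := by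
    by_contra h
    exact hnp (card_prime_of_not_P1 hG hM hK hK1 h30 h)
  have hσ : IsPiHallOf (sigma M) (sigmaCore M) M := (Cfsg.Agent.S1350.result hG M hM).1
  have h1 : (sigmaCore M ⊔ K).relIndex M = 1 := by
    by_contra hne
    obtain ⟨q, hq, hqd⟩ := Nat.exists_prime_and_dvd hne
    have hqM : q ∣ Nat.card M := hqd.trans (Subgroup.relIndex_dvd_card _ _)
    by_cases hqσ : q ∈ sigma M
    · exact hσ.2.2 q hq hqσ (hqd.trans (Subgroup.relIndex_dvd_of_le_left M le_sup_left))
    · exact hK.2.2 q hq (hP1 q hq hqM hqσ)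
        (hqd.trans (Subgroup.relIndex_dvd_of_le_left M le_sup_right))
  exact Subgroup.relIndex_eq_one.mp h1

/-- the `StmtP1` shape used by the star assemblies, from the statement of S1430 -/
theorem stmtP1_of (hG : IsMinSimpleOddOrder G)
    (h30 : Cfsg.Agent.Lib.Helper56.BG143.Stmt1430 G) :
    ∀ M K : Subgroup G, IsCoatom M → IsPiHallOf (kappa M) K M → K ≠ ⊥ →
      ¬ (Nat.card K).Prime → M ≤ sigmaCore M ⊔ K :=
  fun _ _ hM hK hK1 hnp => le_sup_of_not_prime hG hM hK hK1 (h30 _ hM _ hK hK1) hnp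

end Cfsg.Agent.Lib.Helper35.BG147F
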