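import Mathlib
import Cfsg.Agent.Lib.Helper22.CgDefs

/-! # Cg hive (S4257), leaf CG11 : graph bookkeeping (second hand, helper35). -/

set_option autoImplicit false

namespace Cfsg.Agent.Lib.Helper22.Cg

open Subgroup

universe u

theorem cg11_adj_symm {G : Type u} [Group G] {a b : ℕ} (h : Adj G a b) : Adj G b a := by
  obtain ⟨g, hg⟩ := h
  exact ⟨g, by rwa [mul_comm]⟩

theorem cg11_nb_symm {G : Type u} [Group G] {a b : ℕ} (h : Nb G a b) : Nb G b a := by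
  rcases h with h | h
  · exact Or.inl h.symm
  · exact Or.inr (cg11_adj_symm h)

theorem cg11_vx_right {G : Type u} [Group G] {a b : ℕ} (hb : b.Prime) (h : Adj G a b) :
    b.Prime ∧ ∃ g : G, b ∣ cs g := by
  obtain ⟨g, hg⟩ := h
  exact ⟨hb, g, dvd_trans (dvd_mul_left b a) hg⟩

/-- walks of length two -/
theorem cg11_two {G : Type u} [Group G] (p q r : ℕ) (hr : r.Prime)
    (h1 : Adj G p r) (h2 : Adj G r q) :
    (∃ g : G, p * q ∣ cs g) ∨
    (∃ r : ℕ, (r.Prime ∧ ∃ g : G, r ∣ cs g) ∧ r ≠ p ∧ r ≠ q ∧ (∃ g : G, p * r ∣ cs g) ∧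
      (∃ g : G, r * q ∣ cs g)) := by
  by_cases hrp : r = p
  · subst hrp
    exact Or.inl h2
  by_cases hrq : r = q
  · subst hrq
    exact Or.inl h1
  exact Or.inr ⟨r, cg11_vx_right hr h1, hrp, hrq, h1, h2⟩

/-- walks of length three -/
theorem cg11_three {G : Type u} [Group G] (p q r s : ℕ) (hr : r.Prime) (hs : s.Prime)
    (h1 : Adj G p r) (h2 : Adj G r s) (h3 : Adj G s q) :
    (∃ g : G, p * q ∣ cs g) ∨
    (∃ r : ℕ, (r.Prime ∧ ∃ g : G, r ∣ cs g) ∧ r ≠ p ∧ r ≠ q ∧ (∃ g : G, p * r ∣ cs g) ∧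
      (∃ g : G, r * q ∣ cs g)) ∨
    (∃ r s : ℕ, (r.Prime ∧ ∃ g : G, r ∣ cs g) ∧ (s.Prime ∧ ∃ g : G, s ∣ cs g) ∧ r ≠ p ∧ s ≠ q ∧
      r ≠ s ∧ r ≠ q ∧ s ≠ p ∧ (∃ g : G, p * r ∣ cs g) ∧ (∃ g : G, r * s ∣ cs g) ∧
      (∃ g : G, s * q ∣ cs g)) := by
  by_cases hrp : r = p
  · subst hrp
    rcases cg11_two r q s hs h2 h3 with h | h
    · exact Or.inl h
    · exact Or.inr (Or.inl h)
  by_cases hsq : s = q
  · subst hsq
    rcases cg11_two p s r hr h1 h2 with h | h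
    · exact Or.inl h
    · exact Or.inr (Or.inl h)
  by_cases hrs : r = s
  · subst hrs
    rcases cg11_two p q r hr h1 h3 with h | h
    · exact Or.inl h
    · exact Or.inr (Or.inl h)
  by_cases hrq : r = q
  · subst hrq
    exact Or.inl h1
  by_cases hsp : s = p
  · subst hsp
    exact Or.inl h3
  exact Or.inr (Or.inr ⟨r, s, cg11_vx_right hr h1, cg11_vx_right hs h2, hrp, hsq, hrs, hrq, hsp,
    h1, h2, h3⟩)

/-- CG11. graph bookkeeping: connected + no vertex at distance exactly 4 ⇒ diameter ≤ 3.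
(`hcore` is CG10.) -/
theorem cg11 {G : Type u} [Group G] [Finite G]
    (hcore : ∀ p r s t q : ℕ, p.Prime → r.Prime → s.Prime → t.Prime → q.Prime →
      Adj G p r → Adj G r s → Adj G s t → Adj G t q →
      (∀ u v : ℕ, u.Prime → v.Prime → Nb G p u → Nb G q v → u ≠ v ∧ ¬ Adj G u v) → False)
    (hconn : ∀ S : Set ℕ, (∃ p ∈ S, (p.Prime ∧ ∃ g : G, p ∣ cs g)) →
      (∃ q ∉ S, (q.Prime ∧ ∃ g : G, q ∣ cs g)) →
      ∃ p q : ℕ, (p.Prime ∧ ∃ g : G, p ∣ cs g) ∧ (q.Prime ∧ ∃ g : G, q ∣ cs g) ∧ p ∈ S ∧ q ∉ S ∧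
        (∃ g : G, p * q ∣ cs g))
    (p q : ℕ) (hp : (p.Prime ∧ ∃ g : G, p ∣ cs g)) (hq : (q.Prime ∧ ∃ g : G, q ∣ cs g))
    (hpq : p ≠ q) :
    (∃ g : G, p * q ∣ cs g) ∨
    (∃ r : ℕ, (r.Prime ∧ ∃ g : G, r ∣ cs g) ∧ r ≠ p ∧ r ≠ q ∧ (∃ g : G, p * r ∣ cs g) ∧
      (∃ g : G, r * q ∣ cs g)) ∨
    (∃ r s : ℕ, (r.Prime ∧ ∃ g : G, r ∣ cs g) ∧ (s.Prime ∧ ∃ g : G, s ∣ cs g) ∧ r ≠ p ∧ s ≠ q ∧
      r ≠ s ∧ r ≠ q ∧ s ≠ p ∧ (∃ g : G, p * r ∣ cs g) ∧ (∃ g : G, r * s ∣ cs g) ∧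
      (∃ g : G, s * q ∣ cs g)) := by
  -- the closed ball of radius 3 around `p`
  let R3 : Set ℕ := {v | v.Prime ∧ ∃ u w : ℕ, u.Prime ∧ w.Prime ∧ Nb G p u ∧ Nb G u w ∧ Nb G w v}
  by_cases hqR : q ∈ R3
  · obtain ⟨_, u, w, hu, hw, hpu, huw, hwq⟩ := hqR
    rcases hpu with rfl | hpu
    · -- u = p
      rcases huw with rfl | huw
      · -- w = p
        rcases hwq with h | hwq
        · exact absurd h.symm hpq
        · exact Or.inl hwq
      · rcases hwq with rfl | hwq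
        · exact Or.inl huw
        · rcases cg11_two u q w hw huw hwq with h | h
          · exact Or.inl h
          · exact Or.inr (Or.inl h)
    · rcases huw with rfl | huw
      · -- w = u
        rcases hwq with rfl | hwq
        · exact Or.inl hpu
        · rcases cg11_two p q w hw hpu hwq with h | h
          · exact Or.inl h
          · exact Or.inr (Or.inl h)
      · rcases hwq with rfl | hwq
        · rcases cg11_two p q u hu hpu huw with h | h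
          · exact Or.inl h
          · exact Or.inr (Or.inl h)
        · exact cg11_three p q u w hu hw hpu huw hwq
  · exfalso
    have hpR : p ∈ R3 := ⟨hp.1, p, p, hp.1, hp.1, Or.inl rfl, Or.inl rfl, Or.inl rfl⟩
    obtain ⟨u, v, hu, hv, huR, hvR, huv⟩ := hconn R3 ⟨p, hpR, hp⟩ ⟨q, hqR, hq⟩
    obtain ⟨_, x1, x2, hx1, hx2, h1, h2, h3⟩ := huR
    have huvA : Adj G u v := huv
    -- all three steps are genuine edges
    have e1 : Adj G p x1 := by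
      rcases h1 with rfl | h
      · exact absurd ⟨hv.1, x2, u, hx2, hu.1, h2, h3, Or.inr huvA⟩ hvR
      · exact h
    have e2 : Adj G x1 x2 := by
      rcases h2 with rfl | h
      · exact absurd ⟨hv.1, x2, u, hx2, hu.1, h1, h3, Or.inr huvA⟩ hvR
      · exact h
    have e3 : Adj G x2 u := by
      rcases h3 with rfl | h
      · exact absurd ⟨hv.1, x1, u, hx1, hu.1, h1, h2, Or.inr huvA⟩ hvR
      · exact h
    refine hcore p x1 x2 u v hp.1 hx1 hx2 hu.1 hv.1 e1 e2 e3 huvA ?_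
    intro a b ha hb hpa hvb
    refine ⟨?_, ?_⟩
    · rintro rfl
      exact hvR ⟨hv.1, a, a, ha, ha, hpa, Or.inl rfl, cg11_nb_symm hvb⟩
    · intro hab
      exact hvR ⟨hv.1, a, b, ha, hb, hpa, Or.inr hab, cg11_nb_symm hvb⟩

end Cfsg.Agent.Lib.Helper22.Cg
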