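import Cfsg.Agent.Lib.Helper35.D3SORT

/-! # D3 hive (S2183, helper12): leaf D3-INV (helper35), by the sorting system of `D3SORT` -/

set_option autoImplicit false
set_option linter.unusedSimpArgs false

namespace Cfsg.Agent.Lib.Helper12.D3

open Cfsg Cfsg.Lie Cfsg.Agent.Lib.Helper36 Cfsg.Agent.Lib.Helper75.D4g

variable (K : Type*) [Field K] (φ : K →+* K)

theorem d3inv_final (t a1 a1' a2 a2' a3 a3' b1 b1' b2 b2' b3 b3' d d' e e' : K) (h1 : a1 = a1') (h2 : a2 = a2')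
    (h3 : a3 = a3') (h4 : b1 = b1') (h5 : b2 = b2') (h6 : b3 = b3') (hd : d = d') (he : e = e') :
    xg K 14 t * (xg K 19 a1 * (xg K 16 a2 * (xg K 15 a3 * (xg K 21 b1 * (xg K 17 b2 * (xg K 20 b3 *
      (xg K 22 d * xg K 23 e))))))) =
    xg K 14 t * (xg K 19 a1' * (xg K 16 a2' * (xg K 15 a3' * (xg K 21 b1' * (xg K 17 b2' * (xg K 20 b3' *
      (xg K 22 d' * xg K 23 e'))))))) := by
  rw [h1, h2, h3, h4, h5, h6, hd, he]

/-- D3-INV -/
theorem V_inv [CharP K 2] (h3 : ∀ x : K, φ (φ (φ x)) = x) (t S c d e : K) :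
    ∃ e' : K, (V K φ t S c d e)⁻¹ = V K φ t S c d e' := by
  refine ⟨?_, ?_⟩
  rotate_left
  · unfold V T xab x2ab
    simp only [mul_inv_rev, d3sort_inv, map_zero, d3sort_zero, one_mul, mul_one, map_add, map_mul, h3]
    simp only [mul_assoc, d3sort_add, d3sort_add', CharTwo.add_self_eq_zero, d3sort_zero, one_mul, mul_one,
      d3sort_13_18 K, d3sort_13_18' K, d3sort_12_18 K, d3sort_12_18' K, d3sort_14_18 K, d3sort_14_18' K, d3sort_19_18 K, d3sort_19_18' K, d3sort_16_18 K, d3sort_16_18' K, d3sort_15_18 K, d3sort_15_18' K, d3sort_21_18 K, d3sort_21_18' K, d3sort_17_18 K, d3sort_17_18' K, d3sort_20_18 K, d3sort_20_18' K, d3sort_22_18 K, d3sort_22_18' K, d3sort_23_18 K, d3sort_23_18' K, d3sort_12_13 K, d3sort_12_13' K, d3sort_14_13 K, d3sort_14_13' K, d3sort_19_13 K, d3sort_19_13' K, d3sort_16_13 K, d3sort_16_13' K, d3sort_15_13 K, d3sort_15_13' K, d3sort_21_13 K, d3sort_21_13' K, d3sort_17_13 K, d3sort_17_13'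 K, d3sort_20_13 K, d3sort_20_13' K, d3sort_22_13 K, d3sort_22_13' K, d3sort_23_13 K, d3sort_23_13' K, d3sort_14_12 K, d3sort_14_12' K, d3sort_19_12 K, d3sort_19_12' K, d3sort_16_12 K, d3sort_16_12' K, d3sort_15_12 K, d3sort_15_12' K, d3sort_21_12 K, d3sort_21_12' K, d3sort_17_12 K, d3sort_17_12' K, d3sort_20_12 K, d3sort_20_12' K, d3sort_22_12 K, d3sort_22_12' K, d3sort_23_12 K, d3sort_23_12' K, d3sort_19_14 K, d3sort_19_14' K, d3sort_16_14 K, d3sort_16_14' K, d3sort_15_14 K, d3sort_15_14' K, d3sort_21_14 K, d3sort_21_14' K, d3sort_17_14 K, d3sort_17_14' K, d3sort_20_14 K, d3sort_20_14' K, d3sort_22_14 K, d3sort_22_14' K, d3sort_23_14 K, d3sort_23_14' K, d3sort_16_19 K, d3sort_16_19' K, d3sort_15_19 K, d3sort_15_19' K, d3sort_21_19 K, d3sort_21_19' K, d3sort_17_19 K, d3sort_17_19' K, d3sort_20_19 K, d3sort_20_19' K, d3sort_22_19 K, d3sort_22_19' K, d3sort_23_19 K, d3sort_23_19' K, d3sort_15_16 K, d3sort_15_16'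 K, d3sort_21_16 K, d3sort_21_16' K, d3sort_17_16 K, d3sort_17_16' K, d3sort_20_16 K, d3sort_20_16' K, d3sort_22_16 K, d3sort_22_16' K, d3sort_23_16 K, d3sort_23_16' K, d3sort_21_15 K, d3sort_21_15' K, d3sort_17_15 K, d3sort_17_15' K, d3sort_20_15 K, d3sort_20_15' K, d3sort_22_15 K, d3sort_22_15' K, d3sort_23_15 K, d3sort_23_15' K, d3sort_17_21 K, d3sort_17_21' K, d3sort_20_21 K, d3sort_20_21' K, d3sort_22_21 K, d3sort_22_21' K, d3sort_23_21 K, d3sort_23_21' K, d3sort_20_17 K, d3sort_20_17' K, d3sort_22_17 K, d3sort_22_17' K, d3sort_23_17 K, d3sort_23_17' K, d3sort_22_20 K, d3sort_22_20' K, d3sort_23_20 K, d3sort_23_20' K, d3sort_23_22 K, d3sort_23_22' K]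
    apply d3inv_final
    · ring
    · ring
    · ring
    · ring
    · ring
    · ring
    · ring
    · rfl

/-- D3-INV -/
theorem xa_mul_self [CharP K 2] (s : K) : xa K φ s * xa K φ s = 1 := by
  unfold xa
  simp only [mul_assoc, d3sort_add, d3sort_add', CharTwo.add_self_eq_zero, d3sort_zero, one_mul, mul_one,
      d3sort_13_18 K, d3sort_13_18' K, d3sort_12_18 K, d3sort_12_18' K, d3sort_14_18 K, d3sort_14_18' K, d3sort_19_18 K, d3sort_19_18' K, d3sort_16_18 K, d3sort_16_18' K, d3sort_15_18 K, d3sort_15_18' K, d3sort_21_18 K, d3sort_21_18' K, d3sort_17_18 K, d3sort_17_18' K, d3sort_20_18 K, d3sort_20_18' K, d3sort_22_18 K, d3sort_22_18' K, d3sort_23_18 K, d3sort_23_18' K, d3sort_12_13 K, d3sort_12_13' K, d3sort_14_13 K, d3sort_14_13' K, d3sort_19_13 K, d3sort_19_13' K, d3sort_16_13 K, d3sort_16_13' K, d3sort_15_13 K, d3sort_15_13' K, d3sort_21_13 K, d3sort_21_13' K, d3sort_17_13 K, d3sort_17_13' K,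 d3sort_20_13 K, d3sort_20_13' K, d3sort_22_13 K, d3sort_22_13' K, d3sort_23_13 K, d3sort_23_13' K, d3sort_14_12 K, d3sort_14_12' K, d3sort_19_12 K, d3sort_19_12' K, d3sort_16_12 K, d3sort_16_12' K, d3sort_15_12 K, d3sort_15_12' K, d3sort_21_12 K, d3sort_21_12' K, d3sort_17_12 K, d3sort_17_12' K, d3sort_20_12 K, d3sort_20_12' K, d3sort_22_12 K, d3sort_22_12' K, d3sort_23_12 K, d3sort_23_12' K, d3sort_19_14 K, d3sort_19_14' K, d3sort_16_14 K, d3sort_16_14' K, d3sort_15_14 K, d3sort_15_14' K, d3sort_21_14 K, d3sort_21_14' K, d3sort_17_14 K, d3sort_17_14' K, d3sort_20_14 K, d3sort_20_14' K, d3sort_22_14 K, d3sort_22_14' K, d3sort_23_14 K, d3sort_23_14' K, d3sort_16_19 K, d3sort_16_19' K, d3sort_15_19 K, d3sort_15_19' K, d3sort_21_19 K, d3sort_21_19' K, d3sort_17_19 K, d3sort_17_19' K, d3sort_20_19 K, d3sort_20_19' K, d3sort_22_19 K, d3sort_22_19' K, d3sort_23_19 K, d3sort_23_19' K, d3sort_15_16 K, d3sort_15_16'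 K, d3sort_21_16 K, d3sort_21_16' K, d3sort_17_16 K, d3sort_17_16' K, d3sort_20_16 K, d3sort_20_16' K, d3sort_22_16 K, d3sort_22_16' K, d3sort_23_16 K, d3sort_23_16' K, d3sort_21_15 K, d3sort_21_15' K, d3sort_17_15 K, d3sort_17_15' K, d3sort_20_15 K, d3sort_20_15' K, d3sort_22_15 K, d3sort_22_15' K, d3sort_23_15 K, d3sort_23_15' K, d3sort_17_21 K, d3sort_17_21' K, d3sort_20_21 K, d3sort_20_21' K, d3sort_22_21 K, d3sort_22_21' K, d3sort_23_21 K, d3sort_23_21' K, d3sort_20_17 K, d3sort_20_17' K, d3sort_22_17 K, d3sort_22_17' K, d3sort_23_17 K, d3sort_23_17' K, d3sort_22_20 K, d3sort_22_20' K, d3sort_23_20 K, d3sort_23_20' K, d3sort_23_22 K, d3sort_23_22' K]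

/-- D3-INV -/
theorem T_mul_self [CharP K 2] (c d e : K) : T K φ c d e * T K φ c d e = 1 := by
  unfold T x2ab
  simp only [mul_assoc, d3sort_add, d3sort_add', CharTwo.add_self_eq_zero, d3sort_zero, one_mul, mul_one,
      d3sort_13_18 K, d3sort_13_18' K, d3sort_12_18 K, d3sort_12_18' K, d3sort_14_18 K, d3sort_14_18' K, d3sort_19_18 K, d3sort_19_18' K, d3sort_16_18 K, d3sort_16_18' K, d3sort_15_18 K, d3sort_15_18' K, d3sort_21_18 K, d3sort_21_18' K, d3sort_17_18 K, d3sort_17_18' K, d3sort_20_18 K, d3sort_20_18' K, d3sort_22_18 K, d3sort_22_18' K, d3sort_23_18 K, d3sort_23_18' K, d3sort_12_13 K, d3sort_12_13' K, d3sort_14_13 K, d3sort_14_13' K, d3sort_19_13 K, d3sort_19_13' K, d3sort_16_13 K, d3sort_16_13' K, d3sort_15_13 K, d3sort_15_13' K, d3sort_21_13 K, d3sort_21_13' K, d3sort_17_13 K, d3sort_17_13' K, d3sort_20_13 K, d3sort_20_13' K, d3sort_22_13 K, d3sort_22_13' K, d3sort_23_13 K, d3sort_23_13'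 K, d3sort_14_12 K, d3sort_14_12' K, d3sort_19_12 K, d3sort_19_12' K, d3sort_16_12 K, d3sort_16_12' K, d3sort_15_12 K, d3sort_15_12' K, d3sort_21_12 K, d3sort_21_12' K, d3sort_17_12 K, d3sort_17_12' K, d3sort_20_12 K, d3sort_20_12' K, d3sort_22_12 K, d3sort_22_12' K, d3sort_23_12 K, d3sort_23_12' K, d3sort_19_14 K, d3sort_19_14' K, d3sort_16_14 K, d3sort_16_14' K, d3sort_15_14 K, d3sort_15_14' K, d3sort_21_14 K, d3sort_21_14' K, d3sort_17_14 K, d3sort_17_14' K, d3sort_20_14 K, d3sort_20_14' K, d3sort_22_14 K, d3sort_22_14' K, d3sort_23_14 K, d3sort_23_14' K, d3sort_16_19 K, d3sort_16_19' K, d3sort_15_19 K, d3sort_15_19' K, d3sort_21_19 K, d3sort_21_19' K, d3sort_17_19 K, d3sort_17_19' K, d3sort_20_19 K, d3sort_20_19' K, d3sort_22_19 K, d3sort_22_19' K, d3sort_23_19 K, d3sort_23_19' K, d3sort_15_16 K, d3sort_15_16' K, d3sort_21_16 K, d3sort_21_16' K, d3sort_17_16 K, d3sort_17_16' K, d3sort_20_16 K, d3sort_20_16'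 K, d3sort_22_16 K, d3sort_22_16' K, d3sort_23_16 K, d3sort_23_16' K, d3sort_21_15 K, d3sort_21_15' K, d3sort_17_15 K, d3sort_17_15' K, d3sort_20_15 K, d3sort_20_15' K, d3sort_22_15 K, d3sort_22_15' K, d3sort_23_15 K, d3sort_23_15' K, d3sort_17_21 K, d3sort_17_21' K, d3sort_20_21 K, d3sort_20_21' K, d3sort_22_21 K, d3sort_22_21' K, d3sort_23_21 K, d3sort_23_21' K, d3sort_20_17 K, d3sort_20_17' K, d3sort_22_17 K, d3sort_22_17' K, d3sort_23_17 K, d3sort_23_17' K, d3sort_22_20 K, d3sort_22_20' K, d3sort_23_20 K, d3sort_23_20' K, d3sort_23_22 K, d3sort_23_22' K]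

end Cfsg.Agent.Lib.Helper12.D3
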