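import Cfsg.Agent.Lib.Helper12.D3Defs
import Cfsg.Agent.Lib.Helper65.D4gCOMM

/-! # D3 hive (S2183, helper12): a sorting rewriting system for `U(D₄)` in characteristic 2 (helper35)

For every pair of positive roots `r` before `p` in the order `18, 13, 12, 14, 19, 16, 15, 21, 17, 20, 22, 23` there is a rule
`d3sort_<p>_<r> : x_p(u) x_r(t) = x_r(t) x_p(u) [x_{r+p}(t u)]` and its version with a tail. `simp only` with all of them
brings any word in positive root elements to the sorted normal form. -/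

set_option autoImplicit false
set_option linter.unusedSimpArgs false

namespace Cfsg.Agent.Lib.Helper12.D3

open Cfsg Cfsg.Lie Cfsg.Agent.Lib.Helper36 Cfsg.Agent.Lib.Helper75.D4g

variable (K : Type*) [Field K] (φ : K →+* K)

/-- the commutator relation in characteristic 2, in sorting form -/
theorem d3sort_sw [CharP K 2] (r s c : ℕ) (e : ℤ) (he : e = 1 ∨ e = -1) (hr : r < chevD4.nroots) (hs : s < chevD4.nroots)
    (hne1 : s ≠ r) (hne2 : s ≠ chevD4.neg r) (hterms : chevD4.commTerms r s = [(c, e, 1, 1)]) (t u : K) :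
    xg K s u * xg K r t = xg K r t * (xg K s u * xg K c (t * u)) := by
  rw [d4gcomm_single r s c e hr hs hne1 hne2 hterms t u, mul_assoc]
  congr 2
  rcases he with rfl | rfl
  · simp only [Int.cast_one, one_mul, neg_mul]
    rw [CharTwo.neg_eq]
  · simp only [Int.cast_neg, Int.cast_one, neg_mul, one_mul, neg_neg]

theorem d3sort_inv [CharP K 2] (r : ℕ) (t : K) : (xg K r t)⁻¹ = xg K r t := by
  show (xGL chevD4 hD4 K r t)⁻¹ = xGL chevD4 hD4 K r t
  rw [xGL_inv, CharTwo.neg_eq]

theorem d3sort_add (r : ℕ) (t u : K) : xg K r t * xg K r u = xg K r (t + u) :=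
  (xGL_add chevD4 hD4 K r t u).symm

theorem d3sort_add' (r : ℕ) (t u : K) (Z : GL chevD4.Idx K) : xg K r t * (xg K r u * Z) = xg K r (t + u) * Z := by
  rw [← mul_assoc, d3sort_add]

theorem d3sort_zero (r : ℕ) : xg K r 0 = 1 := xGL_zero chevD4 hD4 K r


theorem d3sort_13_18 (t u : K) : xg K 13 u * xg K 18 t = xg K 18 t * xg K 13 u :=
  (d4gcomm_nil 18 13 (by decide) (by decide) (by decide) (by decide) (by decide +kernel) t u).symm

theorem d3sort_13_18' (t u : K) (Z : GL chevD4.Idx K) :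
    xg K 13 u * (xg K 18 t * Z) = xg K 18 t * (xg K 13 u * Z) := by
  rw [← mul_assoc, d3sort_13_18, mul_assoc]

theorem d3sort_12_18 (t u : K) : xg K 12 u * xg K 18 t = xg K 18 t * xg K 12 u :=
  (d4gcomm_nil 18 12 (by decide) (by decide) (by decide) (by decide) (by decide +kernel) t u).symm

theorem d3sort_12_18' (t u : K) (Z : GL chevD4.Idx K) :
    xg K 12 u * (xg K 18 t * Z) = xg K 18 t * (xg K 12 u * Z) := by
  rw [← mul_assoc, d3sort_12_18, mul_assoc]

theorem d3sort_14_18 [CharP K 2] (t u : K) : xg K 14 u * xg K 18 t = xg K 18 t * (xg K 14 u * xg K 19 (t * u)) :=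
  d3sort_sw K 18 14 19 (-1) (Or.inr rfl) (by decide) (by decide) (by decide) (by decide) (by decide +kernel) t u

theorem d3sort_14_18' [CharP K 2] (t u : K) (Z : GL chevD4.Idx K) :
    xg K 14 u * (xg K 18 t * Z) = xg K 18 t * (xg K 14 u * (xg K 19 (t * u) * Z)) := by
  rw [← mul_assoc, d3sort_14_18, mul_assoc, mul_assoc]

theorem d3sort_19_18 (t u : K) : xg K 19 u * xg K 18 t = xg K 18 t * xg K 19 u :=
  (d4gcomm_nil 18 19 (by decide) (by decide) (by decide) (by decide) (by decide +kernel) t u).symm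

theorem d3sort_19_18' (t u : K) (Z : GL chevD4.Idx K) :
    xg K 19 u * (xg K 18 t * Z) = xg K 18 t * (xg K 19 u * Z) := by
  rw [← mul_assoc, d3sort_19_18, mul_assoc]

theorem d3sort_16_18 [CharP K 2] (t u : K) : xg K 16 u * xg K 18 t = xg K 18 t * (xg K 16 u * xg K 21 (t * u)) :=
  d3sort_sw K 18 16 21 (-1) (Or.inr rfl) (by decide) (by decide) (by decide) (by decide) (by decide +kernel) t u

theorem d3sort_16_18' [CharP K 2] (t u : K) (Z : GL chevD4.Idx K) :
    xg K 16 u * (xg K 18 t * Z) = xg K 18 t * (xg K 16 u * (xg K 21 (t * u) * Z)) := by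
  rw [← mul_assoc, d3sort_16_18, mul_assoc, mul_assoc]

theorem d3sort_15_18 [CharP K 2] (t u : K) : xg K 15 u * xg K 18 t = xg K 18 t * (xg K 15 u * xg K 20 (t * u)) :=
  d3sort_sw K 18 15 20 (-1) (Or.inr rfl) (by decide) (by decide) (by decide) (by decide) (by decide +kernel) t u

theorem d3sort_15_18' [CharP K 2] (t u : K) (Z : GL chevD4.Idx K) :
    xg K 15 u * (xg K 18 t * Z) = xg K 18 t * (xg K 15 u * (xg K 20 (t * u) * Z)) := by
  rw [← mul_assoc, d3sort_15_18, mul_assoc, mul_assoc]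

theorem d3sort_21_18 (t u : K) : xg K 21 u * xg K 18 t = xg K 18 t * xg K 21 u :=
  (d4gcomm_nil 18 21 (by decide) (by decide) (by decide) (by decide) (by decide +kernel) t u).symm

theorem d3sort_21_18' (t u : K) (Z : GL chevD4.Idx K) :
    xg K 21 u * (xg K 18 t * Z) = xg K 18 t * (xg K 21 u * Z) := by
  rw [← mul_assoc, d3sort_21_18, mul_assoc]

theorem d3sort_17_18 [CharP K 2] (t u : K) : xg K 17 u * xg K 18 t = xg K 18 t * (xg K 17 u * xg K 22 (t * u)) :=
  d3sort_sw K 18 17 22 (-1) (Or.inr rfl) (by decide) (by decide) (by decide) (by decide) (by decide +kernel) t u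

theorem d3sort_17_18' [CharP K 2] (t u : K) (Z : GL chevD4.Idx K) :
    xg K 17 u * (xg K 18 t * Z) = xg K 18 t * (xg K 17 u * (xg K 22 (t * u) * Z)) := by
  rw [← mul_assoc, d3sort_17_18, mul_assoc, mul_assoc]

theorem d3sort_20_18 (t u : K) : xg K 20 u * xg K 18 t = xg K 18 t * xg K 20 u :=
  (d4gcomm_nil 18 20 (by decide) (by decide) (by decide) (by decide) (by decide +kernel) t u).symm

theorem d3sort_20_18' (t u : K) (Z : GL chevD4.Idx K) :
    xg K 20 u * (xg K 18 t * Z) = xg K 18 t * (xg K 20 u * Z) := by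
  rw [← mul_assoc, d3sort_20_18, mul_assoc]

theorem d3sort_22_18 (t u : K) : xg K 22 u * xg K 18 t = xg K 18 t * xg K 22 u :=
  (d4gcomm_nil 18 22 (by decide) (by decide) (by decide) (by decide) (by decide +kernel) t u).symm

theorem d3sort_22_18' (t u : K) (Z : GL chevD4.Idx K) :
    xg K 22 u * (xg K 18 t * Z) = xg K 18 t * (xg K 22 u * Z) := by
  rw [← mul_assoc, d3sort_22_18, mul_assoc]

theorem d3sort_23_18 (t u : K) : xg K 23 u * xg K 18 t = xg K 18 t * xg K 23 u :=
  (d4gcomm_nil 18 23 (by decide) (by decide) (by decide) (by decide) (by decide +kernel) t u).symm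

theorem d3sort_23_18' (t u : K) (Z : GL chevD4.Idx K) :
    xg K 23 u * (xg K 18 t * Z) = xg K 18 t * (xg K 23 u * Z) := by
  rw [← mul_assoc, d3sort_23_18, mul_assoc]

theorem d3sort_12_13 (t u : K) : xg K 12 u * xg K 13 t = xg K 13 t * xg K 12 u :=
  (d4gcomm_nil 13 12 (by decide) (by decide) (by decide) (by decide) (by decide +kernel) t u).symm

theorem d3sort_12_13' (t u : K) (Z : GL chevD4.Idx K) :
    xg K 12 u * (xg K 13 t * Z) = xg K 13 t * (xg K 12 u * Z) := by
  rw [← mul_assoc, d3sort_12_13, mul_assoc]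

theorem d3sort_14_13 [CharP K 2] (t u : K) : xg K 14 u * xg K 13 t = xg K 13 t * (xg K 14 u * xg K 16 (t * u)) :=
  d3sort_sw K 13 14 16 (1) (Or.inl rfl) (by decide) (by decide) (by decide) (by decide) (by decide +kernel) t u

theorem d3sort_14_13' [CharP K 2] (t u : K) (Z : GL chevD4.Idx K) :
    xg K 14 u * (xg K 13 t * Z) = xg K 13 t * (xg K 14 u * (xg K 16 (t * u) * Z)) := by
  rw [← mul_assoc, d3sort_14_13, mul_assoc, mul_assoc]

theorem d3sort_19_13 [CharP K 2] (t u : K) : xg K 19 u * xg K 13 t = xg K 13 t * (xg K 19 u * xg K 21 (t * u)) :=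
  d3sort_sw K 13 19 21 (1) (Or.inl rfl) (by decide) (by decide) (by decide) (by decide) (by decide +kernel) t u

theorem d3sort_19_13' [CharP K 2] (t u : K) (Z : GL chevD4.Idx K) :
    xg K 19 u * (xg K 13 t * Z) = xg K 13 t * (xg K 19 u * (xg K 21 (t * u) * Z)) := by
  rw [← mul_assoc, d3sort_19_13, mul_assoc, mul_assoc]

theorem d3sort_16_13 (t u : K) : xg K 16 u * xg K 13 t = xg K 13 t * xg K 16 u :=
  (d4gcomm_nil 13 16 (by decide) (by decide) (by decide) (by decide) (by decide +kernel) t u).symm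

theorem d3sort_16_13' (t u : K) (Z : GL chevD4.Idx K) :
    xg K 16 u * (xg K 13 t * Z) = xg K 13 t * (xg K 16 u * Z) := by
  rw [← mul_assoc, d3sort_16_13, mul_assoc]

theorem d3sort_15_13 [CharP K 2] (t u : K) : xg K 15 u * xg K 13 t = xg K 13 t * (xg K 15 u * xg K 17 (t * u)) :=
  d3sort_sw K 13 15 17 (1) (Or.inl rfl) (by decide) (by decide) (by decide) (by decide) (by decide +kernel) t u

theorem d3sort_15_13' [CharP K 2] (t u : K) (Z : GL chevD4.Idx K) :
    xg K 15 u * (xg K 13 t * Z) = xg K 13 t * (xg K 15 u * (xg K 17 (t * u) * Z)) := by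
  rw [← mul_assoc, d3sort_15_13, mul_assoc, mul_assoc]

theorem d3sort_21_13 (t u : K) : xg K 21 u * xg K 13 t = xg K 13 t * xg K 21 u :=
  (d4gcomm_nil 13 21 (by decide) (by decide) (by decide) (by decide) (by decide +kernel) t u).symm

theorem d3sort_21_13' (t u : K) (Z : GL chevD4.Idx K) :
    xg K 21 u * (xg K 13 t * Z) = xg K 13 t * (xg K 21 u * Z) := by
  rw [← mul_assoc, d3sort_21_13, mul_assoc]

theorem d3sort_17_13 (t u : K) : xg K 17 u * xg K 13 t = xg K 13 t * xg K 17 u :=
  (d4gcomm_nil 13 17 (by decide) (by decide) (by decide) (by decide) (by decide +kernel) t u).symm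

theorem d3sort_17_13' (t u : K) (Z : GL chevD4.Idx K) :
    xg K 17 u * (xg K 13 t * Z) = xg K 13 t * (xg K 17 u * Z) := by
  rw [← mul_assoc, d3sort_17_13, mul_assoc]

theorem d3sort_20_13 [CharP K 2] (t u : K) : xg K 20 u * xg K 13 t = xg K 13 t * (xg K 20 u * xg K 22 (t * u)) :=
  d3sort_sw K 13 20 22 (1) (Or.inl rfl) (by decide) (by decide) (by decide) (by decide) (by decide +kernel) t u

theorem d3sort_20_13' [CharP K 2] (t u : K) (Z : GL chevD4.Idx K) :
    xg K 20 u * (xg K 13 t * Z) = xg K 13 t * (xg K 20 u * (xg K 22 (t * u) * Z)) := by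
  rw [← mul_assoc, d3sort_20_13, mul_assoc, mul_assoc]

theorem d3sort_22_13 (t u : K) : xg K 22 u * xg K 13 t = xg K 13 t * xg K 22 u :=
  (d4gcomm_nil 13 22 (by decide) (by decide) (by decide) (by decide) (by decide +kernel) t u).symm

theorem d3sort_22_13' (t u : K) (Z : GL chevD4.Idx K) :
    xg K 22 u * (xg K 13 t * Z) = xg K 13 t * (xg K 22 u * Z) := by
  rw [← mul_assoc, d3sort_22_13, mul_assoc]

theorem d3sort_23_13 (t u : K) : xg K 23 u * xg K 13 t = xg K 13 t * xg K 23 u :=
  (d4gcomm_nil 13 23 (by decide) (by decide) (by decide) (by decide) (by decide +kernel) t u).symm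

theorem d3sort_23_13' (t u : K) (Z : GL chevD4.Idx K) :
    xg K 23 u * (xg K 13 t * Z) = xg K 13 t * (xg K 23 u * Z) := by
  rw [← mul_assoc, d3sort_23_13, mul_assoc]

theorem d3sort_14_12 [CharP K 2] (t u : K) : xg K 14 u * xg K 12 t = xg K 12 t * (xg K 14 u * xg K 15 (t * u)) :=
  d3sort_sw K 12 14 15 (1) (Or.inl rfl) (by decide) (by decide) (by decide) (by decide) (by decide +kernel) t u

theorem d3sort_14_12' [CharP K 2] (t u : K) (Z : GL chevD4.Idx K) :
    xg K 14 u * (xg K 12 t * Z) = xg K 12 t * (xg K 14 u * (xg K 15 (t * u) * Z)) := by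
  rw [← mul_assoc, d3sort_14_12, mul_assoc, mul_assoc]

theorem d3sort_19_12 [CharP K 2] (t u : K) : xg K 19 u * xg K 12 t = xg K 12 t * (xg K 19 u * xg K 20 (t * u)) :=
  d3sort_sw K 12 19 20 (1) (Or.inl rfl) (by decide) (by decide) (by decide) (by decide) (by decide +kernel) t u

theorem d3sort_19_12' [CharP K 2] (t u : K) (Z : GL chevD4.Idx K) :
    xg K 19 u * (xg K 12 t * Z) = xg K 12 t * (xg K 19 u * (xg K 20 (t * u) * Z)) := by
  rw [← mul_assoc, d3sort_19_12, mul_assoc, mul_assoc]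

theorem d3sort_16_12 [CharP K 2] (t u : K) : xg K 16 u * xg K 12 t = xg K 12 t * (xg K 16 u * xg K 17 (t * u)) :=
  d3sort_sw K 12 16 17 (1) (Or.inl rfl) (by decide) (by decide) (by decide) (by decide) (by decide +kernel) t u

theorem d3sort_16_12' [CharP K 2] (t u : K) (Z : GL chevD4.Idx K) :
    xg K 16 u * (xg K 12 t * Z) = xg K 12 t * (xg K 16 u * (xg K 17 (t * u) * Z)) := by
  rw [← mul_assoc, d3sort_16_12, mul_assoc, mul_assoc]

theorem d3sort_15_12 (t u : K) : xg K 15 u * xg K 12 t = xg K 12 t * xg K 15 u :=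
  (d4gcomm_nil 12 15 (by decide) (by decide) (by decide) (by decide) (by decide +kernel) t u).symm

theorem d3sort_15_12' (t u : K) (Z : GL chevD4.Idx K) :
    xg K 15 u * (xg K 12 t * Z) = xg K 12 t * (xg K 15 u * Z) := by
  rw [← mul_assoc, d3sort_15_12, mul_assoc]

theorem d3sort_21_12 [CharP K 2] (t u : K) : xg K 21 u * xg K 12 t = xg K 12 t * (xg K 21 u * xg K 22 (t * u)) :=
  d3sort_sw K 12 21 22 (1) (Or.inl rfl) (by decide) (by decide) (by decide) (by decide) (by decide +kernel) t u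

theorem d3sort_21_12' [CharP K 2] (t u : K) (Z : GL chevD4.Idx K) :
    xg K 21 u * (xg K 12 t * Z) = xg K 12 t * (xg K 21 u * (xg K 22 (t * u) * Z)) := by
  rw [← mul_assoc, d3sort_21_12, mul_assoc, mul_assoc]

theorem d3sort_17_12 (t u : K) : xg K 17 u * xg K 12 t = xg K 12 t * xg K 17 u :=
  (d4gcomm_nil 12 17 (by decide) (by decide) (by decide) (by decide) (by decide +kernel) t u).symm

theorem d3sort_17_12' (t u : K) (Z : GL chevD4.Idx K) :
    xg K 17 u * (xg K 12 t * Z) = xg K 12 t * (xg K 17 u * Z) := by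
  rw [← mul_assoc, d3sort_17_12, mul_assoc]

theorem d3sort_20_12 (t u : K) : xg K 20 u * xg K 12 t = xg K 12 t * xg K 20 u :=
  (d4gcomm_nil 12 20 (by decide) (by decide) (by decide) (by decide) (by decide +kernel) t u).symm

theorem d3sort_20_12' (t u : K) (Z : GL chevD4.Idx K) :
    xg K 20 u * (xg K 12 t * Z) = xg K 12 t * (xg K 20 u * Z) := by
  rw [← mul_assoc, d3sort_20_12, mul_assoc]

theorem d3sort_22_12 (t u : K) : xg K 22 u * xg K 12 t = xg K 12 t * xg K 22 u :=
  (d4gcomm_nil 12 22 (by decide) (by decide) (by decide) (by decide) (by decide +kernel) t u).symm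

theorem d3sort_22_12' (t u : K) (Z : GL chevD4.Idx K) :
    xg K 22 u * (xg K 12 t * Z) = xg K 12 t * (xg K 22 u * Z) := by
  rw [← mul_assoc, d3sort_22_12, mul_assoc]

theorem d3sort_23_12 (t u : K) : xg K 23 u * xg K 12 t = xg K 12 t * xg K 23 u :=
  (d4gcomm_nil 12 23 (by decide) (by decide) (by decide) (by decide) (by decide +kernel) t u).symm

theorem d3sort_23_12' (t u : K) (Z : GL chevD4.Idx K) :
    xg K 23 u * (xg K 12 t * Z) = xg K 12 t * (xg K 23 u * Z) := by
  rw [← mul_assoc, d3sort_23_12, mul_assoc]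

theorem d3sort_19_14 (t u : K) : xg K 19 u * xg K 14 t = xg K 14 t * xg K 19 u :=
  (d4gcomm_nil 14 19 (by decide) (by decide) (by decide) (by decide) (by decide +kernel) t u).symm

theorem d3sort_19_14' (t u : K) (Z : GL chevD4.Idx K) :
    xg K 19 u * (xg K 14 t * Z) = xg K 14 t * (xg K 19 u * Z) := by
  rw [← mul_assoc, d3sort_19_14, mul_assoc]

theorem d3sort_16_14 (t u : K) : xg K 16 u * xg K 14 t = xg K 14 t * xg K 16 u :=
  (d4gcomm_nil 14 16 (by decide) (by decide) (by decide) (by decide) (by decide +kernel) t u).symm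

theorem d3sort_16_14' (t u : K) (Z : GL chevD4.Idx K) :
    xg K 16 u * (xg K 14 t * Z) = xg K 14 t * (xg K 16 u * Z) := by
  rw [← mul_assoc, d3sort_16_14, mul_assoc]

theorem d3sort_15_14 (t u : K) : xg K 15 u * xg K 14 t = xg K 14 t * xg K 15 u :=
  (d4gcomm_nil 14 15 (by decide) (by decide) (by decide) (by decide) (by decide +kernel) t u).symm

theorem d3sort_15_14' (t u : K) (Z : GL chevD4.Idx K) :
    xg K 15 u * (xg K 14 t * Z) = xg K 14 t * (xg K 15 u * Z) := by
  rw [← mul_assoc, d3sort_15_14, mul_assoc]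

theorem d3sort_21_14 (t u : K) : xg K 21 u * xg K 14 t = xg K 14 t * xg K 21 u :=
  (d4gcomm_nil 14 21 (by decide) (by decide) (by decide) (by decide) (by decide +kernel) t u).symm

theorem d3sort_21_14' (t u : K) (Z : GL chevD4.Idx K) :
    xg K 21 u * (xg K 14 t * Z) = xg K 14 t * (xg K 21 u * Z) := by
  rw [← mul_assoc, d3sort_21_14, mul_assoc]

theorem d3sort_17_14 (t u : K) : xg K 17 u * xg K 14 t = xg K 14 t * xg K 17 u :=
  (d4gcomm_nil 14 17 (by decide) (by decide) (by decide) (by decide) (by decide +kernel) t u).symm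

theorem d3sort_17_14' (t u : K) (Z : GL chevD4.Idx K) :
    xg K 17 u * (xg K 14 t * Z) = xg K 14 t * (xg K 17 u * Z) := by
  rw [← mul_assoc, d3sort_17_14, mul_assoc]

theorem d3sort_20_14 (t u : K) : xg K 20 u * xg K 14 t = xg K 14 t * xg K 20 u :=
  (d4gcomm_nil 14 20 (by decide) (by decide) (by decide) (by decide) (by decide +kernel) t u).symm

theorem d3sort_20_14' (t u : K) (Z : GL chevD4.Idx K) :
    xg K 20 u * (xg K 14 t * Z) = xg K 14 t * (xg K 20 u * Z) := by
  rw [← mul_assoc, d3sort_20_14, mul_assoc]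

theorem d3sort_22_14 [CharP K 2] (t u : K) : xg K 22 u * xg K 14 t = xg K 14 t * (xg K 22 u * xg K 23 (t * u)) :=
  d3sort_sw K 14 22 23 (1) (Or.inl rfl) (by decide) (by decide) (by decide) (by decide) (by decide +kernel) t u

theorem d3sort_22_14' [CharP K 2] (t u : K) (Z : GL chevD4.Idx K) :
    xg K 22 u * (xg K 14 t * Z) = xg K 14 t * (xg K 22 u * (xg K 23 (t * u) * Z)) := by
  rw [← mul_assoc, d3sort_22_14, mul_assoc, mul_assoc]

theorem d3sort_23_14 (t u : K) : xg K 23 u * xg K 14 t = xg K 14 t * xg K 23 u :=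
  (d4gcomm_nil 14 23 (by decide) (by decide) (by decide) (by decide) (by decide +kernel) t u).symm

theorem d3sort_23_14' (t u : K) (Z : GL chevD4.Idx K) :
    xg K 23 u * (xg K 14 t * Z) = xg K 14 t * (xg K 23 u * Z) := by
  rw [← mul_assoc, d3sort_23_14, mul_assoc]

theorem d3sort_16_19 (t u : K) : xg K 16 u * xg K 19 t = xg K 19 t * xg K 16 u :=
  (d4gcomm_nil 19 16 (by decide) (by decide) (by decide) (by decide) (by decide +kernel) t u).symm

theorem d3sort_16_19' (t u : K) (Z : GL chevD4.Idx K) :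
    xg K 16 u * (xg K 19 t * Z) = xg K 19 t * (xg K 16 u * Z) := by
  rw [← mul_assoc, d3sort_16_19, mul_assoc]

theorem d3sort_15_19 (t u : K) : xg K 15 u * xg K 19 t = xg K 19 t * xg K 15 u :=
  (d4gcomm_nil 19 15 (by decide) (by decide) (by decide) (by decide) (by decide +kernel) t u).symm

theorem d3sort_15_19' (t u : K) (Z : GL chevD4.Idx K) :
    xg K 15 u * (xg K 19 t * Z) = xg K 19 t * (xg K 15 u * Z) := by
  rw [← mul_assoc, d3sort_15_19, mul_assoc]

theorem d3sort_21_19 (t u : K) : xg K 21 u * xg K 19 t = xg K 19 t * xg K 21 u :=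
  (d4gcomm_nil 19 21 (by decide) (by decide) (by decide) (by decide) (by decide +kernel) t u).symm

theorem d3sort_21_19' (t u : K) (Z : GL chevD4.Idx K) :
    xg K 21 u * (xg K 19 t * Z) = xg K 19 t * (xg K 21 u * Z) := by
  rw [← mul_assoc, d3sort_21_19, mul_assoc]

theorem d3sort_17_19 [CharP K 2] (t u : K) : xg K 17 u * xg K 19 t = xg K 19 t * (xg K 17 u * xg K 23 (t * u)) :=
  d3sort_sw K 19 17 23 (-1) (Or.inr rfl) (by decide) (by decide) (by decide) (by decide) (by decide +kernel) t u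

theorem d3sort_17_19' [CharP K 2] (t u : K) (Z : GL chevD4.Idx K) :
    xg K 17 u * (xg K 19 t * Z) = xg K 19 t * (xg K 17 u * (xg K 23 (t * u) * Z)) := by
  rw [← mul_assoc, d3sort_17_19, mul_assoc, mul_assoc]

theorem d3sort_20_19 (t u : K) : xg K 20 u * xg K 19 t = xg K 19 t * xg K 20 u :=
  (d4gcomm_nil 19 20 (by decide) (by decide) (by decide) (by decide) (by decide +kernel) t u).symm

theorem d3sort_20_19' (t u : K) (Z : GL chevD4.Idx K) :
    xg K 20 u * (xg K 19 t * Z) = xg K 19 t * (xg K 20 u * Z) := by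
  rw [← mul_assoc, d3sort_20_19, mul_assoc]

theorem d3sort_22_19 (t u : K) : xg K 22 u * xg K 19 t = xg K 19 t * xg K 22 u :=
  (d4gcomm_nil 19 22 (by decide) (by decide) (by decide) (by decide) (by decide +kernel) t u).symm

theorem d3sort_22_19' (t u : K) (Z : GL chevD4.Idx K) :
    xg K 22 u * (xg K 19 t * Z) = xg K 19 t * (xg K 22 u * Z) := by
  rw [← mul_assoc, d3sort_22_19, mul_assoc]

theorem d3sort_23_19 (t u : K) : xg K 23 u * xg K 19 t = xg K 19 t * xg K 23 u :=
  (d4gcomm_nil 19 23 (by decide) (by decide) (by decide) (by decide) (by decide +kernel) t u).symm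

theorem d3sort_23_19' (t u : K) (Z : GL chevD4.Idx K) :
    xg K 23 u * (xg K 19 t * Z) = xg K 19 t * (xg K 23 u * Z) := by
  rw [← mul_assoc, d3sort_23_19, mul_assoc]

theorem d3sort_15_16 (t u : K) : xg K 15 u * xg K 16 t = xg K 16 t * xg K 15 u :=
  (d4gcomm_nil 16 15 (by decide) (by decide) (by decide) (by decide) (by decide +kernel) t u).symm

theorem d3sort_15_16' (t u : K) (Z : GL chevD4.Idx K) :
    xg K 15 u * (xg K 16 t * Z) = xg K 16 t * (xg K 15 u * Z) := by
  rw [← mul_assoc, d3sort_15_16, mul_assoc]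

theorem d3sort_21_16 (t u : K) : xg K 21 u * xg K 16 t = xg K 16 t * xg K 21 u :=
  (d4gcomm_nil 16 21 (by decide) (by decide) (by decide) (by decide) (by decide +kernel) t u).symm

theorem d3sort_21_16' (t u : K) (Z : GL chevD4.Idx K) :
    xg K 21 u * (xg K 16 t * Z) = xg K 16 t * (xg K 21 u * Z) := by
  rw [← mul_assoc, d3sort_21_16, mul_assoc]

theorem d3sort_17_16 (t u : K) : xg K 17 u * xg K 16 t = xg K 16 t * xg K 17 u :=
  (d4gcomm_nil 16 17 (by decide) (by decide) (by decide) (by decide) (by decide +kernel) t u).symm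

theorem d3sort_17_16' (t u : K) (Z : GL chevD4.Idx K) :
    xg K 17 u * (xg K 16 t * Z) = xg K 16 t * (xg K 17 u * Z) := by
  rw [← mul_assoc, d3sort_17_16, mul_assoc]

theorem d3sort_20_16 [CharP K 2] (t u : K) : xg K 20 u * xg K 16 t = xg K 16 t * (xg K 20 u * xg K 23 (t * u)) :=
  d3sort_sw K 16 20 23 (-1) (Or.inr rfl) (by decide) (by decide) (by decide) (by decide) (by decide +kernel) t u

theorem d3sort_20_16' [CharP K 2] (t u : K) (Z : GL chevD4.Idx K) :
    xg K 20 u * (xg K 16 t * Z) = xg K 16 t * (xg K 20 u * (xg K 23 (t * u) * Z)) := by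
  rw [← mul_assoc, d3sort_20_16, mul_assoc, mul_assoc]

theorem d3sort_22_16 (t u : K) : xg K 22 u * xg K 16 t = xg K 16 t * xg K 22 u :=
  (d4gcomm_nil 16 22 (by decide) (by decide) (by decide) (by decide) (by decide +kernel) t u).symm

theorem d3sort_22_16' (t u : K) (Z : GL chevD4.Idx K) :
    xg K 22 u * (xg K 16 t * Z) = xg K 16 t * (xg K 22 u * Z) := by
  rw [← mul_assoc, d3sort_22_16, mul_assoc]

theorem d3sort_23_16 (t u : K) : xg K 23 u * xg K 16 t = xg K 16 t * xg K 23 u :=
  (d4gcomm_nil 16 23 (by decide) (by decide) (by decide) (by decide) (by decide +kernel) t u).symm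

theorem d3sort_23_16' (t u : K) (Z : GL chevD4.Idx K) :
    xg K 23 u * (xg K 16 t * Z) = xg K 16 t * (xg K 23 u * Z) := by
  rw [← mul_assoc, d3sort_23_16, mul_assoc]

theorem d3sort_21_15 [CharP K 2] (t u : K) : xg K 21 u * xg K 15 t = xg K 15 t * (xg K 21 u * xg K 23 (t * u)) :=
  d3sort_sw K 15 21 23 (-1) (Or.inr rfl) (by decide) (by decide) (by decide) (by decide) (by decide +kernel) t u

theorem d3sort_21_15' [CharP K 2] (t u : K) (Z : GL chevD4.Idx K) :
    xg K 21 u * (xg K 15 t * Z) = xg K 15 t * (xg K 21 u * (xg K 23 (t * u) * Z)) := by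
  rw [← mul_assoc, d3sort_21_15, mul_assoc, mul_assoc]

theorem d3sort_17_15 (t u : K) : xg K 17 u * xg K 15 t = xg K 15 t * xg K 17 u :=
  (d4gcomm_nil 15 17 (by decide) (by decide) (by decide) (by decide) (by decide +kernel) t u).symm

theorem d3sort_17_15' (t u : K) (Z : GL chevD4.Idx K) :
    xg K 17 u * (xg K 15 t * Z) = xg K 15 t * (xg K 17 u * Z) := by
  rw [← mul_assoc, d3sort_17_15, mul_assoc]

theorem d3sort_20_15 (t u : K) : xg K 20 u * xg K 15 t = xg K 15 t * xg K 20 u :=
  (d4gcomm_nil 15 20 (by decide) (by decide) (by decide) (by decide) (by decide +kernel) t u).symm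

theorem d3sort_20_15' (t u : K) (Z : GL chevD4.Idx K) :
    xg K 20 u * (xg K 15 t * Z) = xg K 15 t * (xg K 20 u * Z) := by
  rw [← mul_assoc, d3sort_20_15, mul_assoc]

theorem d3sort_22_15 (t u : K) : xg K 22 u * xg K 15 t = xg K 15 t * xg K 22 u :=
  (d4gcomm_nil 15 22 (by decide) (by decide) (by decide) (by decide) (by decide +kernel) t u).symm

theorem d3sort_22_15' (t u : K) (Z : GL chevD4.Idx K) :
    xg K 22 u * (xg K 15 t * Z) = xg K 15 t * (xg K 22 u * Z) := by
  rw [← mul_assoc, d3sort_22_15, mul_assoc]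

theorem d3sort_23_15 (t u : K) : xg K 23 u * xg K 15 t = xg K 15 t * xg K 23 u :=
  (d4gcomm_nil 15 23 (by decide) (by decide) (by decide) (by decide) (by decide +kernel) t u).symm

theorem d3sort_23_15' (t u : K) (Z : GL chevD4.Idx K) :
    xg K 23 u * (xg K 15 t * Z) = xg K 15 t * (xg K 23 u * Z) := by
  rw [← mul_assoc, d3sort_23_15, mul_assoc]

theorem d3sort_17_21 (t u : K) : xg K 17 u * xg K 21 t = xg K 21 t * xg K 17 u :=
  (d4gcomm_nil 21 17 (by decide) (by decide) (by decide) (by decide) (by decide +kernel) t u).symm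

theorem d3sort_17_21' (t u : K) (Z : GL chevD4.Idx K) :
    xg K 17 u * (xg K 21 t * Z) = xg K 21 t * (xg K 17 u * Z) := by
  rw [← mul_assoc, d3sort_17_21, mul_assoc]

theorem d3sort_20_21 (t u : K) : xg K 20 u * xg K 21 t = xg K 21 t * xg K 20 u :=
  (d4gcomm_nil 21 20 (by decide) (by decide) (by decide) (by decide) (by decide +kernel) t u).symm

theorem d3sort_20_21' (t u : K) (Z : GL chevD4.Idx K) :
    xg K 20 u * (xg K 21 t * Z) = xg K 21 t * (xg K 20 u * Z) := by
  rw [← mul_assoc, d3sort_20_21, mul_assoc]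

theorem d3sort_22_21 (t u : K) : xg K 22 u * xg K 21 t = xg K 21 t * xg K 22 u :=
  (d4gcomm_nil 21 22 (by decide) (by decide) (by decide) (by decide) (by decide +kernel) t u).symm

theorem d3sort_22_21' (t u : K) (Z : GL chevD4.Idx K) :
    xg K 22 u * (xg K 21 t * Z) = xg K 21 t * (xg K 22 u * Z) := by
  rw [← mul_assoc, d3sort_22_21, mul_assoc]

theorem d3sort_23_21 (t u : K) : xg K 23 u * xg K 21 t = xg K 21 t * xg K 23 u :=
  (d4gcomm_nil 21 23 (by decide) (by decide) (by decide) (by decide) (by decide +kernel) t u).symm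

theorem d3sort_23_21' (t u : K) (Z : GL chevD4.Idx K) :
    xg K 23 u * (xg K 21 t * Z) = xg K 21 t * (xg K 23 u * Z) := by
  rw [← mul_assoc, d3sort_23_21, mul_assoc]

theorem d3sort_20_17 (t u : K) : xg K 20 u * xg K 17 t = xg K 17 t * xg K 20 u :=
  (d4gcomm_nil 17 20 (by decide) (by decide) (by decide) (by decide) (by decide +kernel) t u).symm

theorem d3sort_20_17' (t u : K) (Z : GL chevD4.Idx K) :
    xg K 20 u * (xg K 17 t * Z) = xg K 17 t * (xg K 20 u * Z) := by
  rw [← mul_assoc, d3sort_20_17, mul_assoc]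

theorem d3sort_22_17 (t u : K) : xg K 22 u * xg K 17 t = xg K 17 t * xg K 22 u :=
  (d4gcomm_nil 17 22 (by decide) (by decide) (by decide) (by decide) (by decide +kernel) t u).symm

theorem d3sort_22_17' (t u : K) (Z : GL chevD4.Idx K) :
    xg K 22 u * (xg K 17 t * Z) = xg K 17 t * (xg K 22 u * Z) := by
  rw [← mul_assoc, d3sort_22_17, mul_assoc]

theorem d3sort_23_17 (t u : K) : xg K 23 u * xg K 17 t = xg K 17 t * xg K 23 u :=
  (d4gcomm_nil 17 23 (by decide) (by decide) (by decide) (by decide) (by decide +kernel) t u).symm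

theorem d3sort_23_17' (t u : K) (Z : GL chevD4.Idx K) :
    xg K 23 u * (xg K 17 t * Z) = xg K 17 t * (xg K 23 u * Z) := by
  rw [← mul_assoc, d3sort_23_17, mul_assoc]

theorem d3sort_22_20 (t u : K) : xg K 22 u * xg K 20 t = xg K 20 t * xg K 22 u :=
  (d4gcomm_nil 20 22 (by decide) (by decide) (by decide) (by decide) (by decide +kernel) t u).symm

theorem d3sort_22_20' (t u : K) (Z : GL chevD4.Idx K) :
    xg K 22 u * (xg K 20 t * Z) = xg K 20 t * (xg K 22 u * Z) := by
  rw [← mul_assoc, d3sort_22_20, mul_assoc]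

theorem d3sort_23_20 (t u : K) : xg K 23 u * xg K 20 t = xg K 20 t * xg K 23 u :=
  (d4gcomm_nil 20 23 (by decide) (by decide) (by decide) (by decide) (by decide +kernel) t u).symm

theorem d3sort_23_20' (t u : K) (Z : GL chevD4.Idx K) :
    xg K 23 u * (xg K 20 t * Z) = xg K 20 t * (xg K 23 u * Z) := by
  rw [← mul_assoc, d3sort_23_20, mul_assoc]

theorem d3sort_23_22 (t u : K) : xg K 23 u * xg K 22 t = xg K 22 t * xg K 23 u :=
  (d4gcomm_nil 22 23 (by decide) (by decide) (by decide) (by decide) (by decide +kernel) t u).symm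

theorem d3sort_23_22' (t u : K) (Z : GL chevD4.Idx K) :
    xg K 23 u * (xg K 22 t * Z) = xg K 22 t * (xg K 23 u * Z) := by
  rw [← mul_assoc, d3sort_23_22, mul_assoc]

end Cfsg.Agent.Lib.Helper12.D3
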