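import Mathlib

/-! # D4g hive (S2407, helper75): leaf D4G-NT `exists_gen` (Mathlib only) -/

set_option autoImplicit false

namespace Cfsg.Agent.Lib.Helper75.D4g

/-- `gcd(q² + q - 1, q³ - 1) = 1` -/
theorem d4gnt_coprime (q : ℕ) (hq : 2 ≤ q) : Nat.Coprime (q ^ 2 + q - 1) (q ^ 3 - 1) := by
  have h1 : 1 ≤ q ^ 2 + q := by nlinarith
  have h3 : 1 ≤ q ^ 3 := Nat.one_le_pow _ _ (by omega)
  set d := Nat.gcd (q ^ 2 + q - 1) (q ^ 3 - 1) with hd
  have hda : (d : ℤ) ∣ (q : ℤ) ^ 2 + q - 1 := by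
    have := Nat.gcd_dvd_left (q ^ 2 + q - 1) (q ^ 3 - 1)
    have h := Int.natCast_dvd_natCast.2 this
    rw [← hd] at h
    push_cast [Nat.cast_sub h1] at h
    exact h
  have hdN : (d : ℤ) ∣ (q : ℤ) ^ 3 - 1 := by
    have := Nat.gcd_dvd_right (q ^ 2 + q - 1) (q ^ 3 - 1)
    have h := Int.natCast_dvd_natCast.2 this
    rw [← hd] at h
    push_cast [Nat.cast_sub h3] at h
    exact h
  -- `d ∣ 2 (q - 1)`
  have h2 : (d : ℤ) ∣ 2 * ((q : ℤ) - 1) := by
    have : 2 * ((q : ℤ) - 1) = ((q : ℤ) ^ 3 - 1) - ((q : ℤ) ^ 2 + q - 1) * (q - 1) := by ring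
    rw [this]
    exact dvd_sub hdN (Dvd.dvd.mul_right hda _)
  -- `d` is odd
  have hodd : IsCoprime (d : ℤ) 2 := by
    rw [Int.isCoprime_iff_gcd_eq_one]
    have hg : Int.gcd (d : ℤ) 2 ∣ 2 := by
      have := Int.gcd_dvd_right (d : ℤ) 2
      exact Int.natCast_dvd_natCast.1 (by simpa using this)
    rcases (Nat.dvd_prime Nat.prime_two).1 hg with h | h
    · exact h
    · exfalso
      have h2d : (2 : ℤ) ∣ d := by
        have := Int.gcd_dvd_left (d : ℤ) 2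
        rw [h] at this
        exact_mod_cast this
      have h2a : (2 : ℤ) ∣ (q : ℤ) ^ 2 + q - 1 := h2d.trans hda
      have hev : (2 : ℤ) ∣ (q : ℤ) ^ 2 + q := by
        have : (q : ℤ) ^ 2 + q = q * (q + 1) := by ring
        rw [this]
        exact (Int.even_mul_succ_self (q : ℤ)).two_dvd
      have : (2 : ℤ) ∣ 1 := by
        have := dvd_sub hev h2a
        have e : (q : ℤ) ^ 2 + q - ((q : ℤ) ^ 2 + q - 1) = 1 := by ring
        rwa [e] at this
      omega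
  have h3' : (d : ℤ) ∣ (q : ℤ) - 1 := hodd.dvd_of_dvd_mul_left h2
  have h4 : (d : ℤ) ∣ 1 := by
    have : (1 : ℤ) = ((q : ℤ) ^ 2 + q - 1) - ((q : ℤ) - 1) * (q + 2) := by ring
    rw [this]
    exact dvd_sub hda (Dvd.dvd.mul_right h3' _)
  have h5 : d ∣ 1 := by exact_mod_cast h4
  exact Nat.dvd_one.1 h5

/-- D4G-NT: a generator `z` of `Kˣ` with `c₁ = z⁻¹ z^q z^(q²)` again a generator. -/
theorem exists_gen {K : Type*} [Field K] [Fintype K] {q : ℕ} (hq : IsPrimePow q) (hK : Fintype.card K = q ^ 3) :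
    ∃ z : K, z ≠ 0 ∧ z ^ 2 ≠ 1 ∧ z⁻¹ * z ^ q * z ^ (q ^ 2) ≠ 1 ∧
      ∀ t : K, t ≠ 0 → ∃ k : ℕ, t = (z⁻¹ * z ^ q * z ^ (q ^ 2)) ^ k := by
  classical
  have hq2 : 2 ≤ q := hq.two_le
  have h8 : 8 ≤ q ^ 3 := by
    calc 8 = 2 ^ 3 := by norm_num
      _ ≤ q ^ 3 := Nat.pow_le_pow_left hq2 3
  obtain ⟨g, hg⟩ := IsCyclic.exists_generator (α := Kˣ)
  have hord : orderOf g = q ^ 3 - 1 := by
    rw [orderOf_eq_card_of_forall_mem_zpowers hg, Nat.card_eq_fintype_card, Fintype.card_units, hK]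
  set a := q ^ 2 + q - 1 with ha
  have ha1 : a + 1 = q + q ^ 2 := by
    have : 1 ≤ q ^ 2 + q := by nlinarith
    omega
  have hcop : (orderOf g).Coprime a := by
    rw [hord]
    exact (d4gnt_coprime q hq2).symm
  have hordc : orderOf (g ^ a) = q ^ 3 - 1 := by
    rw [hcop.orderOf_pow, hord]
  -- the field element
  have hz0 : (g : K) ≠ 0 := Units.ne_zero g
  have hc : ((g ^ a : Kˣ) : K) = (g : K)⁻¹ * (g : K) ^ q * (g : K) ^ (q ^ 2) := by
    rw [Units.val_pow_eq_pow_val]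
    have e : (g : K) * (g : K) ^ a = (g : K) ^ q * (g : K) ^ (q ^ 2) := by
      rw [← pow_succ', ha1, pow_add]
    rw [mul_assoc, ← e, ← mul_assoc, inv_mul_cancel₀ hz0, one_mul]
  refine ⟨(g : K), hz0, ?_, ?_, ?_⟩
  · intro h
    have h' : g ^ 2 = 1 := Units.ext (by rw [Units.val_pow_eq_pow_val, h]; rfl)
    have hdvd := orderOf_dvd_of_pow_eq_one h'
    rw [hord] at hdvd
    have := Nat.le_of_dvd (by norm_num) hdvd
    omega
  · rw [← hc]
    intro h
    have h' : g ^ a = 1 := Units.ext (by rw [h]; rfl)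
    rw [h', orderOf_one] at hordc
    omega
  · intro t ht
    rw [← hc]
    have htop : Subgroup.zpowers (g ^ a) = ⊤ := by
      apply Subgroup.eq_top_of_card_eq
      rw [Nat.card_zpowers, hordc, Nat.card_eq_fintype_card, Fintype.card_units, hK]
    have hmem : Units.mk0 t ht ∈ Subgroup.zpowers (g ^ a) := by rw [htop]; trivial
    rw [← mem_powers_iff_mem_zpowers] at hmem
    obtain ⟨k, hk⟩ := (Submonoid.mem_powers_iff _ _).1 hmem
    refine ⟨k, ?_⟩
    have h := congrArg (fun u : Kˣ => (u : K)) hk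
    simp only [Units.val_pow_eq_pow_val, Units.val_mk0] at h
    exact h.symm

end Cfsg.Agent.Lib.Helper75.D4g
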