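import Mathlib

/-! # D4g hive (S2407, helper75): leaf D4G-TR `exists_trace` (Mathlib only) -/

set_option autoImplicit false

namespace Cfsg.Agent.Lib.Helper75.D4g

open Polynomial

/-- a finite set of roots of a non-zero polynomial has at most `natDegree` elements -/
theorem d4gtr_card_le {K : Type*} [Field K] [DecidableEq K] (P : K[X]) (hP : P ≠ 0) (S : Finset K)
    (hS : ∀ x ∈ S, P.eval x = 0) : S.card ≤ P.natDegree :=
  calc S.card ≤ P.roots.toFinset.card :=
        Finset.card_le_card (fun x hx => by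
          rw [Multiset.mem_toFinset, Polynomial.mem_roots hP]; exact hS x hx)
    _ ≤ Multiset.card P.roots := Multiset.toFinset_card_le _
    _ ≤ P.natDegree := Polynomial.card_roots' P

/-- D4G-TR: the trace `t + t^q + t^(q²)` maps `K` onto the fixed field of `φ`. -/
theorem exists_trace {K : Type*} [Field K] [Fintype K] {q : ℕ} (hq : IsPrimePow q) (hK : Fintype.card K = q ^ 3)
    (φ : K →+* K) (hφ : ∀ t : K, φ t = t ^ q) (s : K) (hs : φ s = s) : ∃ t : K, t + φ t + φ (φ t) = s := by
  classical
  have hq2 : 2 ≤ q := hq.two_le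
  have hqq : q < q ^ 2 := by nlinarith
  have hfrob3 : ∀ t : K, φ (φ (φ t)) = t := by
    intro t
    rw [hφ, hφ, hφ, ← pow_mul, ← pow_mul]
    have : q * (q * q) = Fintype.card K := by rw [hK]; ring
    rw [this, FiniteField.pow_card]
  let f : K →+ K := AddMonoidHom.id K + φ.toAddMonoidHom + (φ.comp φ).toAddMonoidHom
  have hf : ∀ t, f t = t + φ t + φ (φ t) := fun t => rfl
  -- the two polynomials
  have hP1 : (X ^ q - X : K[X]) ≠ 0 := FiniteField.X_pow_card_sub_X_ne_zero K (by omega)
  have hP1d : (X ^ q - X : K[X]).natDegree = q := FiniteField.X_pow_card_sub_X_natDegree_eq K (by omega)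
  have hP2d : (X ^ (q ^ 2) + (X ^ q + X) : K[X]).natDegree = q ^ 2 := by
    rw [natDegree_add_eq_left_of_natDegree_lt, natDegree_X_pow]
    rw [natDegree_X_pow]
    calc (X ^ q + X : K[X]).natDegree ≤ max (X ^ q : K[X]).natDegree (X : K[X]).natDegree :=
          natDegree_add_le _ _
      _ ≤ q := by rw [natDegree_X_pow, natDegree_X]; exact max_le le_rfl (by omega)
      _ < q ^ 2 := hqq
  have hP2 : (X ^ (q ^ 2) + (X ^ q + X) : K[X]) ≠ 0 := by
    intro h
    rw [h, natDegree_zero] at hP2d
    have : 0 < q ^ 2 := by positivity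
    omega
  -- the kernel is small
  have hker : Nat.card f.ker ≤ q ^ 2 := by
    rw [Nat.card_eq_fintype_card, Fintype.card_subtype]
    refine (d4gtr_card_le _ hP2 _ ?_).trans hP2d.le
    intro t ht
    rw [Finset.mem_filter] at ht
    have h0 : f t = 0 := AddMonoidHom.mem_ker.1 ht.2
    rw [hf, hφ, hφ, ← pow_mul] at h0
    rw [eval_add, eval_add, eval_pow, eval_pow, eval_X, sq]
    rw [← h0]; ring
  -- the range lies in the fixed field, which is small
  have hsub : (Finset.univ.filter (fun x : K => x ∈ f.range)) ⊆ Finset.univ.filter (fun x : K => x ^ q = x) := by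
    intro x hx
    rw [Finset.mem_filter] at hx ⊢
    obtain ⟨t, rfl⟩ := AddMonoidHom.mem_range.1 hx.2
    refine ⟨Finset.mem_univ _, ?_⟩
    rw [← hφ, hf, map_add, map_add, hfrob3]
    ring
  have hL : (Finset.univ.filter (fun x : K => x ^ q = x)).card ≤ q := by
    refine (d4gtr_card_le _ hP1 _ ?_).trans hP1d.le
    intro x hx
    rw [Finset.mem_filter] at hx
    rw [eval_sub, eval_pow, eval_X, hx.2, sub_self]
  have hmul : Nat.card f.ker * Nat.card f.range = q ^ 3 := by
    rw [← AddSubgroup.index_ker, AddSubgroup.card_mul_index, Nat.card_eq_fintype_card, hK]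
  have hR : q ≤ (Finset.univ.filter (fun x : K => x ∈ f.range)).card := by
    rw [← Fintype.card_subtype, ← Nat.card_eq_fintype_card]
    by_contra hlt
    rw [not_le] at hlt
    have h1 : Nat.card f.ker * Nat.card f.range ≤ q ^ 2 * Nat.card f.range := Nat.mul_le_mul_right _ hker
    have hpos : 0 < q ^ 2 := by positivity
    have h2 : q ^ 2 * Nat.card f.range < q ^ 2 * q := Nat.mul_lt_mul_of_pos_left hlt hpos
    have h3 : q ^ 2 * q = q ^ 3 := by ring
    omega
  have heq := Finset.eq_of_subset_of_card_le hsub (hL.trans hR)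
  have hsL : s ∈ Finset.univ.filter (fun x : K => x ^ q = x) := by
    rw [Finset.mem_filter]
    exact ⟨Finset.mem_univ _, by rw [← hφ]; exact hs⟩
  rw [← heq, Finset.mem_filter] at hsL
  obtain ⟨t, ht⟩ := AddMonoidHom.mem_range.1 hsL.2
  exact ⟨t, ht⟩

end Cfsg.Agent.Lib.Helper75.D4g
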