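import Mathlib
import Cfsg.Agent.Lib.Helper35.TwoGroupAut
import Cfsg.Agent.Lib.Helper33.SylowSub

set_option autoImplicit false

namespace Cfsg.Agent.Lib.Helper35

open Subgroup
open Cfsg.Agent.Lib.Helper33

section
variable {X : Type*} [Group X]

/-- conjugation by a normalizing element, as an automorphism of the subgroup -/
def normConjAut (Q : Subgroup X) (g : X) (hg : g ∈ normalizer (Q : Set X)) : MulAut Q where
  toFun q := ⟨g * q * g⁻¹, (mem_normalizer_iff.mp hg q).mp q.2⟩
  invFun q := ⟨g⁻¹ * q * g, by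
    have := (mem_normalizer_iff.mp (inv_mem hg) q).mp q.2
    simpa using this⟩
  left_inv q := by apply Subtype.ext; simp [mul_assoc]
  right_inv q := by apply Subtype.ext; simp [mul_assoc]
  map_mul' a b := by apply Subtype.ext; simp [mul_assoc]

theorem normConjAut_pow (Q : Subgroup X) (g : X) (hg : g ∈ normalizer (Q : Set X)) (k : ℕ)
    (q : Q) : (((normConjAut Q g hg) ^ k) q : X) = g ^ k * q * (g ^ k)⁻¹ := by
  induction k generalizing q with
  | zero => simp
  | succ k ih =>
    rw [pow_succ, MulAut.mul_apply, ih]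
    show g ^ k * (g * q * g⁻¹) * (g ^ k)⁻¹ = _
    rw [pow_succ]; group

theorem mem_centralizer_of_normConjAut_eq_one (Q : Subgroup X) (g : X)
    (hg : g ∈ normalizer (Q : Set X)) (h : normConjAut Q g hg = 1) :
    g ∈ centralizer (Q : Set X) := by
  rw [mem_centralizer_iff]
  intro q hq
  have := congrArg (fun β : MulAut Q => ((β ⟨q, hq⟩ : Q) : X)) h
  simp only [MulAut.one_apply] at this
  have h5 : g * q * g⁻¹ = q := this
  calc q * g = (g * q * g⁻¹) * g := by rw [h5]
    _ = g * q := by group

/-- An element of odd order normalizing a cyclic `2`-subgroup centralizes it. -/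
theorem mem_centralizer_of_cyclic [Finite X] (Q : Subgroup X) (hQ : IsPGroup 2 Q) (c : X)
    (hc : zpowers c = Q) (g : X) (hg : g ∈ normalizer (Q : Set X)) (m : ℕ) (hm : g ^ m = 1)
    (hm2 : m.Coprime 2) : g ∈ centralizer (Q : Set X) := by
  apply mem_centralizer_of_normConjAut_eq_one Q g hg
  have hcQ : c ∈ Q := by rw [← hc]; exact mem_zpowers c
  refine mulAut_eq_one_of_cyclic hQ ⟨c, hcQ⟩ ?_ _ m ?_ hm2
  · rw [eq_top_iff]
    intro z _
    have hz : (z : X) ∈ zpowers c := by rw [hc]; exact z.2
    obtain ⟨k, hk⟩ := mem_zpowers_iff.mp hz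
    exact mem_zpowers_iff.mpr ⟨k, Subtype.ext (by simpa using hk)⟩
  · ext q
    rw [normConjAut_pow, hm]; simp

/-- Stability: if `d = u⁻¹ (g u g⁻¹)` is a `2`-element commuting with the odd order element `g`
then `d = 1`. -/
theorem stability_aux (g u : X) (m k : ℕ) (hm : g ^ m = 1) (hm2 : m.Coprime 2)
    (hd : (u⁻¹ * (g * u * g⁻¹)) ^ 2 ^ k = 1)
    (hcomm : g * (u⁻¹ * (g * u * g⁻¹)) = (u⁻¹ * (g * u * g⁻¹)) * g) :
    g * u * g⁻¹ = u := by
  set d := u⁻¹ * (g * u * g⁻¹) with hddef
  have hgu : g * u * g⁻¹ = u * d := by rw [hddef]; group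
  have hgd : g * d * g⁻¹ = d := by rw [hcomm]; group
  have key : ∀ j : ℕ, g ^ j * u * (g ^ j)⁻¹ = u * d ^ j := by
    intro j
    induction j with
    | zero => simp
    | succ j ih =>
      have e1 : g ^ (j + 1) * u * (g ^ (j + 1))⁻¹ = g * (g ^ j * u * (g ^ j)⁻¹) * g⁻¹ := by
        rw [pow_succ']; group
      rw [e1, ih]
      have e2 : g * (u * d ^ j) * g⁻¹ = (g * u * g⁻¹) * (g * d * g⁻¹) ^ j := by
        rw [conj_pow]; group
      rw [e2, hgu, hgd, pow_succ']; group
  have h1 := key m
  rw [hm] at h1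
  have hdm : d ^ m = 1 := by
    have : u * d ^ m = u * 1 := by rw [← h1]; simp
    exact mul_left_cancel this
  have h2 : orderOf d ∣ Nat.gcd m (2 ^ k) :=
    Nat.dvd_gcd (orderOf_dvd_of_pow_eq_one hdm) (orderOf_dvd_of_pow_eq_one hd)
  rw [(hm2.pow_right k).gcd_eq_one, Nat.dvd_one, orderOf_eq_one_iff] at h2
  rw [hgu, h2, mul_one]

end

section main
variable {X : Type*} [Group X] [Finite X]

/-- **Subgroups of dihedral-like `2`-groups**: Let `S` be a `2`-subgroup with a cyclic subgroup
`R` such that all elements of `S` outside `R` are involutions. If `g` has odd order and normalizes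
`Q ≤ S`, then `g` centralizes `Q`, unless `Q` is a four-group. -/
theorem mem_centralizer_of_dihedralLike (S R : Subgroup X) (hS : IsPGroup 2 S) (hRS : R ≤ S)
    (r : X) (hr : zpowers r = R) (hout : ∀ t ∈ S, t ∉ R → t ^ 2 = 1)
    (hidx : R.relIndex S ≤ 2)
    (Q : Subgroup X) (hQS : Q ≤ S) (g : X) (hg : g ∈ normalizer (Q : Set X)) (m : ℕ)
    (hm : g ^ m = 1) (hm2 : m.Coprime 2)
    (hK : IsKleinFour Q → g ∈ centralizer (Q : Set X)) : g ∈ centralizer (Q : Set X) := by
  have hQ : IsPGroup 2 Q := hS.to_le hQS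
  -- `C = Q ⊓ R` is cyclic
  set C := Q ⊓ R with hCdef
  have hCcyc : IsCyclic C := by
    have hRcyc : IsCyclic R := by
      rw [← hr]; infer_instance
    have : IsCyclic (C.subgroupOf R) := inferInstance
    exact (subgroupOfEquivOfLe (inf_le_right : C ≤ R)).isCyclic.mp this
  obtain ⟨c, hcgen⟩ := hCcyc.exists_generator
  have hcC : (c : X) ∈ C := c.2
  have hzc : zpowers (c : X) = C := by
    apply le_antisymm
    · exact zpowers_le.mpr hcC
    · intro z hz
      obtain ⟨k, hk⟩ := mem_zpowers_iff.mp (hcgen ⟨z, hz⟩)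
      exact mem_zpowers_iff.mpr ⟨k, by simpa using congrArg Subtype.val hk⟩
  by_cases hQR : Q ≤ R
  · -- `Q` is cyclic
    have hCQ : C = Q := inf_eq_left.mpr hQR
    exact mem_centralizer_of_cyclic Q hQ (c : X) (by rw [hzc, hCQ]) g hg m hm hm2
  -- `C` has index `2` in `Q`
  have hrelle : C.relIndex Q ≤ 2 := by
    rw [hCdef, inf_comm, inf_relIndex_right]
    refine le_trans (relIndex_le_of_le_right hQS ?_) hidx
    intro h0
    have h1 := relIndex_mul_relIndex (⊥ : Subgroup X) R S bot_le hRS
    rw [h0, mul_zero, relIndex_bot_left] at h1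
    exact (Nat.card_pos (α := S)).ne' h1.symm
  have hrel : C.relIndex Q = 2 := by
    have h1 : C.relIndex Q ≠ 1 := by
      rw [Ne, relIndex_eq_one]
      intro h
      exact hQR (h.trans inf_le_right)
    have h0 : C.relIndex Q ≠ 0 := by
      intro h0
      have h1 := relIndex_mul_relIndex (⊥ : Subgroup X) C Q bot_le inf_le_left
      rw [h0, mul_zero, relIndex_bot_left] at h1
      exact (Nat.card_pos (α := Q)).ne' h1.symm
    omega
  have hcardQ : Nat.card Q = 2 * Nat.card C := by
    have h1 := relIndex_mul_relIndex (⊥ : Subgroup X) C Q bot_le inf_le_left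
    rw [relIndex_bot_left, relIndex_bot_left, hrel] at h1
    omega
  by_cases hC3 : 3 ≤ Nat.card C
  · -- `g` normalizes `C`
    have hord : orderOf (c : X) = Nat.card C := by
      rw [← Nat.card_zpowers]; exact congrArg (fun K : Subgroup X => Nat.card K) hzc
    have hgc : g * c * g⁻¹ ∈ C := by
      have hgcQ : g * c * g⁻¹ ∈ Q := (mem_normalizer_iff.mp hg _).mp hcC.1
      refine ⟨hgcQ, ?_⟩
      by_contra hnR
      have h2 := hout _ (hQS hgcQ) hnR
      rw [conj_pow] at h2
      have h3 : (c : X) ^ 2 = 1 := by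
        have : (c : X) ^ 2 = g⁻¹ * (g * (c : X) ^ 2 * g⁻¹) * g := by group
        rw [this, h2]; group
      have := orderOf_le_of_pow_eq_one (by norm_num) h3
      omega
    have hgC : g ∈ normalizer (C : Set X) := by
      rw [← cj_eq_self_iff]
      apply Subgroup.eq_of_le_of_card_ge
      · intro z hz
        rw [mem_cj] at hz
        rw [← hzc] at hz
        obtain ⟨k, hk⟩ := mem_zpowers_iff.mp hz
        have : z = (g * c * g⁻¹) ^ k := by
          rw [conj_zpow, hk]; group
        rw [this]
        exact zpow_mem hgc k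
      · rw [card_cj]
    have hgcen : g ∈ centralizer (C : Set X) :=
      mem_centralizer_of_cyclic C (hQ.to_le inf_le_left) (c : X) hzc g hgC m hm hm2
    rw [mem_centralizer_iff]
    intro u hu
    suffices h : g * u * g⁻¹ = u by
      calc u * g = (g * u * g⁻¹) * g := by rw [h]
        _ = g * u := by group
    by_cases huC : u ∈ C
    · have := (mem_centralizer_iff.mp hgcen) u huC
      rw [← this]; group
    · -- `d = u⁻¹ (g u g⁻¹) ∈ C`
      have hguQ : g * u * g⁻¹ ∈ Q := (mem_normalizer_iff.mp hg _).mp hu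
      have hguC : g * u * g⁻¹ ∉ C := by
        intro h
        apply huC
        have := (mem_normalizer_iff.mp (inv_mem hgC) _).mp h
        simpa [mul_assoc] using this
      have hdC : u⁻¹ * (g * u * g⁻¹) ∈ C := by
        have hidx2 : (C.subgroupOf Q).index = 2 := hrel
        have := mul_mem_iff_of_index_two hidx2 (a := (⟨u⁻¹, inv_mem hu⟩ : Q))
          (b := ⟨g * u * g⁻¹, hguQ⟩)
        rw [mem_subgroupOf, mem_subgroupOf, mem_subgroupOf] at this
        simp only [Subgroup.coe_mul] at this
        rw [this]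
        constructor
        · intro h; exact absurd (by simpa using inv_mem h) huC
        · intro h; exact absurd h hguC
      obtain ⟨k, hk⟩ := (hQ.to_le inf_le_left) ⟨_, hdC⟩
      have hk' : (u⁻¹ * (g * u * g⁻¹)) ^ 2 ^ k = 1 := by
        simpa using congrArg Subtype.val hk
      have hcomm := (mem_centralizer_iff.mp hgcen) _ hdC
      exact stability_aux g u m k hm hm2 hk' hcomm.symm
  · -- `|C| ≤ 2`: all elements of `Q` are involutions
    have hsq : ∀ u ∈ Q, u ^ 2 = 1 := by
      intro u hu
      by_cases huR : u ∈ R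
      · have huC : u ∈ C := ⟨hu, huR⟩
        have h1 : (⟨u, huC⟩ : C) ^ Nat.card C = 1 := pow_card_eq_one'
        have h1' : u ^ Nat.card C = 1 := by
          have := congrArg Subtype.val h1
          rwa [Subgroup.coe_pow, Subgroup.coe_one] at this
        have hpos : 0 < Nat.card C := Nat.card_pos
        have : Nat.card C = 1 ∨ Nat.card C = 2 := by omega
        rcases this with h | h
        · rw [h, pow_one] at h1'; rw [h1', one_pow]
        · rwa [h] at h1'
      · exact hout u (hQS hu) huR
    have hpos : 0 < Nat.card C := Nat.card_pos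
    have hcases : Nat.card C = 1 ∨ Nat.card C = 2 := by omega
    rcases hcases with h1 | h2
    · -- `|Q| = 2`: cyclic
      have hQ2 : Nat.card Q = 2 := by rw [hcardQ, h1]
      have : Fact (Nat.Prime 2) := ⟨Nat.prime_two⟩
      have hcyc : IsCyclic Q := isCyclic_of_prime_card hQ2
      obtain ⟨q, hqgen⟩ := hcyc.exists_generator
      have hzq : zpowers (q : X) = Q := by
        apply le_antisymm
        · exact zpowers_le.mpr q.2
        · intro z hz
          obtain ⟨k, hk⟩ := mem_zpowers_iff.mp (hqgen ⟨z, hz⟩)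
          exact mem_zpowers_iff.mpr ⟨k, by simpa using congrArg Subtype.val hk⟩
      exact mem_centralizer_of_cyclic Q hQ (q : X) hzq g hg m hm hm2
    · -- Klein four
      apply hK
      refine ⟨by rw [hcardQ, h2], ?_⟩
      have hdvd : Monoid.exponent Q ∣ 2 := by
        apply Monoid.exponent_dvd_of_forall_pow_eq_one
        intro u
        exact Subtype.ext (by simpa using hsq u u.2)
      have hne : Monoid.exponent Q ≠ 1 := by
        intro h
        have hsub : Subsingleton Q := Monoid.exp_eq_one_iff.mp h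
        have : Nat.card Q = 1 := Nat.card_eq_one_iff_unique.mpr ⟨hsub, ⟨1⟩⟩
        omega
      rcases (Nat.dvd_prime Nat.prime_two).mp hdvd with h | h
      · exact absurd h hne
      · exact h

end main

end Cfsg.Agent.Lib.Helper35
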