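import Cfsg.Agent.Lib.Helper83.EzDefs
import Cfsg.Agent.Lib.Helper35.Ez_TBASICchk
import Cfsg.Prelude.Def_ChevE7
import Cfsg.Prelude.Def_ChevE6

/-! # Ez hive (helper83), leaves T7-BASIC + T6-BASIC (helper35): `TabBasic chevE7`, `TabBasic chevE6` by the generic
checker `ezb_rng` (rows in blocks of 9, one kernel evaluation per block to keep the memory small) -/

set_option autoImplicit false

universe u v

namespace Cfsg.Agent.Lib.Helper83.Ez

open Cfsg Cfsg.Lie Cfsg.Agent.Lib.Helper36 Cfsg.Agent.Lib.Helper18 Cfsg.Agent.Lib.Helper76.E8m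

theorem ezb_E7_r0 : ezb_rng chevE7 0 9 = true := by decide +kernel
theorem ezb_E7_r1 : ezb_rng chevE7 9 18 = true := by decide +kernel
theorem ezb_E7_r2 : ezb_rng chevE7 18 27 = true := by decide +kernel
theorem ezb_E7_r3 : ezb_rng chevE7 27 36 = true := by decide +kernel
theorem ezb_E7_r4 : ezb_rng chevE7 36 45 = true := by decide +kernel
theorem ezb_E7_r5 : ezb_rng chevE7 45 54 = true := by decide +kernel
theorem ezb_E7_r6 : ezb_rng chevE7 54 63 = true := by decide +kernel
theorem ezb_E7_r7 : ezb_rng chevE7 63 72 = true := by decide +kernel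
theorem ezb_E7_r8 : ezb_rng chevE7 72 81 = true := by decide +kernel
theorem ezb_E7_r9 : ezb_rng chevE7 81 90 = true := by decide +kernel
theorem ezb_E7_r10 : ezb_rng chevE7 90 99 = true := by decide +kernel
theorem ezb_E7_r11 : ezb_rng chevE7 99 108 = true := by decide +kernel
theorem ezb_E7_r12 : ezb_rng chevE7 108 117 = true := by decide +kernel
theorem ezb_E7_r13 : ezb_rng chevE7 117 126 = true := by decide +kernel
theorem ezb_E7_all : ezb_rng chevE7 0 126 = true :=
  ezb_rng_append chevE7 0 117 126 (ezb_rng_append chevE7 0 108 117 (ezb_rng_append chevE7 0 99 108 (ezb_rng_append chevE7 0 90 99 (ezb_rng_append chevE7 0 81 90 (ezb_rng_append chevE7 0 72 81 (ezb_rng_append chevE7 0 63 72 (ezb_rng_append chevE7 0 54 63 (ezb_rng_append chevE7 0 45 54 (ezb_rng_append chevE7 0 36 45 (ezb_rng_append chevE7 0 27 36 (ezb_rng_append chevE7 0 18 27 (ezb_rng_append chevE7 0 9 18 (ezb_E7_r0) ezb_E7_r1) ezb_E7_r2) ezb_E7_r3) ezb_E7_r4) ezb_E7_r5) ezb_E7_r6) ezb_E7_r7)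 ezb_E7_r8) ezb_E7_r9) ezb_E7_r10) ezb_E7_r11) ezb_E7_r12) ezb_E7_r13
theorem ezb_E7_neg : ezb_neg chevE7 = true := by decide +kernel
theorem ezb_E7_size : chevE7.chain.size ≤ 126 := by decide +kernel

theorem ezb_E6_r0 : ezb_rng chevE6 0 9 = true := by decide +kernel
theorem ezb_E6_r1 : ezb_rng chevE6 9 18 = true := by decide +kernel
theorem ezb_E6_r2 : ezb_rng chevE6 18 27 = true := by decide +kernel
theorem ezb_E6_r3 : ezb_rng chevE6 27 36 = true := by decide +kernel
theorem ezb_E6_r4 : ezb_rng chevE6 36 45 = true := by decide +kernel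
theorem ezb_E6_r5 : ezb_rng chevE6 45 54 = true := by decide +kernel
theorem ezb_E6_r6 : ezb_rng chevE6 54 63 = true := by decide +kernel
theorem ezb_E6_r7 : ezb_rng chevE6 63 72 = true := by decide +kernel
theorem ezb_E6_all : ezb_rng chevE6 0 72 = true :=
  ezb_rng_append chevE6 0 63 72 (ezb_rng_append chevE6 0 54 63 (ezb_rng_append chevE6 0 45 54 (ezb_rng_append chevE6 0 36 45 (ezb_rng_append chevE6 0 27 36 (ezb_rng_append chevE6 0 18 27 (ezb_rng_append chevE6 0 9 18 (ezb_E6_r0) ezb_E6_r1) ezb_E6_r2) ezb_E6_r3) ezb_E6_r4) ezb_E6_r5) ezb_E6_r6) ezb_E6_r7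
theorem ezb_E6_neg : ezb_neg chevE6 = true := by decide +kernel
theorem ezb_E6_size : chevE6.chain.size ≤ 72 := by decide +kernel

/-- T7-BASIC -/
theorem tabBasic_E7 : TabBasic chevE7 := ezb_spec chevE7 126 ezb_E7_size ezb_E7_all ezb_E7_neg

/-- T6-BASIC -/
theorem tabBasic_E6 : TabBasic chevE6 := ezb_spec chevE6 72 ezb_E6_size ezb_E6_all ezb_E6_neg

end Cfsg.Agent.Lib.Helper83.Ez
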