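import Cfsg.Agent.Lib.Helper83.FpDefs

set_option autoImplicit false

/-!
# Fp hive (S2276, owner helper83): glue leaf FP-MAIN `main_of`
-/

namespace Cfsg.Agent.Lib.Helper83.Fp

open Equiv

/-- a non-identity permutation has a longest cycle. -/
theorem fpmain_exists_max {n : ℕ} (U : Perm (Fin n)) (hU : U ≠ 1) :
    ∃ k ∈ U.cycleType, ∀ x ∈ U.cycleType, x ≤ k := by
  have hne : U.cycleType.toFinset.Nonempty := by
    rw [Finset.nonempty_iff_ne_empty, Ne, Multiset.toFinset_eq_empty, Perm.cycleType_eq_zero]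
    exact hU
  obtain ⟨k, hk, hmax⟩ := Finset.exists_max_image U.cycleType.toFinset id hne
  exact ⟨k, Multiset.mem_toFinset.1 hk, fun x hx => hmax x (Multiset.mem_toFinset.2 hx)⟩

/-- a `p`-power `≥ p ≥ 3` below `5` is `3`, and `p = 3`. -/
theorem fpmain_small {p : ℕ} (hp : p.Prime) (hp3 : 3 ≤ p) {x i : ℕ} (hi : 1 ≤ i) (hx : x = p ^ i)
    (h5 : x < 5) : p = 3 ∧ x = 3 := by
  have hpx : p ≤ x := by
    rw [hx]
    calc p = p ^ 1 := (pow_one p).symm
      _ ≤ p ^ i := Nat.pow_le_pow_right hp.pos hi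
  have hp34 : p = 3 ∨ p = 4 := by omega
  rcases hp34 with h3 | h4
  · subst h3
    refine ⟨rfl, ?_⟩
    rcases Nat.lt_or_ge i 2 with h | h
    · have : i = 1 := by omega
      rw [hx, this, pow_one]
    · have : 3 ^ 2 ≤ 3 ^ i := Nat.pow_le_pow_right (by norm_num) h
      omega
  · subst h4
    exact absurd hp (by decide)

/-- glue FP-MAIN -/
theorem main_of : PPStmt → SymStmt → CaseAStmt → CaseBStmt → MainStmt := by
  intro hPP hSym hA hB n hn p hp hp3 U W hU hW hoU hoW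
  have hppU := hPP p hp n U hoU
  have hppW := hPP p hp n W hoW
  obtain ⟨kU, hkU, hmaxU⟩ := fpmain_exists_max U hU
  obtain ⟨kW, hkW, hmaxW⟩ := fpmain_exists_max W hW
  by_cases h5 : 5 ≤ kU ∨ 5 ≤ kW
  · rcases le_total kW kU with hle | hle
    · have h5U : 5 ≤ kU := by omega
      exact hA p hp hp3 n U W hppU hppW hW kU hkU h5U (fun x hx => (hmaxW x hx).trans hle)
    · have h5W : 5 ≤ kW := by omega
      obtain ⟨g, hg, hgood⟩ :=
        hA p hp hp3 n W U hppW hppU hU kW hkW h5W (fun x hx => (hmaxU x hx).trans hle)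
      exact ⟨g⁻¹, (alternatingGroup (Fin n)).inv_mem hg, hSym p n U W g hgood⟩
  · rw [not_or, not_le, not_le] at h5
    obtain ⟨i, hi, hkUi⟩ := hppU kU hkU
    have hp3e : p = 3 := (fpmain_small hp hp3 hi hkUi h5.1).1
    subst hp3e
    have hU3 : ∀ x ∈ U.cycleType, x = 3 := by
      intro x hx
      obtain ⟨j, hj, hxj⟩ := hppU x hx
      exact (fpmain_small hp hp3 hj hxj (lt_of_le_of_lt (hmaxU x hx) h5.1)).2
    have hW3 : ∀ x ∈ W.cycleType, x = 3 := by
      intro x hx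
      obtain ⟨j, hj, hxj⟩ := hppW x hx
      exact (fpmain_small hp hp3 hj hxj (lt_of_le_of_lt (hmaxW x hx) h5.2)).2
    rcases le_total (Multiset.card W.cycleType) (Multiset.card U.cycleType) with hle | hle
    · exact hB n hn U W hU hW hU3 hW3 hle
    · obtain ⟨g, hg, hgood⟩ := hB n hn W U hW hU hW3 hU3 hle
      exact ⟨g⁻¹, (alternatingGroup (Fin n)).inv_mem hg, hSym 3 n U W g hgood⟩

end Cfsg.Agent.Lib.Helper83.Fp
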