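import Cfsg.Agent.Lib.Helper83.FpDefs

set_option autoImplicit false

/-!
# Fp hive (S2276, owner helper83): glue leaf FP-THMB `thmB_of`
-/

namespace Cfsg.Agent.Lib.Helper83.Fp

open Equiv

theorem fpthmb_rot_mem {m : ℕ} (d : Perm (Fin m)) : finRotate m ∈ Hcd d :=
  Subgroup.subset_closure (by simp)

/-- `CertT → Cert` -/
theorem fpthmb_certT (hThree : ThreeStmt) (p m : ℕ) (hm : Odd m) (d : Perm (Fin m)) (h : CertT p d) :
    Cert p d := by
  obtain ⟨hfix, t, ht, h3, hnc⟩ := h
  exact ⟨hfix, hThree m hm (Hcd d) (fpthmb_rot_mem d) t ht h3 hnc⟩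

/-- `CertR → CertT` -/
theorem fpthmb_certR (hRot : RotStmt) (p m : ℕ) (d : Perm (Fin m)) (h : CertR p d) : CertT p d := by
  obtain ⟨hfix, y, hy, r, L, h1, h2, h3, h4, h5⟩ := h
  exact ⟨hfix, hRot m (Hcd d) (fpthmb_rot_mem d) y hy r L h1 h2 h3 h4 h5⟩

/-- `CertO → CertT` -/
theorem fpthmb_certO (hComm : CommStmt) (p m : ℕ) (d : Perm (Fin m)) (h : CertO p d) : CertT p d := by
  obtain ⟨hfix, z₁, hz₁, z₂, hz₂, q, hq, hnc⟩ := h
  obtain ⟨h3, hsupp⟩ := hComm m z₁ z₂ q hq
  refine ⟨hfix, z₁ * z₂ * z₁⁻¹ * z₂⁻¹, ?_, h3, ?_⟩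
  · exact (Hcd d).mul_mem ((Hcd d).mul_mem ((Hcd d).mul_mem hz₁ hz₂) ((Hcd d).inv_mem hz₁))
      ((Hcd d).inv_mem hz₂)
  · rw [hsupp]
    exact hnc

theorem fpthmb_pos_of_ppows {p : ℕ} (hp : p.Prime) {t : Multiset ℕ} (ht : PPows p t) :
    ∀ x ∈ t, 0 < x := by
  intro x hx
  obtain ⟨i, _, rfl⟩ := ht x hx
  exact pow_pos hp.pos i

theorem fpthmb_eq_zero_of_sum {p : ℕ} (hp : p.Prime) {t : Multiset ℕ} (ht : PPows p t)
    (h0 : t.sum = 0) : t = 0 := by
  by_contra hne
  obtain ⟨x, hx⟩ := Multiset.exists_mem_of_ne_zero hne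
  have h1 := fpthmb_pos_of_ppows hp ht x hx
  have h2 : x ≤ t.sum := Multiset.single_le_sum (fun _ _ => Nat.zero_le _) x hx
  omega

/-- glue FP-THMB -/
theorem thmB_of : CommStmt → ThreeStmt → RotStmt → DecompStmt → B2Stmt → B3aStmt → B3bStmt → B3cStmt →
    S9aStmt → S9bStmt → ThmBStmt := by
  intro hComm hThree hRot hDecomp hB2 hB3a hB3b hB3c hS9a hS9b
  intro p hp hp3 a m hm hm5 s hs hs0 hsum hsm
  have hodd : Odd m := by
    rw [hm]
    apply Odd.pow
    rcases hp.eq_two_or_odd' with h2 | h2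
    · omega
    · exact h2
  obtain ⟨l, μ, t, hμ, hst, htl⟩ := hDecomp s hs0
  have hlmem : l ∈ s := by
    rw [hst, Multiset.mem_add, Multiset.mem_replicate]
    exact Or.inl ⟨by omega, rfl⟩
  have hsumeq : s.sum = μ * l + t.sum := by
    rw [hst, Multiset.sum_add, Multiset.sum_replicate, smul_eq_mul]
  have htpp : PPows p t := by
    intro x hx
    apply hs x
    rw [hst, Multiset.mem_add]
    exact Or.inr hx
  rcases Nat.lt_or_ge μ 2 with hμ1 | hμ2
  · -- μ = 1
    have hμeq : μ = 1 := by omega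
    subst hμeq
    have hs' : s = l ::ₘ t := by
      rw [hst, Multiset.replicate_one, Multiset.singleton_add]
    have hlm : l < m := by
      by_contra hcon
      rw [not_lt] at hcon
      have h1 : t.sum = 0 := by omega
      have h2 : l = m := by omega
      have h3 := fpthmb_eq_zero_of_sum hp htpp h1
      apply hsm
      rw [hs', h3, h2]
      rfl
    obtain ⟨d, hd, hcert⟩ := hB2 p hp hp3 m l t (hs' ▸ hs) htl (hs' ▸ hsum) hlm
    exact ⟨d, hd.trans hs'.symm, fpthmb_certT hThree p m hodd d (fpthmb_certR hRot p m d hcert)⟩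
  · rcases eq_or_ne t 0 with ht0 | ht0
    · -- t = 0
      subst ht0
      rw [add_zero] at hst
      rw [Multiset.sum_zero, add_zero] at hsumeq
      obtain ⟨i, hi1, hli⟩ := hs l hlmem
      have hμl : μ * l ≤ m := by omega
      have hpl : p ≤ l := by
        rw [hli]
        calc p = p ^ 1 := (pow_one p).symm
          _ ≤ p ^ i := Nat.pow_le_pow_right hp.pos hi1
      have h2p : 2 * p ≤ m := by
        calc 2 * p ≤ μ * l := Nat.mul_le_mul hμ2 hpl
          _ ≤ m := hμl
      have ha2 : 2 ≤ a := by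
        by_contra hcon
        rw [not_le] at hcon
        have : p ^ a ≤ p ^ 1 := Nat.pow_le_pow_right hp.pos (by omega)
        rw [pow_one] at this
        omega
      have hm9 : 9 ≤ m := by
        rw [hm]
        calc 9 = 3 ^ 2 := by norm_num
          _ ≤ p ^ 2 := Nat.pow_le_pow_left hp3 2
          _ ≤ p ^ a := Nat.pow_le_pow_right hp.pos ha2
      rcases Nat.eq_or_lt_of_le hm9 with hm9e | hm9l
      · -- m = 9
        subst hm9e
        have hp9 : p ∣ 9 := by
          rw [hm]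
          exact dvd_pow_self p (by omega)
        have hp3e : p = 3 := by
          have : p ∣ 3 ^ 2 := by norm_num; exact hp9
          exact (Nat.prime_dvd_prime_iff_eq hp Nat.prime_three).1 (hp.dvd_of_dvd_pow this)
        subst hp3e
        have hl3 : l = 3 := by
          have hl4 : l ≤ 4 := by nlinarith
          rcases Nat.lt_or_ge i 2 with h | h
          · have : i = 1 := by omega
            rw [hli, this, pow_one]
          · have : 3 ^ 2 ≤ 3 ^ i := Nat.pow_le_pow_right (by norm_num) h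
            omega
        subst hl3
        have hμ3 : μ ≤ 3 := by omega
        rcases (by omega : μ = 2 ∨ μ = 3) with h | h
        · subst h
          obtain ⟨d, hd, hcert⟩ := hS9a
          exact ⟨d, hd.trans hst.symm, hcert⟩
        · subst h
          obtain ⟨d, hd, hcert⟩ := hS9b
          exact ⟨d, hd.trans hst.symm, hcert⟩
      · -- 9 < m
        rcases Nat.lt_or_ge (μ * l) m with hlt | hge
        · obtain ⟨d, hd, hcert⟩ := hB3b p hp hp3 a m hm hm9l i l μ hi1 hli hμ2 hlt
          exact ⟨d, hd.trans hst.symm,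
            fpthmb_certT hThree p m hodd d (fpthmb_certO hComm p m d hcert)⟩
        · have heq : μ * l = m := le_antisymm hμl hge
          obtain ⟨d, hd, hcert⟩ := hB3c p hp hp3 a m hm hm9l i l μ hi1 hli hμ2 heq
          exact ⟨d, hd.trans hst.symm,
            fpthmb_certT hThree p m hodd d (fpthmb_certO hComm p m d hcert)⟩
    · -- t ≠ 0
      obtain ⟨d, hd, hcert⟩ := hB3a p hp hp3 m l μ t hμ2 ht0 (hst ▸ hs) htl (hst ▸ hsum)
      exact ⟨d, hd.trans hst.symm, fpthmb_certT hThree p m hodd d (fpthmb_certR hRot p m d hcert)⟩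

end Cfsg.Agent.Lib.Helper83.Fp
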