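import Cfsg.Prelude.Def_Solvable
import Mathlib

set_option autoImplicit false

namespace Cfsg.Agent.Lib.Helper35

open scoped Pointwise

variable {G : Type*} [Group G]

lemma mem_conj_smul {H : Subgroup G} {g x : G} :
    x ∈ MulAut.conj g • H ↔ g⁻¹ * x * g ∈ H := by
  rw [Subgroup.mem_pointwise_smul_iff_inv_smul_mem]
  simp [MulAut.smul_def]

lemma conj_mem_conj_smul {H : Subgroup G} {g h : G} (hh : h ∈ H) :
    g * h * g⁻¹ ∈ MulAut.conj g • H := by
  rw [mem_conj_smul]
  simpa [mul_assoc] using hh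

/-- In a Frobenius complement, a nonidentity element lying in `H` and in `g H g⁻¹` forces `g ∈ H`. -/
lemma mem_of_mem_inf_conj {H : Subgroup G} (hH : Cfsg.IsFrobeniusComplement H) {g x : G}
    (hx1 : x ≠ 1) (hx : x ∈ H) (hxg : x ∈ MulAut.conj g • H) : g ∈ H := by
  by_contra hg
  have := hH.2.2 g hg
  have hmem : x ∈ H ⊓ MulAut.conj g • H := ⟨hx, hxg⟩
  rw [this, Subgroup.mem_bot] at hmem
  exact hx1 hmem

/-- Two conjugates of a Frobenius complement sharing a nonidentity element coincide. -/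
lemma inv_mul_mem_of_mem_conj_conj {H : Subgroup G} (hH : Cfsg.IsFrobeniusComplement H) {a b x : G}
    (hx1 : x ≠ 1) (hxa : x ∈ MulAut.conj a • H) (hxb : x ∈ MulAut.conj b • H) : a⁻¹ * b ∈ H := by
  rw [mem_conj_smul] at hxa hxb
  refine mem_of_mem_inf_conj hH (x := a⁻¹ * x * a) ?_ hxa ?_
  · intro h
    apply hx1
    have : x = a * (a⁻¹ * x * a) * a⁻¹ := by group
    rw [this, h]; group
  · rw [mem_conj_smul]
    have : (a⁻¹ * b)⁻¹ * (a⁻¹ * x * a) * (a⁻¹ * b) = b⁻¹ * x * b := by group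
    rw [this]
    exact hxb

/-- The centralizer of a nonidentity element of a Frobenius complement lies inside it. -/
lemma mem_of_commute {H : Subgroup G} (hH : Cfsg.IsFrobeniusComplement H) {c x : G}
    (hx1 : x ≠ 1) (hx : x ∈ H) (hc : c * x = x * c) : c ∈ H := by
  refine mem_of_mem_inf_conj hH hx1 hx ?_
  rw [mem_conj_smul]
  have : c⁻¹ * x * c = x := by
    rw [mul_assoc, ← hc]; group
  rw [this]; exact hx

end Cfsg.Agent.Lib.Helper35
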