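import Cfsg.Agent.Lib.Helper35.FrobeniusCount

set_option autoImplicit false

namespace Cfsg.Agent.Lib.Helper35

open scoped Pointwise

variable {G : Type*} [Group G]

lemma one_notMem_conjUnion (H : Subgroup G) : (1 : G) ∉ conjUnion H := fun h => h.1 rfl

lemma two_le_card_of_frobenius [Finite G] {H : Subgroup G} (hH : Cfsg.IsFrobeniusComplement H) :
    2 ≤ Nat.card H := by
  have : Nontrivial H := (Subgroup.nontrivial_iff_ne_bot _).mpr hH.1
  exact Finite.one_lt_card

lemma two_le_index_of_frobenius [Finite G] {H : Subgroup G} (hH : Cfsg.IsFrobeniusComplement H) :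
    2 ≤ H.index := by
  have h0 : H.index ≠ 0 := Subgroup.index_ne_zero_of_finite
  have h1 : H.index ≠ 1 := fun h => hH.2.1 (Subgroup.index_eq_one.mp h)
  omega

/-- Outside the conjugates of a Frobenius complement there is a nonidentity element. -/
lemma exists_ne_one_notMem_conjUnion [Finite G] {H : Subgroup G}
    (hH : Cfsg.IsFrobeniusComplement H) : ∃ v : G, v ≠ 1 ∧ v ∉ conjUnion H := by
  by_contra hcon
  push Not at hcon
  have hsub : (conjUnion H)ᶜ ⊆ ({1} : Set G) := by
    intro v hv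
    by_contra hv1
    exact hv (hcon v hv1)
  have h1 : ((conjUnion H)ᶜ : Set G).ncard ≤ 1 := by
    calc ((conjUnion H)ᶜ : Set G).ncard ≤ ({1} : Set G).ncard := Set.ncard_le_ncard hsub
      _ = 1 := Set.ncard_singleton 1
  have h2 := card_frobeniusKernel hH
  rw [frobeniusKernel_eq_compl, Nat.card_coe_set_eq] at h2
  have h3 := two_le_index_of_frobenius hH
  omega

lemma card_le_two_mul_card_conjUnion [Finite G] {H : Subgroup G}
    (hH : Cfsg.IsFrobeniusComplement H) : Nat.card G ≤ 2 * (conjUnion H).ncard := by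
  have h1 := card_conjUnion hH
  rw [Nat.card_coe_set_eq] at h1
  have h2 : Nat.card H * H.index = Nat.card G := Subgroup.card_mul_index H
  have h3 := two_le_card_of_frobenius hH
  rw [h1, ← h2]
  obtain ⟨m, hm⟩ : ∃ m, Nat.card H = m + 2 := ⟨Nat.card H - 2, by omega⟩
  rw [hm]
  simp only [show m + 2 - 1 = m + 1 by omega]
  nlinarith [Nat.zero_le (H.index * m)]

/-- Two Frobenius complements cannot have disjoint unions of conjugates. -/
lemma not_disjoint_conjUnion [Finite G] {D₁ D₂ : Subgroup G}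
    (h₁ : Cfsg.IsFrobeniusComplement D₁) (h₂ : Cfsg.IsFrobeniusComplement D₂) :
    ¬ Disjoint (conjUnion D₁) (conjUnion D₂) := by
  intro hdisj
  have hu : (conjUnion D₁ ∪ conjUnion D₂).ncard = (conjUnion D₁).ncard + (conjUnion D₂).ncard :=
    Set.ncard_union_eq hdisj
  have hsub : (conjUnion D₁ ∪ conjUnion D₂) ⊆ ({1}ᶜ : Set G) := by
    intro x hx h1
    rw [Set.mem_singleton_iff] at h1
    subst h1
    rcases hx with hx | hx
    · exact one_notMem_conjUnion _ hx
    · exact one_notMem_conjUnion _ hx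
  have hle : (conjUnion D₁ ∪ conjUnion D₂).ncard ≤ ({1}ᶜ : Set G).ncard := Set.ncard_le_ncard hsub
  have hc : ({1} : Set G).ncard + ({1}ᶜ : Set G).ncard = Nat.card G := Set.ncard_add_ncard_compl _
  rw [Set.ncard_singleton] at hc
  have a := card_le_two_mul_card_conjUnion h₁
  have b := card_le_two_mul_card_conjUnion h₂
  omega

/-- The trace of a conjugate of a Frobenius complement on a subgroup `U` is a Frobenius
complement of `U`, if it is neither trivial nor everything. -/
lemma isFrobeniusComplement_subgroupOf {H : Subgroup G} (hH : Cfsg.IsFrobeniusComplement H)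
    (U : Subgroup G) (g : G) (hne : (MulAut.conj g • H).subgroupOf U ≠ ⊥)
    (hnle : ¬ U ≤ MulAut.conj g • H) :
    Cfsg.IsFrobeniusComplement ((MulAut.conj g • H).subgroupOf U) := by
  refine ⟨hne, ?_, ?_⟩
  · intro h
    exact hnle (Subgroup.subgroupOf_eq_top.mp h)
  · intro s hs
    rw [eq_bot_iff]
    intro x hx
    obtain ⟨hx1, hx2⟩ := Subgroup.mem_inf.mp hx
    rw [Subgroup.mem_bot]
    by_contra hxne
    rw [Subgroup.mem_subgroupOf] at hs hx1
    rw [mem_conj_smul, Subgroup.mem_subgroupOf] at hx2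
    have hxne' : (x : G) ≠ 1 := fun h => hxne (Subtype.ext h)
    have hx2' : (x : G) ∈ MulAut.conj ((s : G) * g) • H := by
      rw [mem_conj_smul] at hx2 ⊢
      have : ((s : G) * g)⁻¹ * (x : G) * ((s : G) * g)
          = g⁻¹ * ((s⁻¹ * x * s : U) : G) * g := by
        simp only [Subgroup.coe_mul, Subgroup.coe_inv]; group
      rw [this]; exact hx2
    have h3 := inv_mul_mem_of_mem_conj_conj hH hxne' hx1 hx2'
    apply hs
    rw [mem_conj_smul]
    have : g⁻¹ * (s : G) * g = g⁻¹ * ((s : G) * g) := by group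
    rw [this]; exact h3

/-- A subgroup all of whose nonidentity elements lie in conjugates of a Frobenius complement `H`
is contained in a conjugate of `H`. -/
theorem le_conj_of_forall_mem_conj [Finite G] {H : Subgroup G} (hH : Cfsg.IsFrobeniusComplement H)
    (U : Subgroup G) (hU : ∀ u ∈ U, u ≠ 1 → ∃ g : G, u ∈ MulAut.conj g • H) :
    ∃ g : G, U ≤ MulAut.conj g • H := by
  by_contra hcon
  push Not at hcon
  have hUne : U ≠ ⊥ := by
    intro h
    apply hcon 1
    rw [h]; exact bot_le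
  obtain ⟨u₀', hu₀', hu₀1'⟩ := (U.bot_or_exists_ne_one).resolve_left hUne
  set u₀ : U := ⟨u₀', hu₀'⟩ with hu₀def
  have hu₀1 : u₀ ≠ 1 := fun h => hu₀1' (congrArg Subtype.val h)
  obtain ⟨a, ha⟩ := hU u₀ u₀.2 (fun h => hu₀1 (Subtype.ext h))
  have hDa : (MulAut.conj a • H).subgroupOf U ≠ ⊥ := by
    intro h
    have : u₀ ∈ (MulAut.conj a • H).subgroupOf U := Subgroup.mem_subgroupOf.mpr ha
    rw [h, Subgroup.mem_bot] at this
    exact hu₀1 this
  have hFa := isFrobeniusComplement_subgroupOf hH U a hDa (hcon a)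
  obtain ⟨v, hv1, hv⟩ := exists_ne_one_notMem_conjUnion hFa
  obtain ⟨b, hb⟩ := hU v v.2 (fun h => hv1 (Subtype.ext h))
  have hDb : (MulAut.conj b • H).subgroupOf U ≠ ⊥ := by
    intro h
    have : v ∈ (MulAut.conj b • H).subgroupOf U := Subgroup.mem_subgroupOf.mpr hb
    rw [h, Subgroup.mem_bot] at this
    exact hv1 this
  have hFb := isFrobeniusComplement_subgroupOf hH U b hDb (hcon b)
  have hnd := not_disjoint_conjUnion hFa hFb
  rw [Set.not_disjoint_iff] at hnd
  obtain ⟨x, ⟨hx1, s, hxs⟩, ⟨_, t, hxt⟩⟩ := hnd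
  apply hv
  refine ⟨hv1, t⁻¹ * s, ?_⟩
  rw [mem_conj_smul, Subgroup.mem_subgroupOf] at hxs hxt ⊢
  rw [mem_conj_smul] at hxs hxt hb ⊢
  have hx1' : (x : G) ≠ 1 := fun h => hx1 (Subtype.ext h)
  have hxs' : (x : G) ∈ MulAut.conj ((s : G) * a) • H := by
    rw [mem_conj_smul]
    have : ((s : G) * a)⁻¹ * (x : G) * ((s : G) * a) = a⁻¹ * ((s⁻¹ * x * s : U) : G) * a := by
      simp only [Subgroup.coe_mul, Subgroup.coe_inv]; group
    rw [this]; exact hxs
  have hxt' : (x : G) ∈ MulAut.conj ((t : G) * b) • H := by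
    rw [mem_conj_smul]
    have : ((t : G) * b)⁻¹ * (x : G) * ((t : G) * b) = b⁻¹ * ((t⁻¹ * x * t : U) : G) * b := by
      simp only [Subgroup.coe_mul, Subgroup.coe_inv]; group
    rw [this]; exact hxt
  have h3 := inv_mul_mem_of_mem_conj_conj hH hx1' hxs' hxt'
  have : a⁻¹ * (((t⁻¹ * s)⁻¹ * v * (t⁻¹ * s) : U) : G) * a
      = (((s : G) * a)⁻¹ * ((t : G) * b)) * (b⁻¹ * (v : G) * b) * (((s : G) * a)⁻¹ * ((t : G) * b))⁻¹ := by
    simp only [Subgroup.coe_mul, Subgroup.coe_inv]; group
  rw [this]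
  exact H.mul_mem (H.mul_mem h3 hb) (H.inv_mem h3)

end Cfsg.Agent.Lib.Helper35
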