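import Mathlib
import Cfsg.Agent.Lib.Helper37.FusDefs

/-! # FUS-C sub-hive (helper61), leaf FUSC-A4 (helper35): `α ^ k ∈ ρ L + ε ρ L` -/

set_option autoImplicit false
set_option linter.unusedSectionVars false
set_option linter.unusedVariables false

namespace Cfsg.Agent.Lib.Helper37.Fus

open Polynomial

universe u v

variable {F : Type u} [Field F]

section partA

variable {W : Type v} [AddCommGroup W] [Module F W]

section field

variable {L : Type u} [Field L] [Algebra F L]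

/-- `ρ s` commutes with `α'` -/
theorem fusCA4_comm' (α α' : W →ₗ[F] W) (hαα' : α * α' = 1) (hα'α : α' * α = 1)
    (ρ : L →ₐ[F] Module.End F W) (hρα : ∀ s : L, ρ s * α = α * ρ s) (s : L) :
    ρ s * α' = α' * ρ s := by
  calc ρ s * α' = (α' * α) * (ρ s * α') := by rw [hα'α, one_mul]
    _ = α' * ((α * ρ s) * α') := by simp only [mul_assoc]
    _ = α' * ((ρ s * α) * α') := by rw [hρα]
    _ = α' * ρ s * (α * α') := by simp only [mul_assoc]
    _ = α' * ρ s := by rw [hαα', mul_one]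

/-- `ρ s` commutes with `ε = α - α'` -/
theorem fusCA4_commε (α α' : W →ₗ[F] W) (hαα' : α * α' = 1) (hα'α : α' * α = 1)
    (ρ : L →ₐ[F] Module.End F W) (hρα : ∀ s : L, ρ s * α = α * ρ s) (s : L) :
    ρ s * (α - α') = (α - α') * ρ s := by
  rw [mul_sub, sub_mul, hρα, fusCA4_comm' α α' hαα' hα'α ρ hρα]

/-- `ε² = ρ (θ² - 4)` -/
theorem fusCA4_εsq (α α' : W →ₗ[F] W) (hαα' : α * α' = 1) (hα'α : α' * α = 1)
    (ρ : L →ₐ[F] Module.End F W) (θ : L) (hθ : ρ θ = α + α') :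
    (α - α') * (α - α') = ρ (θ ^ 2 - 4) := by
  rw [map_sub, map_pow, hθ, sq, map_ofNat]
  simp only [mul_sub, sub_mul, mul_add, add_mul, hαα', hα'α]
  have h4 : (4 : Module.End F W) = 1 + 1 + 1 + 1 := by norm_num
  rw [h4]
  abel

/-- products in `ρ L + ε ρ L` -/
theorem fusCA4_mul (α α' : W →ₗ[F] W) (hαα' : α * α' = 1) (hα'α : α' * α = 1)
    (ρ : L →ₐ[F] Module.End F W) (θ : L) (hθ : ρ θ = α + α') (hρα : ∀ s : L, ρ s * α = α * ρ s)
    (x y x' y' : L) :
    (ρ x + (α - α') * ρ y) * (ρ x' + (α - α') * ρ y') =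
      ρ (x * x' + (θ ^ 2 - 4) * (y * y')) + (α - α') * ρ (x * y' + y * x') := by
  have hc := fusCA4_commε α α' hαα' hα'α ρ hρα
  have h2 := fusCA4_εsq α α' hαα' hα'α ρ θ hθ
  have e1 : ρ x * ((α - α') * ρ y') = (α - α') * (ρ x * ρ y') := by
    rw [← mul_assoc, hc, mul_assoc]
  have e2 : (α - α') * ρ y * ρ x' = (α - α') * (ρ y * ρ x') := by rw [mul_assoc]
  have e3 : (α - α') * ρ y * ((α - α') * ρ y') = ρ (θ ^ 2 - 4) * (ρ y * ρ y') := by
    calc (α - α') * ρ y * ((α - α') * ρ y') = (α - α') * (ρ y * (α - α')) * ρ y' := by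
          simp only [mul_assoc]
      _ = (α - α') * ((α - α') * ρ y) * ρ y' := by rw [hc]
      _ = ((α - α') * (α - α')) * (ρ y * ρ y') := by simp only [mul_assoc]
      _ = ρ (θ ^ 2 - 4) * (ρ y * ρ y') := by rw [h2]
  rw [add_mul, mul_add, mul_add, e1, e2, e3]
  simp only [map_add, map_mul, mul_add]
  abel

/-- FUSC-A4 : `α ^ k ∈ ρ L + ε ρ L` (induction: `2 α = b + ε`, `ε² = b² - 4`). -/
theorem fusC_pow_decomp (h2 : (2 : F) ≠ 0) (α α' : W →ₗ[F] W) (hαα' : α * α' = 1) (hα'α : α' * α = 1)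
    (ρ : L →ₐ[F] Module.End F W) (θ : L) (hθ : ρ θ = α + α') (hρα : ∀ s : L, ρ s * α = α * ρ s)
    (f : F[X]) : ∃ s t : L, aeval α f = ρ s + (α - α') * ρ t := by
  have h2L : (2 : L) ≠ 0 := by
    have := (map_ne_zero (algebraMap F L)).2 h2
    rwa [map_ofNat] at this
  have hc := fusCA4_commε α α' hαα' hα'α ρ hρα
  -- `α` itself
  have hα : α = ρ (2⁻¹ * θ) + (α - α') * ρ (2⁻¹) := by
    have h1 : ρ (2⁻¹ : L) * (2 : Module.End F W) = 1 := by
      rw [← map_ofNat ρ 2, ← map_mul, inv_mul_cancel₀ h2L, map_one]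
    have h3 : ρ θ + (α - α') = 2 * α := by rw [hθ, two_mul]; abel
    calc α = (ρ (2⁻¹ : L) * (2 : Module.End F W)) * α := by rw [h1, one_mul]
      _ = ρ (2⁻¹ : L) * (ρ θ + (α - α')) := by rw [h3, mul_assoc]
      _ = ρ (2⁻¹ * θ) + (α - α') * ρ (2⁻¹) := by rw [mul_add, hc, map_mul]
  induction f using Polynomial.induction_on with
  | C a =>
    refine ⟨algebraMap F L a, 0, ?_⟩
    rw [aeval_C, map_zero, mul_zero, add_zero, AlgHom.commutes]
  | add p q hp hq =>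
    obtain ⟨s, t, hst⟩ := hp
    obtain ⟨s', t', hst'⟩ := hq
    refine ⟨s + s', t + t', ?_⟩
    rw [map_add, hst, hst', map_add, map_add, mul_add]
    abel
  | monomial n a ih =>
    obtain ⟨s, t, hst⟩ := ih
    have e : aeval α (C a * X ^ (n + 1)) = aeval α (C a * X ^ n) * α := by
      rw [pow_succ, ← mul_assoc, map_mul, aeval_X]
    rw [e, hst]
    refine ⟨s * (2⁻¹ * θ) + (θ ^ 2 - 4) * (t * 2⁻¹), s * 2⁻¹ + t * (2⁻¹ * θ), ?_⟩
    have key := fusCA4_mul α α' hαα' hα'α ρ θ hθ hρα s t (2⁻¹ * θ) 2⁻¹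
    rw [← hα] at key
    exact key

end field

end partA

end Cfsg.Agent.Lib.Helper37.Fus
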