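import Mathlib
import Cfsg.Agent.Lib.Helper37.FusDefs
import Cfsg.Agent.Lib.Helper35.FusCA4

/-! # FUS-C sub-hive (helper61), leaf FUSC-A5 (helper35): the `-1`-eigenspace of `σ_{w'}` is `ε L w'` -/

set_option autoImplicit false
set_option linter.unusedSectionVars false
set_option linter.unusedVariables false

namespace Cfsg.Agent.Lib.Helper37.Fus

open Polynomial

universe u v

variable {F : Type u} [Field F]

section partA

variable {W : Type v} [AddCommGroup W] [Module F W]

section field

variable {L : Type u} [Field L] [Algebra F L]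

/-- an endomorphism commuting with `b` commutes with polynomials in `b` -/
theorem fusCA5_comm_aeval (σ b : Module.End F W) (h : σ * b = b * σ) (g : F[X]) :
    σ * aeval b g = aeval b g * σ := by
  induction g using Polynomial.induction_on with
  | C a => rw [aeval_C, Algebra.commutes]
  | add p q hp hq => rw [map_add, mul_add, add_mul, hp, hq]
  | monomial n a ih =>
    have e : aeval b (C a * X ^ (n + 1)) = aeval b (C a * X ^ n) * b := by
      rw [pow_succ, ← mul_assoc, map_mul, aeval_X]
    rw [e, ← mul_assoc, ih, mul_assoc, h, ← mul_assoc]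

/-- FUSC-A5 : the `-1`-eigenspace of `σ_{w'}` is the `L`-line `ε L w'` (`ρ s` is a polynomial in `b = α + α'` by `hgen`,
so commutes with `σ`; `σ ε = - ε σ`; FUSC-A4 for `⇒`). -/
theorem fusC_ker_sigma [Nontrivial W] (h2 : (2 : F) ≠ 0) (α α' : W →ₗ[F] W) (hαα' : α * α' = 1)
    (hα'α : α' * α = 1) (hε : ∀ w, α w = α' w → w = 0)
    (ρ : L →ₐ[F] Module.End F W) (θ : L) (hθ : ρ θ = α + α') (hgen : ∀ s : L, ∃ g : F[X], s = aeval θ g)
    (hρα : ∀ s : L, ρ s * α = α * ρ s)
    (w' : W) (hcyc : ∀ w, ∃ f : F[X], w = aeval α f w')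
    (σ : W →ₗ[F] W) (hσw : σ w' = w') (hσ2 : σ * σ = 1) (hσα : σ * α = α' * σ) :
    (∀ w, σ w = -w ↔ ∃ s : L, w = (α - α') (ρ s w')) ∧
      ∀ s : L, (α - α') (ρ s w') = 0 → s = 0 := by
  -- `σ α' = α σ`
  have hσα' : σ * α' = α * σ := by
    calc σ * α' = (α * α') * (σ * α') := by rw [hαα', one_mul]
      _ = α * ((α' * σ) * α') := by simp only [mul_assoc]
      _ = α * ((σ * α) * α') := by rw [hσα]
      _ = α * σ * (α * α') := by simp only [mul_assoc]
      _ = α * σ := by rw [hαα', mul_one]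
  -- `σ` commutes with `b = ρ θ`
  have hσb : σ * ρ θ = ρ θ * σ := by
    rw [hθ, mul_add, add_mul, hσα, hσα', add_comm]
  -- `σ` commutes with every `ρ s`
  have hσρ : ∀ s : L, σ * ρ s = ρ s * σ := by
    intro s
    obtain ⟨g, hg⟩ := hgen s
    rw [hg, ← Polynomial.aeval_algHom_apply]
    exact fusCA5_comm_aeval σ (ρ θ) hσb g
  -- `σ ε = - ε σ`
  have hσε : σ * (α - α') = -((α - α') * σ) := by
    rw [mul_sub, hσα, hσα', sub_mul]
    abel
  have hσ_app : ∀ s : L, σ ((α - α') (ρ s w')) = -((α - α') (ρ s w')) := by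
    intro s
    have h1 : σ ((α - α') (ρ s w')) = (σ * (α - α')) (ρ s w') := by
      simp only [Module.End.mul_apply]
    rw [h1, hσε]
    have h3 : σ (ρ s w') = ρ s w' := by
      have : (σ * ρ s) w' = (ρ s * σ) w' := by rw [hσρ]
      simp only [Module.End.mul_apply] at this
      rw [this, hσw]
    simp only [LinearMap.neg_apply, Module.End.mul_apply, h3]
  have hρs_fix : ∀ s : L, σ (ρ s w') = ρ s w' := by
    intro s
    have : (σ * ρ s) w' = (ρ s * σ) w' := by rw [hσρ]
    simp only [Module.End.mul_apply] at this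
    rw [this, hσw]
  refine ⟨fun w => ⟨fun hw => ?_, ?_⟩, ?_⟩
  · obtain ⟨f, hf⟩ := hcyc w
    obtain ⟨s, t, hst⟩ := fusC_pow_decomp h2 α α' hαα' hα'α ρ θ hθ hρα f
    have hw1 : w = ρ s w' + (α - α') (ρ t w') := by
      rw [hf, hst]
      simp only [LinearMap.add_apply, Module.End.mul_apply]
    have hσw1 : σ w = ρ s w' - (α - α') (ρ t w') := by
      rw [hw1, map_add, hρs_fix, hσ_app]
      abel
    have h0 : (2 : F) • ρ s w' = 0 := by
      have : ρ s w' - (α - α') (ρ t w') = -(ρ s w' + (α - α') (ρ t w')) := by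
        rw [← hσw1, hw, hw1]
      rw [two_smul]
      have h5 : ρ s w' + ρ s w' = (ρ s w' - (α - α') (ρ t w')) + (ρ s w' + (α - α') (ρ t w')) := by
        abel
      rw [h5, this]
      abel
    have h00 : ρ s w' = 0 := by
      rcases smul_eq_zero.1 h0 with h | h
      · exact absurd h h2
      · exact h
    refine ⟨t, ?_⟩
    rw [hw1, h00, zero_add]
  · rintro ⟨s, hs⟩
    rw [hs]
    exact hσ_app s
  · intro s hs
    by_contra hs0
    have h1 : ρ s w' = 0 := by
      apply hε
      have : (α - α') (ρ s w') = α (ρ s w') - α' (ρ s w') := by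
        simp only [LinearMap.sub_apply]
      rw [this] at hs
      exact sub_eq_zero.1 hs
    have h2' : w' = 0 := by
      have : (ρ s⁻¹ * ρ s) w' = w' := by
        rw [← map_mul, inv_mul_cancel₀ hs0, map_one]
        simp
      rw [← this, Module.End.mul_apply, h1, map_zero]
    obtain ⟨x, hx⟩ := exists_ne (0 : W)
    apply hx
    obtain ⟨f, hf⟩ := hcyc x
    rw [hf, h2', map_zero]

end field

end partA

end Cfsg.Agent.Lib.Helper37.Fus
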