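import Cfsg.Agent.Lib.Helper43.FwDefs
import Cfsg.Agent.Lib.Helper53.SLPair
import Cfsg.Agent.S3209

/-! # Fw hive (S3211, helper43): leaf FW-SETUP `setup_of_hyps` (helper35, second hand) -/

set_option autoImplicit false

namespace Cfsg.Agent.Lib.Helper43.Fw

open Matrix Cfsg.Agent.Lib.Helper53

variable {G : Type*} [Group G] {L₁ L₂ : Subgroup G} {j n : G}

/-- two elements of `SL₂(F)` commuting with `sl2w` commute -/
theorem fwsetup_comm_w {F : Type*} [Field F] (a b : SpecialLinearGroup (Fin 2) F)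
    (ha : a * sl2w F = sl2w F * a) (hb : b * sl2w F = sl2w F * b) : a * b = b * a := by
  have hw : (sl2w F).1 = !![0, -1; 1, 0] := rfl
  have ha' : a.1 * (sl2w F).1 = (sl2w F).1 * a.1 := by
    rw [← Matrix.SpecialLinearGroup.coe_mul, ← Matrix.SpecialLinearGroup.coe_mul, ha]
  have hb' : b.1 * (sl2w F).1 = (sl2w F).1 * b.1 := by
    rw [← Matrix.SpecialLinearGroup.coe_mul, ← Matrix.SpecialLinearGroup.coe_mul, hb]
  rw [hw] at ha' hb'
  have ha00 := congrFun (congrFun ha' 0) 0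
  have ha01 := congrFun (congrFun ha' 0) 1
  have hb00 := congrFun (congrFun hb' 0) 0
  have hb01 := congrFun (congrFun hb' 0) 1
  simp [Matrix.mul_apply, Fin.sum_univ_two] at ha00 ha01 hb00 hb01
  ext i j
  rw [Matrix.SpecialLinearGroup.coe_mul, Matrix.SpecialLinearGroup.coe_mul]
  fin_cases i <;> fin_cases j <;> simp [Matrix.mul_apply, Fin.sum_univ_two] <;>
    simp only [ha00, ha01, hb00, hb01] <;> ring

/-- the centraliser of an element of square `-1` in `SL₂(F)` is abelian -/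
theorem fwsetup_sl2_cent_comm {F : Type*} [Field F] [Fintype F] (hF : Odd (Fintype.card F))
    (x a b : SpecialLinearGroup (Fin 2) F) (hx : x * x = -1) (ha : a * x = x * a) (hb : b * x = x * b) :
    a * b = b * a := by
  obtain ⟨g, hg⟩ := sl2_sq_eq_neg_one hF x hx
  have key : ∀ c : SpecialLinearGroup (Fin 2) F, c * x = x * c →
      (g⁻¹ * c * g) * sl2w F = sl2w F * (g⁻¹ * c * g) := by
    intro c hc
    have hw : sl2w F = g⁻¹ * x * g := by rw [← hg]; group
    rw [hw]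
    calc g⁻¹ * c * g * (g⁻¹ * x * g) = g⁻¹ * (c * x) * g := by group
      _ = g⁻¹ * (x * c) * g := by rw [hc]
      _ = g⁻¹ * x * g * (g⁻¹ * c * g) := by group
  have h := fwsetup_comm_w _ _ (key a ha) (key b hb)
  calc a * b = g * ((g⁻¹ * a * g) * (g⁻¹ * b * g)) * g⁻¹ := by group
    _ = g * ((g⁻¹ * b * g) * (g⁻¹ * a * g)) * g⁻¹ := by rw [h]
    _ = b * a := by group

/-- transport of the previous lemma to a subgroup isomorphic to `SL₂(F)` -/
theorem fwsetup_ab {F : Type*} [Field F] [Fintype F] (hF : Odd (Fintype.card F)) (L : Subgroup G)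
    (e : ↥L ≃* SpecialLinearGroup (Fin 2) F) (j : G) (hjL : j ∈ L) (hj_sq : j * j = 1) (hj_ne : j ≠ 1) :
    ∀ x ∈ L, x * x = j → ∀ a ∈ L, ∀ b ∈ L, a * x = x * a → b * x = x * b → a * b = b * a := by
  have hej : e ⟨j, hjL⟩ = -1 := by
    have h1 : e ⟨j, hjL⟩ * e ⟨j, hjL⟩ = 1 := by
      rw [← map_mul]
      have : (⟨j, hjL⟩ : ↥L) * ⟨j, hjL⟩ = 1 := Subtype.ext hj_sq
      rw [this, map_one]
    rcases sl2_sq_eq_one hF _ h1 with h | h
    · exfalso
      have : (⟨j, hjL⟩ : ↥L) = 1 := e.injective (by rw [h, map_one])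
      exact hj_ne (congrArg Subtype.val this)
    · exact h
  intro x hx hxx a ha b hb hax hbx
  have hX : e ⟨x, hx⟩ * e ⟨x, hx⟩ = -1 := by
    rw [← map_mul, ← hej]
    congr 1
    exact Subtype.ext hxx
  have hA : e ⟨a, ha⟩ * e ⟨x, hx⟩ = e ⟨x, hx⟩ * e ⟨a, ha⟩ := by
    rw [← map_mul, ← map_mul]
    congr 1
    exact Subtype.ext hax
  have hB : e ⟨b, hb⟩ * e ⟨x, hx⟩ = e ⟨x, hx⟩ * e ⟨b, hb⟩ := by
    rw [← map_mul, ← map_mul]
    congr 1
    exact Subtype.ext hbx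
  have h := fwsetup_sl2_cent_comm hF _ _ _ hX hA hB
  rw [← map_mul, ← map_mul] at h
  exact congrArg Subtype.val (e.injective h)

/-- FW-SETUP: the hypotheses of S3211 give the abstract configuration. -/
theorem setup_of_hyps [Finite G] {F₁ : Type*} [Field F₁] [Fintype F₁] {F₂ : Type*} [Field F₂] [Fintype F₂]
    (hF₁ : Odd (Fintype.card F₁)) (hF₂ : Odd (Fintype.card F₂)) (L₁ L₂ : Subgroup G)
    (e₁ : ↥L₁ ≃* Matrix.SpecialLinearGroup (Fin 2) F₁) (e₂ : ↥L₂ ≃* Matrix.SpecialLinearGroup (Fin 2) F₂)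
    (hc : ∀ x ∈ L₁, ∀ y ∈ L₂, x * y = y * x) (j : G) (hj : orderOf j = 2) (hm : L₁ ⊓ L₂ = Subgroup.zpowers j)
    (hle : L₁ ⊔ L₂ ≤ Subgroup.centralizer ({j} : Set G))
    (hi : (L₁ ⊔ L₂).relIndex (Subgroup.centralizer ({j} : Set G)) = 2) (n : G)
    (hn : n ∈ Subgroup.centralizer ({j} : Set G)) (hn2 : n ^ 2 = j)
    (hswap : L₁.map (MulAut.conj n).toMonoidHom = L₂) : Setup L₁ L₂ j n := by
  have hjmem : j ∈ L₁ ⊓ L₂ := by rw [hm]; exact Subgroup.mem_zpowers j
  have hj1 : j ∈ L₁ := hjmem.1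
  have hj2 : j ∈ L₂ := hjmem.2
  have hj_sq : j * j = 1 := by
    have := pow_orderOf_eq_one j
    rw [hj, pow_two] at this; exact this
  have hj_ne : j ≠ 1 := by
    intro h; rw [h, orderOf_one] at hj; norm_num at hj
  have hS1 : SLSide j L₁ := SLSide.of_iso hF₁ L₁ e₁ j hj1 hj_sq hj_ne
  have hS2 : SLSide j L₂ := SLSide.of_iso hF₂ L₂ e₂ j hj2 hj_sq hj_ne
  refine
    { comm := hc
      jsq := hj_sq
      jne := hj_ne
      inter := hm
      le := hle
      idx := hi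
      nmem := hn
      nsq := by rw [← pow_two]; exact hn2
      swap := ?_
      sq1 := hS1.sq_one
      sq2 := hS2.sq_one
      ab1 := fwsetup_ab hF₁ L₁ e₁ j hj1 hj_sq hj_ne
      ab2 := fwsetup_ab hF₂ L₂ e₂ j hj2 hj_sq hj_ne
      ex1 := hS1.ex
      invY := Cfsg.Agent.S3209.result hF₁ hF₂ L₁ L₂ e₁ e₂ hc j hj hm }
  intro a
  constructor
  · intro ha
    rw [← hswap]
    exact ⟨a, ha, by simp [MulAut.conj_apply]⟩
  · intro ha
    rw [← hswap] at ha
    obtain ⟨a', ha', h⟩ := ha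
    have h2 : n * a' * n⁻¹ = n * a * n⁻¹ := by simpa [MulAut.conj_apply] using h
    have h3 : a' = a := by
      have := congrArg (fun y => n⁻¹ * y * n) h2
      simpa [mul_assoc] using this
    rw [← h3]; exact ha'

end Cfsg.Agent.Lib.Helper43.Fw
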