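import Mathlib
import Cfsg.Agent.Lib.Helper47.G42Defs
import Cfsg.Agent.Lib.Helper68.G42ISO7

/-!
# G42 hive (S2553, helper47) — sub-leaf DEG7-TRANS `deg7_trans`
-/

set_option autoImplicit false

namespace Cfsg.Agent.Lib.Helper47.G42

open Equiv

/-- a subgroup of `Perm α` (`|α| = p` prime) whose order is divisible by `p` is transitive. -/
theorem deg7trans_of_dvd {α : Type*} [Fintype α] [DecidableEq α] {p : ℕ} [hp : Fact p.Prime]
    (hα : Fintype.card α = p) (G : Subgroup (Perm α)) (hd : p ∣ Nat.card G) :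
    MulAction.IsPretransitive G α := by
  classical
  obtain ⟨g, hg⟩ := exists_prime_orderOf_dvd_card' p hd
  have hg' : orderOf (g : Perm α) = p := by rw [Subgroup.orderOf_coe]; exact hg
  have hcyc : (g : Perm α).IsCycle := by
    apply Perm.isCycle_of_prime_order
    · rw [hg']; exact hp.out
    · rw [hg']
      have h1 := hp.out.pos
      have h2 : (g : Perm α).support.card ≤ Fintype.card α := Finset.card_le_univ _
      omega
  have hsupp : (g : Perm α).support = Finset.univ := by
    apply Finset.eq_univ_of_card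
    rw [← hcyc.orderOf, hg', hα]
  refine ⟨fun x y => ?_⟩
  have hx : (g : Perm α) x ≠ x := Perm.mem_support.1 (by rw [hsupp]; exact Finset.mem_univ x)
  have hy : (g : Perm α) y ≠ y := Perm.mem_support.1 (by rw [hsupp]; exact Finset.mem_univ y)
  obtain ⟨i, hi⟩ := hcyc.exists_zpow_eq hx hy
  refine ⟨g ^ i, ?_⟩
  show ((g ^ i : G) : Perm α) x = y
  rw [Subgroup.coe_zpow]
  exact hi

/-- SUB-LEAF DEG7-TRANS: the image of `iso7_res` (helper68, G42ISO7) is transitive on the 7 points. -/
theorem deg7_trans (K : Subgroup (Perm (Fin 8))) (hA : K ≤ alternatingGroup (Fin 8)) (c : Fin 8)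
    (hfix : ∀ k ∈ K, k c = c) (h7 : 7 ∣ Nat.card K) :
    MulAction.IsPretransitive
      (((iso7_res K hA c hfix).range).map (alternatingGroup {x : Fin 8 // x ≠ c}).subtype)
      {x : Fin 8 // x ≠ c} := by
  have : Fact (Nat.Prime 7) := ⟨by norm_num⟩
  have hα : Fintype.card {x : Fin 8 // x ≠ c} = 7 := by
    rw [Fintype.card_subtype_compl]; simp
  have e1 : K ≃* (iso7_res K hA c hfix).range :=
    MonoidHom.ofInjective (iso7_res_injective K hA c hfix)
  have e2 : (iso7_res K hA c hfix).range ≃*
      ((iso7_res K hA c hfix).range).map (alternatingGroup {x : Fin 8 // x ≠ c}).subtype :=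
    ((iso7_res K hA c hfix).range).equivMapOfInjective _ (Subgroup.subtype_injective _)
  have hc : Nat.card K =
      Nat.card (((iso7_res K hA c hfix).range).map (alternatingGroup {x : Fin 8 // x ≠ c}).subtype) :=
    Nat.card_congr (e1.trans e2).toEquiv
  exact deg7trans_of_dvd hα _ (hc ▸ h7)

end Cfsg.Agent.Lib.Helper47.G42
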