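import Mathlib

set_option autoImplicit false

namespace Cfsg.Agent.Lib.Helper37.GraphInv

open Module Matrix Polynomial

/-- `X^2 - C lam` is irreducible when `lam` is not a square -/
theorem h35_irreducible_sq_sub {F : Type*} [Field F] (lam : F) (hlam : ¬ IsSquare lam) :
    Irreducible ((X : F[X]) ^ 2 - C lam) := by
  have hm : ((X : F[X]) ^ 2 - C lam).Monic := monic_X_pow_sub_C lam (by norm_num)
  have hd : ((X : F[X]) ^ 2 - C lam).natDegree = 2 := natDegree_X_pow_sub_C
  rw [Polynomial.Monic.irreducible_iff_roots_eq_zero_of_degree_le_three hm (by omega) (by omega)]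
  apply Multiset.eq_zero_of_forall_notMem
  intro a ha
  rw [mem_roots hm.ne_zero] at ha
  apply hlam
  refine ⟨a, ?_⟩
  have : a ^ 2 - lam = 0 := by simpa [IsRoot] using ha
  rw [← pow_two]
  exact (sub_eq_zero.mp this).symm

/-- (GI-DET) a matrix whose square is a non-square scalar has determinant `(-lam)^N` -/
theorem det_of_sq_eq_nonsquare {F : Type*} [Field F] {n : Type*} [Fintype n] [DecidableEq n]
    (M : Matrix n n F) (lam : F) (hlam : ¬ IsSquare lam) (hM : M * M = lam • (1 : Matrix n n F))
    {N : ℕ} (hn : Fintype.card n = 2 * N) : M.det = (-lam) ^ N := by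
  set p : F[X] := (X : F[X]) ^ 2 - C lam with hp
  have hirr : Irreducible p := h35_irreducible_sq_sub lam hlam
  have hpm : p.Monic := monic_X_pow_sub_C lam (by norm_num)
  have hpd : p.natDegree = 2 := natDegree_X_pow_sub_C
  -- the product of the two characteristic matrices
  have hprod : charmatrix M * charmatrix (-M) = p • (1 : Matrix n n F[X]) := by
    have hA : (C : F →+* F[X]).mapMatrix M * (C : F →+* F[X]).mapMatrix M
        = (C lam) • (1 : Matrix n n F[X]) := by
      rw [← map_mul, hM]
      ext i j
      simp [Matrix.one_apply]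
      split_ifs <;> simp
    have h1 : charmatrix M = Matrix.scalar n (X : F[X]) - (C : F →+* F[X]).mapMatrix M := rfl
    have h2 : charmatrix (-M) = Matrix.scalar n (X : F[X]) + (C : F →+* F[X]).mapMatrix M := by
      unfold charmatrix
      rw [map_neg, sub_neg_eq_add]
    have hcomm : Commute (Matrix.scalar n (X : F[X])) ((C : F →+* F[X]).mapMatrix M) :=
      Matrix.scalar_commute _ (fun r => Commute.all _ _) _
    rw [h1, h2]
    have : (Matrix.scalar n (X : F[X]) - (C : F →+* F[X]).mapMatrix M) *
        (Matrix.scalar n (X : F[X]) + (C : F →+* F[X]).mapMatrix M) =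
        Matrix.scalar n (X : F[X]) * Matrix.scalar n (X : F[X]) -
          (C : F →+* F[X]).mapMatrix M * (C : F →+* F[X]).mapMatrix M := by
      rw [sub_mul, mul_add, mul_add, hcomm.eq]
      abel
    rw [this, hA, ← map_mul, hp, sub_smul]
    congr 1
    ext i j
    by_cases hij : i = j
    · subst hij; simp [pow_two]
    · simp [hij]
  have hdet : M.charpoly * (-M).charpoly = p ^ (2 * N) := by
    unfold Matrix.charpoly
    rw [← Matrix.det_mul, hprod, Matrix.det_smul, Matrix.det_one, mul_one, hn]
  have hdvd : M.charpoly ∣ p ^ (2 * N) := ⟨_, hdet.symm⟩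
  obtain ⟨i, _, hi⟩ := (dvd_prime_pow hirr.prime _).1 hdvd
  have hcp : M.charpoly = p ^ i :=
    eq_of_monic_of_associated (Matrix.charpoly_monic M) (hpm.pow i) hi
  have hiN : i = N := by
    have h1 : M.charpoly.natDegree = Fintype.card n := Matrix.charpoly_natDegree_eq_dim M
    rw [hcp, hpm.natDegree_pow, hpd] at h1
    omega
  rw [Matrix.det_eq_sign_charpoly_coeff, hcp, hiN, hn, Polynomial.coeff_zero_eq_eval_zero,
    Polynomial.eval_pow, hp]
  simp [pow_mul]

end Cfsg.Agent.Lib.Helper37.GraphInv
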