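import Mathlib

set_option autoImplicit false

namespace Cfsg.Agent.Lib.Helper37.GraphInv

open Module Polynomial

section Real

variable {F V : Type*} [Field F] [AddCommGroup V] [Module F V]

/-- the `F[√lam]`-valued quadratic map `v ↦ B(v, g v) + B(v, v) √lam` -/
def h35_xi (B : LinearMap.BilinForm F V) (g : V →ₗ[F] V) (lam : F) (v : V) :
    QuadraticAlgebra F lam 0 := ⟨B v (g v), B v v⟩

/-- the action of `F[√lam]` on `V` through `g` -/
def h35_act (g : V →ₗ[F] V) (lam : F) (k : QuadraticAlgebra F lam 0) (v : V) : V :=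
  k.re • v + k.im • g v

theorem h35_xi_act (B : LinearMap.BilinForm F V) (g : V →ₗ[F] V) (lam : F)
    (hg : ∀ v, g (g v) = lam • v) (hadj : ∀ u v, B (g u) v = B u (g v))
    (k : QuadraticAlgebra F lam 0) (v : V) :
    h35_xi B g lam (h35_act g lam k v) = k * k * h35_xi B g lam v := by
  have h1 : B (g v) v = B v (g v) := hadj v v
  have h2 : B (g v) (g v) = lam * B v v := by rw [hadj, hg, map_smul, smul_eq_mul]
  ext
  · simp only [h35_xi, h35_act, map_add, map_smul, LinearMap.add_apply, LinearMap.smul_apply, hg,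
      smul_eq_mul, h1, h2, QuadraticAlgebra.re_mul, QuadraticAlgebra.im_mul]
    ring
  · simp only [h35_xi, h35_act, map_add, map_smul, LinearMap.add_apply, LinearMap.smul_apply,
      smul_eq_mul, h1, h2, QuadraticAlgebra.re_mul, QuadraticAlgebra.im_mul]
    ring

theorem h35_xi_add (B : LinearMap.BilinForm F V) (hS : B.IsSymm) (g : V →ₗ[F] V) (lam : F)
    (hadj : ∀ u v, B (g u) v = B u (g v)) (u w : V) (h1 : B u w = 0) (h2 : B u (g w) = 0) :
    h35_xi B g lam (u + w) = h35_xi B g lam u + h35_xi B g lam w := by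
  have h3 : B w (g u) = 0 := by rw [hS.eq w (g u), hadj, h2]
  have h4 : B w u = 0 := by rw [hS.eq w u, h1]
  ext
  · simp only [h35_xi, map_add, LinearMap.add_apply, h2, h3, QuadraticAlgebra.re_add]
    ring
  · simp only [h35_xi, map_add, LinearMap.add_apply, h1, h4, QuadraticAlgebra.im_add]
    ring

theorem h35_act_orth (B : LinearMap.BilinForm F V) (g : V →ₗ[F] V) (lam : F)
    (hg : ∀ v, g (g v) = lam • v) (hadj : ∀ u v, B (g u) v = B u (g v))
    {w1 w2 : V} (P1 : B w1 w2 = 0) (P2 : B (g w1) w2 = 0) (k1 k2 : QuadraticAlgebra F lam 0) :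
    B (h35_act g lam k1 w1) (h35_act g lam k2 w2) = 0 ∧
      B (h35_act g lam k1 w1) (g (h35_act g lam k2 w2)) = 0 := by
  have P3 : B w1 (g w2) = 0 := by rw [← hadj, P2]
  have P4 : B (g w1) (g w2) = 0 := by rw [hadj, hg, map_smul, P1, smul_zero]
  constructor
  · simp only [h35_act, map_add, map_smul, LinearMap.add_apply, LinearMap.smul_apply, P1, P2, P3,
      P4, smul_zero, add_zero]
  · simp only [h35_act, map_add, map_smul, LinearMap.add_apply, LinearMap.smul_apply, hg, P1, P2,
      P3, P4, smul_zero, add_zero]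


/-- Step 1: a nondegenerate symmetric form in odd characteristic on a nonzero space has a
non-isotropic vector -/
theorem h35_exists_nonisotropic [Nontrivial V] (h2 : (2 : F) ≠ 0) (B : LinearMap.BilinForm F V)
    (hS : B.IsSymm) (hB : B.Nondegenerate) : ∃ w : V, B w w ≠ 0 := by
  by_contra hcon
  push Not at hcon
  have : NeZero (2 : F) := ⟨h2⟩
  have h0 : B = 0 :=
    LinearMap.BilinForm.ext_of_isSymm hS LinearMap.BilinForm.isSymm_zero (fun x => by
      simpa using hcon x)
  obtain ⟨v, hv⟩ := exists_ne (0 : V)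
  exact hv (hB.1 v (fun y => by rw [h0]; rfl))

/-- Step 2: inside the orthogonal complement of `⟨w, g w⟩` there is a non-isotropic vector -/
theorem h35_exists_nonisotropic_orth [FiniteDimensional F V] (h2 : (2 : F) ≠ 0)
    (B : LinearMap.BilinForm F V) (hS : B.IsSymm) (hB : B.Nondegenerate) (g : V →ₗ[F] V) (lam : F)
    (hlam : ¬ IsSquare lam) (hg : ∀ v, g (g v) = lam • v)
    (hadj : ∀ u v, B (g u) v = B u (g v)) (hdim : 3 ≤ finrank F V) (w1 : V) (hw1 : B w1 w1 ≠ 0) :
    ∃ w2 : V, B w1 w2 = 0 ∧ B (g w1) w2 = 0 ∧ B w2 w2 ≠ 0 := by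
  by_contra hcon
  push Not at hcon
  -- a nonzero vector orthogonal to `w1` and `g w1`
  obtain ⟨u, hu0, hu1, hu2⟩ : ∃ u : V, u ≠ 0 ∧ B w1 u = 0 ∧ B (g w1) u = 0 := by
    let φ : V →ₗ[F] F × F := (B w1).prod (B (g w1))
    have hni : ¬ Function.Injective φ := by
      intro hinj
      have := LinearMap.finrank_le_finrank_of_injective hinj
      rw [Module.finrank_prod, Module.finrank_self] at this
      omega
    rw [← LinearMap.ker_eq_bot] at hni
    obtain ⟨u, hu, hu0⟩ := Submodule.exists_mem_ne_zero_of_ne_bot hni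
    rw [LinearMap.mem_ker] at hu
    have hu' : (B w1 u, B (g w1) u) = (0, 0) := hu
    rw [Prod.mk.injEq] at hu'
    exact ⟨u, hu0, hu'.1, hu'.2⟩
  -- a vector pairing nontrivially with `u`
  obtain ⟨v, hv⟩ : ∃ v : V, B u v ≠ 0 := by
    by_contra hc
    push Not at hc
    exact hu0 (hB.1 u hc)
  set a := B w1 w1 with ha
  set b := B w1 (g w1) with hb
  have hb' : B (g w1) w1 = b := hadj w1 w1
  have hgg : B (g w1) (g w1) = lam * a := by rw [hadj, hg, map_smul, smul_eq_mul]
  have hD : lam * a ^ 2 - b ^ 2 ≠ 0 := by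
    intro h
    apply hlam
    refine ⟨b / a, ?_⟩
    field_simp
    linear_combination h
  set c1 := B w1 v with hc1
  set c2 := B (g w1) v with hc2
  set s := (lam * a * c1 - b * c2) / (lam * a ^ 2 - b ^ 2) with hs
  set t := (a * c2 - b * c1) / (lam * a ^ 2 - b ^ 2) with ht
  set v' := v - s • w1 - t • g w1 with hv'
  have hv'1 : B w1 v' = 0 := by
    rw [hv', map_sub, map_sub, map_smul, map_smul, smul_eq_mul, smul_eq_mul, ← ha, ← hb, ← hc1,
      hs, ht]
    field_simp
    ring
  have hv'2 : B (g w1) v' = 0 := by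
    rw [hv', map_sub, map_sub, map_smul, map_smul, smul_eq_mul, smul_eq_mul, hb', hgg, ← hc2,
      hs, ht]
    field_simp
    ring
  have huv' : B u v' = B u v := by
    rw [hv', map_sub, map_sub, map_smul, map_smul, hS.eq u w1, hS.eq u (g w1), hu1, hu2]
    simp
  have e1 : B u u = 0 := hcon u hu1 hu2
  have e2 : B v' v' = 0 := hcon v' hv'1 hv'2
  have e3 : B (u + v') (u + v') = 0 :=
    hcon (u + v') (by rw [map_add, hu1, hv'1, add_zero]) (by rw [map_add, hu2, hv'2, add_zero])
  simp only [map_add, LinearMap.add_apply] at e3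
  rw [e1, e2, hS.eq v' u, huv'] at e3
  apply hv
  have : (2 : F) * B u v = 0 := by linear_combination e3
  rcases mul_eq_zero.mp this with h | h
  · exact absurd h h2
  · exact h

end Real

/-- Step 3: the binary form `c1 k1² + c2 k2²` over the quadratic extension is universal -/
theorem h35_binary_universal {F : Type*} [Field F] [Finite F] (h2 : (2 : F) ≠ 0) (lam : F) (hlam : ¬ IsSquare lam)
    (c1 c2 d : QuadraticAlgebra F lam 0) (hc1 : c1 ≠ 0) (hc2 : c2 ≠ 0) :
    ∃ k1 k2 : QuadraticAlgebra F lam 0, k1 * k1 * c1 + k2 * k2 * c2 = d := by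
  have hfact : Fact (∀ r : F, r ^ 2 ≠ lam + 0 * r) :=
    ⟨fun r hr => hlam ⟨r, by linear_combination -hr⟩⟩
  cases nonempty_fintype F
  let _ : Fintype (QuadraticAlgebra F lam 0) :=
    Fintype.ofEquiv (F × F) (QuadraticAlgebra.equivProd lam 0).symm
  have hcard : Fintype.card (QuadraticAlgebra F lam 0) = Fintype.card F * Fintype.card F := by
    rw [Fintype.ofEquiv_card, Fintype.card_prod]
  have hoddF : Fintype.card F % 2 = 1 := by
    apply FiniteField.odd_card_of_char_ne_two
    intro h
    have : CharP F 2 := by rw [← h]; exact ringChar.charP F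
    exact h2 (by exact_mod_cast CharP.cast_eq_zero F 2)
  have hodd : Fintype.card (QuadraticAlgebra F lam 0) % 2 = 1 := by
    rw [hcard, Nat.mul_mod, hoddF]
  have hf : degree (C c1 * X ^ 2 : (QuadraticAlgebra F lam 0)[X]) = 2 :=
    degree_C_mul_X_pow 2 hc1
  have hg' : degree (C c2 * X ^ 2 - C d : (QuadraticAlgebra F lam 0)[X]) = 2 := by
    have h0 : degree (C c2 * X ^ 2 : (QuadraticAlgebra F lam 0)[X]) = 2 :=
      degree_C_mul_X_pow 2 hc2
    rw [degree_sub_C (by rw [h0]; decide), h0]
  obtain ⟨k1, k2, hk⟩ := FiniteField.exists_root_sum_quadratic hf hg' hodd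
  refine ⟨k1, k2, ?_⟩
  simp only [eval_mul, eval_C, eval_pow, eval_X, eval_sub] at hk
  linear_combination hk

/-- (GI-REAL) a self-adjoint operator `g` with `g² = lam` (non-square) on a nondegenerate symmetric
bilinear space of dimension at least four over a finite field of odd characteristic has a
non-isotropic vector `x` with `B x (g x) = 0` -/
theorem exists_real_vector {F V : Type*} [Field F] [Finite F] [AddCommGroup V] [Module F V]
    [FiniteDimensional F V] (h2 : (2 : F) ≠ 0) (B : LinearMap.BilinForm F V) (hS : B.IsSymm)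
    (hB : B.Nondegenerate) (g : V →ₗ[F] V) (lam : F) (hlam : ¬ IsSquare lam)
    (hg : ∀ v, g (g v) = lam • v) (hadj : ∀ u v, B (g u) v = B u (g v))
    (hdim : 4 ≤ finrank F V) : ∃ x : V, B x (g x) = 0 ∧ B x x ≠ 0 := by
  have hnt : Nontrivial V := Module.nontrivial_of_finrank_pos (R := F) (by omega)
  obtain ⟨w1, hw1⟩ := h35_exists_nonisotropic h2 B hS hB
  obtain ⟨w2, P1, P2, hw2⟩ :=
    h35_exists_nonisotropic_orth h2 B hS hB g lam hlam hg hadj (by omega) w1 hw1
  have hc1 : h35_xi B g lam w1 ≠ 0 := by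
    intro h
    apply hw1
    have := congrArg QuadraticAlgebra.im h
    simpa [h35_xi] using this
  have hc2 : h35_xi B g lam w2 ≠ 0 := by
    intro h
    apply hw2
    have := congrArg QuadraticAlgebra.im h
    simpa [h35_xi] using this
  obtain ⟨k1, k2, hk⟩ := h35_binary_universal h2 lam hlam (h35_xi B g lam w1) (h35_xi B g lam w2)
    ⟨0, 1⟩ hc1 hc2
  obtain ⟨o1, o2⟩ := h35_act_orth B g lam hg hadj P1 P2 k1 k2
  have hx : h35_xi B g lam (h35_act g lam k1 w1 + h35_act g lam k2 w2) = ⟨0, 1⟩ := by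
    rw [h35_xi_add B hS g lam hadj _ _ o1 o2, h35_xi_act B g lam hg hadj, h35_xi_act B g lam hg hadj,
      hk]
  refine ⟨h35_act g lam k1 w1 + h35_act g lam k2 w2, ?_, ?_⟩
  · have := congrArg QuadraticAlgebra.re hx
    simpa [h35_xi] using this
  · have := congrArg QuadraticAlgebra.im hx
    have h1 : B (h35_act g lam k1 w1 + h35_act g lam k2 w2)
        (h35_act g lam k1 w1 + h35_act g lam k2 w2) = 1 := by
      simpa [h35_xi] using this
    rw [h1]
    exact one_ne_zero


end Cfsg.Agent.Lib.Helper37.GraphInv
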