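import Cfsg.Agent.Lib.Helper11.Glauberman

set_option autoImplicit false

/-! Rank part of the Glauberman replacement: `|Ω₁(A)| ≤ |Ω₁(A*)|`. -/

namespace Cfsg.Agent.Lib.Helper35.GlRank

open Cfsg.Agent.Lib.Helper11

variable {S : Type*} [Group S]

theorem mem_omegaOne_of {p : ℕ} (Z : Subgroup S) {a : S} (ha : a ∈ Z) (hap : a ^ p = 1) :
    a ∈ Cfsg.omegaOne p Z := Subgroup.subset_closure ⟨ha, hap⟩

theorem omegaOne_mem_of_comm {p : ℕ} (Z : Subgroup S) (hZ : ∀ x ∈ Z, ∀ y ∈ Z, x * y = y * x) :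
    ∀ a ∈ Cfsg.omegaOne p Z, a ∈ Z ∧ a ^ p = 1 := by
  intro a ha
  unfold Cfsg.omegaOne at ha
  induction ha using Subgroup.closure_induction with
  | mem g hg => exact hg
  | one => exact ⟨one_mem _, one_pow _⟩
  | mul u v hu hv ihu ihv =>
    refine ⟨mul_mem ihu.1 ihv.1, ?_⟩
    have hc : Commute u v := hZ u ihu.1 v ihv.1
    rw [hc.mul_pow, ihu.2, ihv.2, one_mul]
  | inv u hu ihu => exact ⟨inv_mem ihu.1, by rw [inv_pow, ihu.2, inv_one]⟩

variable {A B : Subgroup S} {b : S}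

/-- a generator `[a, b]` built from an element `a` with `a ^ e = 1` (`e` odd) has `e`-th power one -/
theorem rGens_pow_of_pow [Finite S] (h : RSetup A B b) (e : ℕ) (he : Odd e)
    {a : S} (ha : a ∈ A) (hae : a ^ e = 1) : (a * b⁻¹ * a⁻¹ * b) ^ e = 1 := by
  set y := b⁻¹ * a⁻¹ * b with hy
  have hyA1 : y ∈ rA1 A b := by
    rw [mem_rA1]
    have : b * y * b⁻¹ = a⁻¹ := by rw [hy]; group
    rw [this]; exact inv_mem ha
  set c := y * a * y⁻¹ * a⁻¹ with hc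
  have hyay : y * a * y⁻¹ ∈ A := conj_mem_of_mem_normalizer (h.A1_le_N hyA1) ha
  have hcA : c ∈ A := mul_mem hyay (inv_mem ha)
  have hcA1 : c ∈ rA1 A b := by
    have h1 := h.N_conj_A1 (Subgroup.le_normalizer ha) (inv_mem hyA1)
    have : c = y * (a * y⁻¹ * a⁻¹) := by rw [hc]; group
    rw [this]
    exact mul_mem hyA1 h1
  have hcZ : c ∈ rZ A b := Subgroup.mem_inf.mpr ⟨hcA, hcA1⟩
  have hcx : Commute c a := h.rZ_comm_sup c hcZ a (le_sup_left (b := rA1 A b) ha)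
  have hcy : Commute c y := h.rZ_comm_sup c hcZ y (le_sup_right (a := A) hyA1)
  have hyx : y * a = c * a * y := by rw [hc]; group
  have hform := mul_pow_of_commute_commutator a y c hyx hcx hcy e
  have hg : a * b⁻¹ * a⁻¹ * b = a * y := by rw [hy]; group
  rw [hg, hform, hae]
  have hye : y ^ e = 1 := by
    have : y = b⁻¹ * a⁻¹ * b⁻¹⁻¹ := by rw [hy]; group
    rw [this, conj_pow, inv_pow, hae]; group
  have hce : c ^ e = 1 := by
    have hcomm : Commute (y * a * y⁻¹) a⁻¹ := h.2.1 _ hyay _ (inv_mem ha)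
    rw [hc, hcomm.mul_pow, conj_pow, hae, inv_pow, hae]; group
  obtain ⟨m, hm⟩ := dvd_tri_of_odd e he
  rw [hye, hm, pow_mul, hce]
  simp

/-- the key injectivity: `[a, b]⁻¹ [a', b] ∈ A₁` forces `a⁻¹ a' ∈ A₁` -/
theorem inv_mul_mem_rA1 {a a' z : S} (ha : a ∈ A) (ha' : a' ∈ A) (hz : z ∈ rA1 A b)
    (hzz : (a * b⁻¹ * a⁻¹ * b)⁻¹ * (a' * b⁻¹ * a'⁻¹ * b) = z) : a⁻¹ * a' ∈ rA1 A b := by
  rw [mem_rA1] at hz ⊢
  have : b * (a⁻¹ * a') * b⁻¹ = a⁻¹ * (b * z * b⁻¹) * a' := by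
    rw [← hzz]; group
  rw [this]
  exact mul_mem (mul_mem (inv_mem ha) hz) ha'

theorem card_omegaOne_le [Finite S] (h : RSetup A B b) {p : ℕ} [Fact p.Prime]
    (hp : p ≠ 2) :
    Nat.card (Cfsg.omegaOne p A) ≤ Nat.card (Cfsg.omegaOne p (rStar A b)) := by
  classical
  have hodd : Odd p := (Fact.out : p.Prime).odd_of_ne_two hp
  set E : Subgroup S := Cfsg.omegaOne p A with hE
  have hEmem : ∀ a ∈ E, a ∈ A ∧ a ^ p = 1 := omegaOne_mem_of_comm A h.2.1
  set Z₀ : Subgroup E := (rA1 A b).subgroupOf E with hZ₀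
  have hgen : ∀ a ∈ E, a * b⁻¹ * a⁻¹ * b ∈ Cfsg.omegaOne p (rStar A b) := by
    intro a ha
    obtain ⟨haA, hap⟩ := hEmem a ha
    apply mem_omegaOne_of
    · apply le_sup_right (a := rZ A b)
      exact Subgroup.subset_closure ⟨a, haA, rfl⟩
    · exact rGens_pow_of_pow h p hodd haA hap
  have hz : ∀ z : Z₀, ((z : E) : S) ∈ Cfsg.omegaOne p (rStar A b) := by
    intro z
    obtain ⟨hzA, hzp⟩ := hEmem _ (z : E).2
    have hz1 : ((z : E) : S) ∈ rA1 A b := Subgroup.mem_subgroupOf.mp z.2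
    apply mem_omegaOne_of _ _ hzp
    apply le_sup_left (b := rK A b)
    exact Subgroup.mem_inf.mpr ⟨hzA, hz1⟩
  let f : (E ⧸ Z₀) × Z₀ → Cfsg.omegaOne p (rStar A b) := fun x =>
    ⟨((x.1.out : E) : S) * b⁻¹ * ((x.1.out : E) : S)⁻¹ * b * ((x.2 : E) : S),
      mul_mem (hgen _ (x.1.out : E).2) (hz x.2)⟩
  have hf : Function.Injective f := by
    rintro ⟨q, z⟩ ⟨q', z'⟩ hqq
    have h1 : ((q.out : E) : S) * b⁻¹ * ((q.out : E) : S)⁻¹ * b * ((z : E) : S) =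
        ((q'.out : E) : S) * b⁻¹ * ((q'.out : E) : S)⁻¹ * b * ((z' : E) : S) :=
      congrArg Subtype.val hqq
    have hzz : ((z : E) : S) * ((z' : E) : S)⁻¹ ∈ rA1 A b :=
      mul_mem (Subgroup.mem_subgroupOf.mp z.2) (inv_mem (Subgroup.mem_subgroupOf.mp z'.2))
    have h2 : (((q.out : E) : S) * b⁻¹ * ((q.out : E) : S)⁻¹ * b)⁻¹ *
        (((q'.out : E) : S) * b⁻¹ * ((q'.out : E) : S)⁻¹ * b) =
        ((z : E) : S) * ((z' : E) : S)⁻¹ := by
      have : ((q'.out : E) : S) * b⁻¹ * ((q'.out : E) : S)⁻¹ * b =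
          ((q.out : E) : S) * b⁻¹ * ((q.out : E) : S)⁻¹ * b * ((z : E) : S) * ((z' : E) : S)⁻¹ := by
        rw [h1]; group
      rw [this]; group
    have h3 := inv_mul_mem_rA1 (hEmem _ (q.out : E).2).1 (hEmem _ (q'.out : E).2).1 hzz h2
    have hq : q = q' := by
      rw [← QuotientGroup.out_eq' q, ← QuotientGroup.out_eq' q']
      rw [QuotientGroup.eq]
      exact Subgroup.mem_subgroupOf.mpr h3
    subst hq
    have hz' : ((z : E) : S) = ((z' : E) : S) := mul_left_cancel h1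
    have : z = z' := Subtype.ext (Subtype.ext hz')
    rw [this]
  have hcard : Nat.card ((E ⧸ Z₀) × Z₀) = Nat.card E := by
    rw [Nat.card_prod]
    exact (Subgroup.card_eq_card_quotient_mul_card_subgroup Z₀).symm
  rw [← hcard]
  exact Nat.card_le_card_of_injective f hf

end Cfsg.Agent.Lib.Helper35.GlRank
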