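import Cfsg.Agent.Lib.Helper37.GtDefs2
import Cfsg.Agent.Lib.Helper18.GraphOld
import Cfsg.Prelude.Def_ChevAutomorphisms

/-! # S2734 hive "Gt" (helper37), leaf GT-TAU: core lemmas (helper35)

`taucore_*`: an automorphism of `D₄(F)` of order 3 which is a graph automorphism in the sense of the Prelude agrees
on `D₄(F)` with the triality `sig F` or with its square. -/

set_option autoImplicit false

namespace Cfsg.Agent.Lib.Helper37.Gt

open Cfsg Cfsg.Lie Cfsg.Agent.Lib.Helper36

variable {F : Type*} [Field F]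

/-- the root element `x_r(t)` as an element of the subgroup `D₄(F)` -/
noncomputable def taucore_x (F : Type*) [Field F] (r : ℕ) (t : F) : ↥(chevD4.group F) :=
  ⟨xGL chevD4 hD4 F r t, xGL_mem_group chevD4 hD4 F r t⟩

/-- two homomorphisms from `D₄(F)` agreeing on the fundamental root elements and their negatives are equal -/
theorem taucore_ext {M : Type*} [Group M] (α β : ↥(chevD4.group F) →* M)
    (h : ∀ (i : Fin 4) (t : F), α (taucore_x F (chevD4.simple i) t) = β (taucore_x F (chevD4.simple i) t) ∧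
      α (taucore_x F (chevD4.neg (chevD4.simple i)) t) = β (taucore_x F (chevD4.neg (chevD4.simple i)) t)) :
    α = β := by
  set E : Subgroup (GL chevD4.Idx F) := (MonoidHom.eqLocus α β).map (chevD4.group F).subtype with hE
  have hle : chevD4.group F ≤ E := by
    rw [Cfsg.Agent.Lib.Helper18.GO.group_eq_closure_simple chevD4 hD4 F, Subgroup.closure_le]
    rintro g ⟨i, hi, t, hg | hg⟩
    · have e : g = xGL chevD4 hD4 F (chevD4.simple i) t := Units.ext (by rw [hg, xGL_coe])
      rw [e]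
      exact ⟨taucore_x F (chevD4.simple i) t, (h ⟨i, hi⟩ t).1, rfl⟩
    · have e : g = xGL chevD4 hD4 F (chevD4.neg (chevD4.simple i)) t := Units.ext (by rw [hg, xGL_coe])
      rw [e]
      exact ⟨taucore_x F (chevD4.neg (chevD4.simple i)) t, (h ⟨i, hi⟩ t).2, rfl⟩
  apply MonoidHom.ext
  intro y
  obtain ⟨z, hz, hzy⟩ := hle y.2
  have : z = y := Subtype.ext hzy
  rw [← this]
  exact hz

/-- `τ` permutes the fundamental root elements (and their negatives) as `p` does -/
def taucore_P (τ : MulAut ↥(chevD4.group F)) (p : Fin 4 → Fin 4) : Prop :=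
  ∀ (i : Fin 4) (t : F), τ (taucore_x F (chevD4.simple i) t) = taucore_x F (chevD4.simple (p i)) t ∧
    τ (taucore_x F (chevD4.neg (chevD4.simple i)) t) = taucore_x F (chevD4.neg (chevD4.simple (p i))) t

theorem taucore_P_mul (τ τ' : MulAut ↥(chevD4.group F)) (p p' : Fin 4 → Fin 4) (h : taucore_P τ p)
    (h' : taucore_P τ' p') : taucore_P (τ' * τ) (p' ∘ p) := by
  intro i t
  refine ⟨?_, ?_⟩
  · rw [MulAut.mul_apply, (h i t).1, (h' (p i) t).1]; rfl
  · rw [MulAut.mul_apply, (h i t).2, (h' (p i) t).2]; rfl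

theorem taucore_P_id (τ : MulAut ↥(chevD4.group F)) (h : taucore_P τ id) : τ = 1 := by
  have := taucore_ext (F := F) τ.toMonoidHom (MonoidHom.id _) (fun i t => ⟨(h i t).1, (h i t).2⟩)
  apply MulEquiv.ext
  intro g
  exact DFunLike.congr_fun this g

theorem taucore_graphExp (c : ℕ) (i j : ℕ) (hj : j < 4) : chevD4.graphExp c i j = 1 := by
  have : chevD4.isLong (chevD4.simple j) = false := by
    interval_cases j <;> decide
  simp [ChevalleyDatum.graphExp, this]

theorem taucore_of_graphAut (τ : MulAut ↥(chevD4.group F)) (hτ : chevD4.IsGraphAut τ) :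
    ∃ π : Equiv.Perm (Fin 4), chevD4.IsDiagramSymmetry π ∧ taucore_P τ π := by
  obtain ⟨π, hπ, h⟩ := hτ
  refine ⟨π, hπ, ?_⟩
  intro i t
  have h1 := (h (taucore_x F (chevD4.simple i) t) i t).1 (xGL_coe chevD4 hD4 F _ t)
  have h2 := (h (taucore_x F (chevD4.neg (chevD4.simple i)) t) i t).2 (xGL_coe chevD4 hD4 F _ t)
  rw [taucore_graphExp _ _ _ (π i).isLt, pow_one] at h1 h2
  refine ⟨?_, ?_⟩
  · apply Subtype.ext; apply Units.ext
    rw [h1]; exact (xGL_coe chevD4 hD4 F _ t).symm
  · apply Subtype.ext; apply Units.ext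
    rw [h2]; exact (xGL_coe chevD4 hD4 F _ t).symm

/-- the diagram symmetries of `D₄`: involutions (incl. the identity), the 3-cycle `ρs = (0 2 3)`, or its inverse -/
theorem taucore_perm (π : Equiv.Perm (Fin 4)) (hπ : chevD4.IsDiagramSymmetry π) :
    (π ∘ π = id) ∨ (∀ i : Fin 4, ((π i : Fin 4) : ℕ) = graphD4.ρs i) ∨
      (∀ i : Fin 4, ((π (π i) : Fin 4) : ℕ) = graphD4.ρs i) := by
  revert π
  unfold ChevalleyDatum.IsDiagramSymmetry
  decide

/-- a `τ` permuting the fundamental root elements as `ρs` agrees with the triality `sig F` -/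
theorem taucore_sig (τ : MulAut ↥(chevD4.group F)) (p : Fin 4 → Fin 4) (hp : ∀ i : Fin 4, ((p i : Fin 4) : ℕ) = graphD4.ρs i)
    (h : taucore_P τ p) (g : ↥(chevD4.group F)) : ((τ g : ↥(chevD4.group F)) : GL chevD4.Idx F) = sig F g := by
  have := taucore_ext (F := F) ((chevD4.group F).subtype.comp τ.toMonoidHom) ((sig F).comp (chevD4.group F).subtype) ?_
  · exact DFunLike.congr_fun this g
  intro i t
  have hs : ∀ i : Fin 4, graphD4.ρ (chevD4.simple i) = chevD4.simple (graphD4.ρs i) ∧ graphD4.ε (chevD4.simple i) = 1 ∧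
      graphD4.ρ (chevD4.neg (chevD4.simple i)) = chevD4.neg (chevD4.simple (graphD4.ρs i)) ∧
      graphD4.ε (chevD4.neg (chevD4.simple i)) = 1 ∧ chevD4.simple i < 24 ∧ chevD4.neg (chevD4.simple i) < 24 := by
    decide
  obtain ⟨e1, e2, e3, e4, e5, e6⟩ := hs i
  refine ⟨?_, ?_⟩
  · show ((τ (taucore_x F (chevD4.simple i) t) : ↥(chevD4.group F)) : GL chevD4.Idx F) =
      sig F (xGL chevD4 hD4 F (chevD4.simple i) t)
    rw [(h i t).1, sigma_xGL chevD4 hD4 graphD4 graphOK_D4 F (RingHom.id F) _ e5, e1, e2, hp i]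
    simp [taucore_x]
  · show ((τ (taucore_x F (chevD4.neg (chevD4.simple i)) t) : ↥(chevD4.group F)) : GL chevD4.Idx F) =
      sig F (xGL chevD4 hD4 F (chevD4.neg (chevD4.simple i)) t)
    rw [(h i t).2, sigma_xGL chevD4 hD4 graphD4 graphOK_D4 F (RingHom.id F) _ e6, e3, e4, hp i]
    simp [taucore_x]

end Cfsg.Agent.Lib.Helper37.Gt
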