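import Mathlib

/-! # S3590 hive (helper94), leaf ISO8B-AFF core (helper35): element orders of `F^(ι × k) ⋊ K`
(Mathlib only). -/

set_option autoImplicit false
set_option linter.style.haveILetI false

namespace Cfsg.Agent.Lib.Helper94.Iso8

open scoped SemidirectProduct

section

variable {F : Type*} [Field F] {ι : Type} [Fintype ι] [DecidableEq ι] (k : ℕ)

/-- left multiplication by an invertible matrix as an additive automorphism of `Matrix ι (Fin k) F` -/
def aff_lmul (g : Matrix.GeneralLinearGroup ι F) : Matrix ι (Fin k) F ≃+ Matrix ι (Fin k) F where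
  toFun X := (g : Matrix ι ι F) * X
  invFun X := ((g⁻¹ : Matrix.GeneralLinearGroup ι F) : Matrix ι ι F) * X
  left_inv X := by
    show ((g⁻¹ : Matrix.GeneralLinearGroup ι F) : Matrix ι ι F) * ((g : Matrix ι ι F) * X) = X
    rw [← Matrix.mul_assoc, ← Units.val_mul, inv_mul_cancel, Units.val_one, Matrix.one_mul]
  right_inv X := by
    show (g : Matrix ι ι F) * (((g⁻¹ : Matrix.GeneralLinearGroup ι F) : Matrix ι ι F) * X) = X
    rw [← Matrix.mul_assoc, ← Units.val_mul, mul_inv_cancel, Units.val_one, Matrix.one_mul]
  map_add' X Y := Matrix.mul_add _ _ _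

theorem aff_lmul_apply (g : Matrix.GeneralLinearGroup ι F) (X : Matrix ι (Fin k) F) :
    aff_lmul k g X = (g : Matrix ι ι F) * X := by rfl

/-- the action of `K` on `Multiplicative (Matrix ι (Fin k) F)` -/
def aff_act (K : Subgroup (Matrix.GeneralLinearGroup ι F)) :
    K →* MulAut (Multiplicative (Matrix ι (Fin k) F)) where
  toFun g := AddEquiv.toMultiplicative (aff_lmul k (g : Matrix.GeneralLinearGroup ι F))
  map_one' := by
    refine MulEquiv.ext (fun X => ?_)
    show Multiplicative.ofAdd (aff_lmul k ((1 : K) : Matrix.GeneralLinearGroup ι F) (Multiplicative.toAdd X)) = X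
    rw [aff_lmul_apply]
    simp
  map_mul' g h := by
    refine MulEquiv.ext (fun X => ?_)
    show Multiplicative.ofAdd (aff_lmul k ((g * h : K) : Matrix.GeneralLinearGroup ι F) (Multiplicative.toAdd X))
      = Multiplicative.ofAdd (aff_lmul k (g : Matrix.GeneralLinearGroup ι F)
          (aff_lmul k (h : Matrix.GeneralLinearGroup ι F) (Multiplicative.toAdd X)))
    rw [aff_lmul_apply, aff_lmul_apply, aff_lmul_apply]
    simp [Matrix.mul_assoc]

theorem aff_act_apply (K : Subgroup (Matrix.GeneralLinearGroup ι F)) (g : K)
    (X : Multiplicative (Matrix ι (Fin k) F)) :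
    Multiplicative.toAdd (aff_act k K g X)
      = ((g : Matrix.GeneralLinearGroup ι F) : Matrix ι ι F) * Multiplicative.toAdd X := by rfl

/-- the affine group -/
abbrev aff_H (K : Subgroup (Matrix.GeneralLinearGroup ι F)) : Type _ :=
  Multiplicative (Matrix ι (Fin k) F) ⋊[aff_act k K] K

theorem aff_pow_right (K : Subgroup (Matrix.GeneralLinearGroup ι F)) (x : aff_H k K) (n : ℕ) :
    (x ^ n).right = x.right ^ n := by
  have := map_pow (SemidirectProduct.rightHom : aff_H k K →* K) x n
  simpa using this

theorem aff_pow_left (K : Subgroup (Matrix.GeneralLinearGroup ι F)) (x : aff_H k K) (n : ℕ) :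
    Multiplicative.toAdd (x ^ n).left
      = (∑ i ∈ Finset.range n, (((x.right : K) : Matrix.GeneralLinearGroup ι F) : Matrix ι ι F) ^ i)
          * Multiplicative.toAdd x.left := by
  induction n with
  | zero => simp
  | succ n ih =>
    rw [pow_succ, SemidirectProduct.mul_left, toAdd_mul, ih, aff_pow_right, aff_act_apply,
      Finset.sum_range_succ, Matrix.add_mul]
    simp

end

section main

variable {F : Type*} [Field F] [Fintype F] [CharP F 2] {ι : Type} [Fintype ι] [DecidableEq ι]

theorem aff_orderOf (k : ℕ) (K : Subgroup (Matrix.GeneralLinearGroup ι F)) (x : aff_H k K) :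
    (((∑ i ∈ Finset.range (orderOf x.right),
        (((x.right : K) : Matrix.GeneralLinearGroup ι F) : Matrix ι ι F) ^ i)
          * Multiplicative.toAdd x.left = 0) → orderOf x = orderOf x.right) ∧
    (((∑ i ∈ Finset.range (orderOf x.right),
        (((x.right : K) : Matrix.GeneralLinearGroup ι F) : Matrix ι ι F) ^ i)
          * Multiplicative.toAdd x.left ≠ 0) → orderOf x = 2 * orderOf x.right) := by
  classical
  haveI : Finite (aff_H k K) := Finite.of_equiv _ SemidirectProduct.equivProd.symm
  set m := orderOf x.right with hm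
  have hm0 : m ≠ 0 := (orderOf_pos x.right).ne'
  have hdvd : m ∣ orderOf x := by
    have := orderOf_map_dvd (SemidirectProduct.rightHom : aff_H k K →* K) x
    simpa using this
  have hord : orderOf (x ^ m) = orderOf x / m := orderOf_pow_of_dvd hm0 hdvd
  have hx : orderOf x = m * orderOf (x ^ m) := by
    rw [hord, Nat.mul_div_cancel' hdvd]
  have hr : (x ^ m).right = 1 := by rw [aff_pow_right, hm, pow_orderOf_eq_one]
  have hl := aff_pow_left k K x m
  constructor
  · intro h0
    have h1 : x ^ m = 1 := by
      apply SemidirectProduct.ext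
      · rw [SemidirectProduct.one_left]
        have : Multiplicative.toAdd (x ^ m).left = 0 := by rw [hl]; exact h0
        exact Multiplicative.toAdd.injective (by rw [this]; rfl)
      · rw [hr, SemidirectProduct.one_right]
    rw [hx, h1, orderOf_one, mul_one]
  · intro h0
    have h1 : x ^ m ≠ 1 := by
      intro h
      apply h0
      rw [← hl, h, SemidirectProduct.one_left]
      rfl
    have h2 : (x ^ m) ^ 2 = 1 := by
      apply SemidirectProduct.ext
      · rw [SemidirectProduct.one_left]
        have : Multiplicative.toAdd ((x ^ m) ^ 2).left = 0 := by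
          rw [aff_pow_left, hr]
          simp only [OneMemClass.coe_one, Units.val_one, one_pow, Finset.sum_const, Finset.card_range]
          rw [Matrix.smul_mul, Matrix.one_mul, two_smul]
          have : ∀ Y : Matrix ι (Fin k) F, Y + Y = 0 := by
            intro Y
            rw [← two_smul F Y, CharTwo.two_eq_zero, zero_smul]
          exact this _
        exact Multiplicative.toAdd.injective (by rw [this]; rfl)
      · rw [aff_pow_right, hr, one_pow, SemidirectProduct.one_right]
    have h3 : orderOf (x ^ m) = 2 := orderOf_eq_prime h2 h1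
    rw [hx, h3, mul_comm]

theorem aff_core [Nonempty ι] (K : Subgroup (Matrix.GeneralLinearGroup ι F)) (k : ℕ) (hk : 1 ≤ k) :
    ∃ (H : Type) (_ : Group H) (_ : Fintype H), 2 ^ k ≤ Fintype.card H ∧
      Set.range (orderOf : H → ℕ) = {n | ∃ g : K, n = orderOf g ∨
        (n = 2 * orderOf g ∧
          (∑ i ∈ Finset.range (orderOf g),
            ((g : Matrix.GeneralLinearGroup ι F) : Matrix ι ι F) ^ i) ≠ 0)} := by
  classical
  haveI : Fintype K := Fintype.ofFinite K
  haveI : Fintype (aff_H k K) := Fintype.ofEquiv _ SemidirectProduct.equivProd.symm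
  -- the range of `orderOf` on `aff_H k K`
  have hrange : Set.range (orderOf : aff_H k K → ℕ) = {n | ∃ g : K, n = orderOf g ∨
        (n = 2 * orderOf g ∧
          (∑ i ∈ Finset.range (orderOf g),
            ((g : Matrix.GeneralLinearGroup ι F) : Matrix ι ι F) ^ i) ≠ 0)} := by
    ext n
    constructor
    · rintro ⟨x, rfl⟩
      obtain ⟨ha, hb⟩ := aff_orderOf k K x
      by_cases h0 : (∑ i ∈ Finset.range (orderOf x.right),
          (((x.right : K) : Matrix.GeneralLinearGroup ι F) : Matrix ι ι F) ^ i)
            * Multiplicative.toAdd x.left = 0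
      · exact ⟨x.right, Or.inl (ha h0)⟩
      · refine ⟨x.right, Or.inr ⟨hb h0, ?_⟩⟩
        intro hS
        apply h0
        rw [hS, Matrix.zero_mul]
    · rintro ⟨g, rfl | ⟨rfl, hS⟩⟩
      · refine ⟨SemidirectProduct.inr g, ?_⟩
        exact orderOf_injective (SemidirectProduct.inr : K →* aff_H k K)
          SemidirectProduct.inr_injective g
      · -- choose `X` with `S * X ≠ 0`
        set S : Matrix ι ι F := ∑ i ∈ Finset.range (orderOf g),
            ((g : Matrix.GeneralLinearGroup ι F) : Matrix ι ι F) ^ i with hSdef
        have : ∃ i j, S i j ≠ 0 := by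
          by_contra hcon
          push Not at hcon
          apply hS
          ext i j
          exact hcon i j
        obtain ⟨i, j, hij⟩ := this
        let X : Matrix ι (Fin k) F := fun a _ => if a = j then 1 else 0
        have hSX : S * X ≠ 0 := by
          intro h
          apply hij
          have := congrFun (congrFun h i) ⟨0, hk⟩
          rw [Matrix.mul_apply] at this
          simp only [X, mul_ite, mul_one, mul_zero, Finset.sum_ite_eq', Finset.mem_univ,
            if_true] at this
          simpa using this
        let x : aff_H k K := ⟨Multiplicative.ofAdd X, g⟩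
        refine ⟨x, ?_⟩
        obtain ⟨-, hb⟩ := aff_orderOf k K x
        exact hb hSX
  -- transport to `Fin n`
  let e : Fin (Fintype.card (aff_H k K)) ≃ aff_H k K := (Fintype.equivFin (aff_H k K)).symm
  letI : Group (Fin (Fintype.card (aff_H k K))) := e.group
  refine ⟨Fin (Fintype.card (aff_H k K)), e.group, inferInstance, ?_, ?_⟩
  · rw [Fintype.card_fin, Fintype.card_congr (SemidirectProduct.equivProd :
      aff_H k K ≃ Multiplicative (Matrix ι (Fin k) F) × K), Fintype.card_prod]
    have hK : 1 ≤ Fintype.card K := Fintype.card_pos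
    have hM : 2 ^ k ≤ Fintype.card (Multiplicative (Matrix ι (Fin k) F)) := by
      have h1 : Fintype.card (Multiplicative (Matrix ι (Fin k) F))
          = (Fintype.card F ^ k) ^ Fintype.card ι := by
        rw [Fintype.card_congr (Multiplicative.toAdd : Multiplicative (Matrix ι (Fin k) F) ≃ _)]
        show Fintype.card (ι → Fin k → F) = _
        rw [Fintype.card_fun, Fintype.card_fun, Fintype.card_fin]
      rw [h1]
      have h2 : 2 ≤ Fintype.card F := Fintype.one_lt_card
      have h3 : 1 ≤ Fintype.card ι := Fintype.card_pos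
      calc 2 ^ k ≤ Fintype.card F ^ k := Nat.pow_le_pow_left h2 k
        _ = (Fintype.card F ^ k) ^ 1 := (pow_one _).symm
        _ ≤ (Fintype.card F ^ k) ^ Fintype.card ι :=
            Nat.pow_le_pow_right (pow_pos (by omega) k) h3
    calc 2 ^ k ≤ Fintype.card (Multiplicative (Matrix ι (Fin k) F)) := hM
      _ = Fintype.card (Multiplicative (Matrix ι (Fin k) F)) * 1 := (mul_one _).symm
      _ ≤ _ := Nat.mul_le_mul_left _ hK
  · rw [← hrange]
    ext n
    constructor
    · rintro ⟨y, rfl⟩
      exact ⟨e y, (MulEquiv.orderOf_eq e.mulEquiv y)⟩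
    · rintro ⟨x, rfl⟩
      exact ⟨e.symm x, by
        have := MulEquiv.orderOf_eq e.mulEquiv (e.symm x)
        rw [← this]
        simp [Equiv.mulEquiv]⟩

end main

end Cfsg.Agent.Lib.Helper94.Iso8
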