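import Mathlib
import Cfsg.Agent.Lib.Helper94.Iso8bDefs
import Cfsg.Agent.Lib.Helper35.Iso8bAFFcore

/-! # S3590 hive (helper94), leaf ISO8B-AFF (helper35): element orders of `F^(ι × k) ⋊ K` -/

set_option autoImplicit false

namespace Cfsg.Agent.Lib.Helper94.Iso8

/-- ISO8B-AFF (element orders of `F^(ι × k) ⋊ K`): `(X, g)^n = (Σ_{i<n} g^i X, g^n)`, so the order of
`(X, g)` is `|g|` if `nsum g |g| * X = 0` and `2 |g|` otherwise. -/
theorem exists_affine_group {F : Type*} [Field F] [Fintype F] [CharP F 2] {ι : Type} [Fintype ι]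
    [DecidableEq ι] [Nonempty ι] (K : Subgroup (Matrix.GeneralLinearGroup ι F)) (k : ℕ) (hk : 1 ≤ k) :
    ∃ (H : Type) (_ : Group H) (_ : Fintype H), 2 ^ k ≤ Fintype.card H ∧
      Set.range (orderOf : H → ℕ) = {n | ∃ g : K, n = orderOf g ∨
        (n = 2 * orderOf g ∧
          nsum ((g : Matrix.GeneralLinearGroup ι F) : Matrix ι ι F) (orderOf g) ≠ 0)} :=
  aff_core K k hk

end Cfsg.Agent.Lib.Helper94.Iso8
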