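import Mathlib

set_option autoImplicit false

/-! Derived length of finite linear `p`-groups: basic tools (restriction to an invariant
subspace and to the quotient, fixed vectors in characteristic `p`). -/

namespace Cfsg.Agent.Lib.Helper35.LinDL

open Module
open scoped commutatorElement

universe u v w

variable {K : Type w} [Field K] {Q : Type u} [Group Q] {V : Type v} [AddCommGroup V] [Module K V]

/-- if `Q / M` is abelian, the derived series of `Q` is, after one step, inside that of `M` -/
theorem derivedSeries_succ_le_map (M : Subgroup Q) (h : commutator Q ≤ M) (k : ℕ) :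
    derivedSeries Q (k + 1) ≤ (derivedSeries ↥M k).map M.subtype := by
  induction k with
  | zero =>
    rw [derivedSeries_succ, derivedSeries_zero, derivedSeries_zero, ← MonoidHom.range_eq_map,
      Subgroup.range_subtype]
    exact h
  | succ k ih =>
    rw [derivedSeries_succ, derivedSeries_succ (G := ↥M), Subgroup.map_commutator]
    exact Subgroup.commutator_mono ih ih

/-- elements acting trivially on an invariant subspace and on the quotient -/
theorem apply_sub_mem (ρ : Representation K Q V) (W : Submodule K V)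
    (hW : ∀ g, W ≤ W.comap (ρ g)) {x : Q} (hx : x ∈ MonoidHom.ker (ρ.quotient W hW)) (v : V) :
    ρ x v - v ∈ W := by
  rw [MonoidHom.mem_ker] at hx
  have h1 := LinearMap.congr_fun hx (W.mkQ v)
  rw [Representation.quotient_apply] at h1
  simp only [Submodule.mkQ_apply, Submodule.mapQ_apply, Module.End.one_apply] at h1
  exact (Submodule.Quotient.eq W).mp h1

theorem apply_eq_self (ρ : Representation K Q V) (W : Submodule K V)
    (hW : ∀ g, W ≤ W.comap (ρ g)) {x : Q} (hx : x ∈ MonoidHom.ker (ρ.subrepresentation W hW))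
    {w : V} (hw : w ∈ W) : ρ x w = w := by
  rw [MonoidHom.mem_ker] at hx
  have h1 := LinearMap.congr_fun hx ⟨w, hw⟩
  have h2 := congrArg Subtype.val h1
  simpa using h2

/-- the common kernel of the actions on `W` and `V ⧸ W` is abelian modulo the kernel on `V` -/
theorem commutator_mem_ker (ρ : Representation K Q V) (W : Submodule K V)
    (hW : ∀ g, W ≤ W.comap (ρ g)) {x y : Q}
    (hx₁ : x ∈ MonoidHom.ker (ρ.subrepresentation W hW))
    (hx₂ : x ∈ MonoidHom.ker (ρ.quotient W hW))
    (hy₁ : y ∈ MonoidHom.ker (ρ.subrepresentation W hW))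
    (hy₂ : y ∈ MonoidHom.ker (ρ.quotient W hW)) : ⁅x, y⁆ ∈ MonoidHom.ker ρ := by
  have key : ρ (x * y) = ρ (y * x) := by
    ext v
    rw [map_mul, map_mul, Module.End.mul_apply, Module.End.mul_apply]
    have h1 : ρ x (ρ y v) = ρ x v + (ρ y v - v) := by
      have : ρ y v = v + (ρ y v - v) := by abel
      conv_lhs => rw [this]
      rw [map_add, apply_eq_self ρ W hW hx₁ (apply_sub_mem ρ W hW hy₂ v)]
    have h2 : ρ y (ρ x v) = ρ y v + (ρ x v - v) := by
      have : ρ x v = v + (ρ x v - v) := by abel
      conv_lhs => rw [this]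
      rw [map_add, apply_eq_self ρ W hW hy₁ (apply_sub_mem ρ W hW hx₂ v)]
    rw [h1, h2]
    abel
  rw [MonoidHom.mem_ker]
  have h3 : ⁅x, y⁆ = (x * y) * (y * x)⁻¹ := by
    rw [commutatorElement_def]; group
  rw [h3, map_mul, key, ← map_mul, mul_inv_cancel, map_one]

/-- the derived series step through an invariant subspace -/
theorem derivedSeries_succ_le_ker (ρ : Representation K Q V) (W : Submodule K V)
    (hW : ∀ g, W ≤ W.comap (ρ g)) (a : ℕ)
    (h₁ : derivedSeries Q a ≤ MonoidHom.ker (ρ.subrepresentation W hW))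
    (h₂ : derivedSeries Q a ≤ MonoidHom.ker (ρ.quotient W hW)) :
    derivedSeries Q (a + 1) ≤ MonoidHom.ker ρ := by
  rw [derivedSeries_succ, Subgroup.commutator_le]
  intro x hx y hy
  exact commutator_mem_ker ρ W hW (h₁ hx) (h₂ hx) (h₁ hy) (h₂ hy)

/-- in characteristic different from `p`, a `p`-element acting trivially on an invariant
subspace and on the quotient acts trivially -/
theorem mem_ker_of_pow (ρ : Representation K Q V) (W : Submodule K V)
    (hW : ∀ g, W ≤ W.comap (ρ g)) {p : ℕ} (hpK : (p : K) ≠ 0) {x : Q} (k : ℕ)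
    (hxp : x ^ p ^ k = 1)
    (hx₁ : x ∈ MonoidHom.ker (ρ.subrepresentation W hW))
    (hx₂ : x ∈ MonoidHom.ker (ρ.quotient W hW)) : x ∈ MonoidHom.ker ρ := by
  rw [MonoidHom.mem_ker]
  ext v
  have hpow : ∀ m : ℕ, ρ (x ^ m) v = v + m • (ρ x v - v) := by
    intro m
    induction m with
    | zero => simp
    | succ m ih =>
      rw [pow_succ, map_mul, Module.End.mul_apply]
      have h1 : ρ (x ^ m) (ρ x v) = ρ (x ^ m) v + (ρ x v - v) := by
        have : ρ x v = v + (ρ x v - v) := by abel
        conv_lhs => rw [this]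
        rw [map_add]
        congr 1
        have hmem : x ^ m ∈ MonoidHom.ker (ρ.subrepresentation W hW) := Subgroup.pow_mem _ hx₁ m
        exact apply_eq_self ρ W hW hmem (apply_sub_mem ρ W hW hx₂ v)
      rw [h1, ih, succ_nsmul]
      abel
  have h2 := hpow (p ^ k)
  rw [hxp, map_one, Module.End.one_apply] at h2
  have h3 : (p ^ k : ℕ) • (ρ x v - v) = 0 := by
    have : v + (p ^ k : ℕ) • (ρ x v - v) = v + 0 := by rw [add_zero]; exact h2.symm
    exact add_left_cancel this
  have h4 : ((p ^ k : ℕ) : K) • (ρ x v - v) = 0 := by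
    rw [Nat.cast_smul_eq_nsmul]; exact h3
  have h5 : ((p ^ k : ℕ) : K) ≠ 0 := by
    rw [Nat.cast_pow]; exact pow_ne_zero _ hpK
  have h6 := (smul_eq_zero.mp h4).resolve_left h5
  rw [Module.End.one_apply]
  exact sub_eq_zero.mp h6

/-- **fixed vectors**: a finite `p`-group acting linearly on a nonzero space over a field of
characteristic `p` fixes a nonzero vector -/
theorem exists_fixed_ne_zero [Finite Q] {p : ℕ} [hp : Fact p.Prime] (hQ : IsPGroup p Q)
    (hpK : (p : K) = 0) (ρ : Representation K Q V) [Nontrivial V] :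
    ∃ v : V, v ≠ 0 ∧ ∀ g, ρ g v = v := by
  obtain ⟨v₀, hv₀⟩ := exists_ne (0 : V)
  obtain ⟨S, hS⟩ : ∃ S : Set V, S = Set.range (fun g : Q => ρ g v₀) := ⟨_, rfl⟩
  have hSfin : S.Finite := by rw [hS]; exact Set.finite_range _
  obtain ⟨U, hU⟩ : ∃ U : AddSubgroup V, U = AddSubgroup.closure S := ⟨_, rfl⟩
  have hpV : ∀ u : V, p • u = 0 := by
    intro u
    rw [← Nat.cast_smul_eq_nsmul K, hpK, zero_smul]
  have hinv : ∀ g : Q, ∀ u ∈ U, ρ g u ∈ U := by
    intro g u hu
    rw [hU] at hu ⊢
    induction hu using AddSubgroup.closure_induction with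
    | mem s hs =>
      rw [hS] at hs
      obtain ⟨h, rfl⟩ := hs
      apply AddSubgroup.subset_closure
      rw [hS]
      exact ⟨g * h, by simp [map_mul]⟩
    | zero => rw [map_zero]; exact zero_mem _
    | add a b _ _ ha hb => rw [map_add]; exact add_mem ha hb
    | neg a _ ha => rw [map_neg]; exact neg_mem ha
  have hv₀U : v₀ ∈ U := by
    rw [hU]
    apply AddSubgroup.subset_closure
    rw [hS]
    exact ⟨1, by simp⟩
  have hfg : AddGroup.FG ↥U := by
    rw [AddGroup.fg_iff_addSubgroup_fg, AddSubgroup.fg_iff]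
    exact ⟨S, hU.symm, hSfin⟩
  have htors : IsAddTorsion ↥U := by
    intro u
    rw [isOfFinAddOrder_iff_nsmul_eq_zero]
    refine ⟨p, hp.out.pos, ?_⟩
    apply Subtype.ext
    simpa using hpV u
  have hfin : Finite ↥U := AddCommGroup.finite_of_fg_isAddTorsion ↥U htors
  let act : MulAction Q ↥U :=
    { smul := fun g u => ⟨ρ g u, hinv g u u.2⟩
      one_smul := fun u => Subtype.ext (by change ρ 1 (u : V) = u; simp)
      mul_smul := fun g h u => Subtype.ext (by
        change ρ (g * h) (u : V) = ρ g (ρ h (u : V)); simp [map_mul]) }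
  have hsmul : ∀ (g : Q) (u : ↥U), ((g • u : ↥U) : V) = ρ g u := fun _ _ => rfl
  have h0 : (0 : ↥U) ∈ MulAction.fixedPoints Q ↥U := by
    intro g
    apply Subtype.ext
    rw [hsmul]
    simp
  have hdvd : p ∣ Nat.card ↥U := by
    have h1 : addOrderOf (⟨v₀, hv₀U⟩ : ↥U) = p := by
      apply addOrderOf_eq_prime
      · apply Subtype.ext
        simpa using hpV v₀
      · intro h
        exact hv₀ (congrArg Subtype.val h)
    rw [← h1]
    exact addOrderOf_dvd_natCard _
  obtain ⟨b, hb, hb0⟩ := hQ.exists_fixed_point_of_prime_dvd_card_of_fixed_point ↥U hdvd h0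
  refine ⟨(b : V), ?_, ?_⟩
  · intro h
    apply hb0
    apply Subtype.ext
    exact h.symm
  · intro g
    have := hb g
    rw [← hsmul, this]

end Cfsg.Agent.Lib.Helper35.LinDL
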