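import Mathlib
import Cfsg.Agent.Lib.Helper35.LinDLBasic

set_option autoImplicit false

/-! Derived length of finite linear `p`-groups in characteristic `p`: at most `clog 2 n`. -/

namespace Cfsg.Agent.Lib.Helper35.LinDL

open Module
open scoped commutatorElement

universe u v w

variable {K : Type w} [Field K] {Q : Type u} [Group Q]

/-- invariant subspaces of every dimension, for a `p`-group in characteristic `p` -/
theorem exists_invariant_finrank [Finite Q] {p : ℕ} [hp : Fact p.Prime] (hQ : IsPGroup p Q)
    (hpK : (p : K) = 0) {V : Type v} [AddCommGroup V] [Module K V] [FiniteDimensional K V]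
    (ρ : Representation K Q V) :
    ∀ k ≤ finrank K V, ∃ W : Submodule K V, (∀ g, W ≤ W.comap (ρ g)) ∧ finrank K W = k := by
  intro k
  induction k with
  | zero =>
    intro _
    exact ⟨⊥, fun g => bot_le, finrank_bot K V⟩
  | succ k ih =>
    intro hk
    obtain ⟨W, hW, hWk⟩ := ih (by omega)
    have hq := Submodule.finrank_quotient_add_finrank W
    have hpos : 0 < finrank K (V ⧸ W) := by omega
    have hnt : Nontrivial (V ⧸ W) := Module.nontrivial_of_finrank_pos hpos
    obtain ⟨vb, hvb0, hvbfix⟩ := exists_fixed_ne_zero hQ hpK (ρ.quotient W hW)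
    obtain ⟨v, rfl⟩ := W.mkQ_surjective vb
    have hvW : v ∉ W := by
      intro h
      apply hvb0
      rw [Submodule.mkQ_apply]
      exact (Submodule.Quotient.mk_eq_zero W).mpr h
    have hfix : ∀ g, ρ g v - v ∈ W := by
      intro g
      have h1 := hvbfix g
      rw [Representation.quotient_apply] at h1
      simp only [Submodule.mkQ_apply, Submodule.mapQ_apply] at h1
      exact (Submodule.Quotient.eq W).mp h1
    refine ⟨W ⊔ Submodule.span K {v}, ?_, ?_⟩
    · intro g x hx
      rw [Submodule.mem_comap]
      obtain ⟨w, hw, y, hy, rfl⟩ := Submodule.mem_sup.mp hx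
      obtain ⟨c, rfl⟩ := Submodule.mem_span_singleton.mp hy
      rw [map_add, map_smul]
      have h1 : ρ g v = v + (ρ g v - v) := by abel
      rw [h1, smul_add, ← add_assoc, add_right_comm]
      apply Submodule.add_mem
      · apply Submodule.mem_sup_left
        exact W.add_mem (hW g hw) (W.smul_mem c (hfix g))
      · apply Submodule.mem_sup_right
        exact Submodule.smul_mem _ c (Submodule.mem_span_singleton_self v)
    · have hlt : W < W ⊔ Submodule.span K {v} := by
        apply lt_of_le_of_ne le_sup_left
        intro h
        apply hvW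
        rw [h]
        exact Submodule.mem_sup_right (Submodule.mem_span_singleton_self v)
      have h1 := Submodule.finrank_lt_finrank_of_lt hlt
      have h2 := Submodule.finrank_add_le_finrank_add_finrank W (Submodule.span K {v})
      have hv0 : v ≠ 0 := fun h => hvW (h ▸ W.zero_mem)
      have h3 : finrank K (Submodule.span K {v}) = 1 := finrank_span_singleton hv0
      omega

/-- **Characteristic `p`**: the derived length of a finite `p`-group acting on a space of
dimension `n` is at most `clog 2 n` (modulo the kernel of the action). -/
theorem derivedSeries_le_ker_of_char [Finite Q] {p : ℕ} [hp : Fact p.Prime] (hQ : IsPGroup p Q)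
    (hpK : (p : K) = 0) :
    ∀ (n : ℕ) (V : Type v) [AddCommGroup V] [Module K V] [FiniteDimensional K V]
      (ρ : Representation K Q V), finrank K V = n →
      derivedSeries Q (Nat.clog 2 n) ≤ MonoidHom.ker ρ := by
  intro n
  induction n using Nat.strong_induction_on with
  | _ n ih =>
    intro V _ _ _ ρ hn
    rcases Nat.lt_or_ge n 2 with hlt | hge
    · -- dimension 0 or 1: the action is trivial
      have htriv : ∀ g, ρ g = 1 := by
        intro g
        rcases Nat.eq_zero_or_pos n with h0 | hpos
        · rw [h0] at hn
          have hss : Subsingleton V := Module.finrank_zero_iff.mp hn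
          ext v
          exact Subsingleton.elim _ _
        · have h1 : finrank K V = 1 := by omega
          have hnt : Nontrivial V := Module.nontrivial_of_finrank_pos (R := K) (by omega)
          obtain ⟨v, hv0, hvfix⟩ := exists_fixed_ne_zero hQ hpK ρ
          have hspan := (finrank_eq_one_iff_of_nonzero' v hv0).mp h1
          ext u
          obtain ⟨c, rfl⟩ := hspan u
          rw [map_smul, hvfix g, Module.End.one_apply]
      intro g _
      rw [MonoidHom.mem_ker]
      exact htriv g
    · obtain ⟨W, hW, hWk⟩ := exists_invariant_finrank hQ hpK ρ (n / 2) (by omega)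
      have hq := Submodule.finrank_quotient_add_finrank W
      have hq' : finrank K (V ⧸ W) = (n + 1) / 2 := by omega
      have hclog : Nat.clog 2 n = Nat.clog 2 ((n + 1) / 2) + 1 := by
        rw [Nat.clog_of_two_le (by norm_num) hge]
        have : (n + 2 - 1) / 2 = (n + 1) / 2 := by omega
        rw [this]
      have h₁ : derivedSeries Q (Nat.clog 2 ((n + 1) / 2)) ≤
          MonoidHom.ker (ρ.subrepresentation W hW) := by
        refine le_trans (derivedSeries_antitone Q ?_)
          (ih (n / 2) (by omega) ↥W (ρ.subrepresentation W hW) hWk)
        exact Nat.clog_mono_right 2 (by omega)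
      have h₂ : derivedSeries Q (Nat.clog 2 ((n + 1) / 2)) ≤
          MonoidHom.ker (ρ.quotient W hW) :=
        ih ((n + 1) / 2) (by omega) (V ⧸ W) (ρ.quotient W hW) hq'
      rw [hclog]
      exact derivedSeries_succ_le_ker ρ W hW _ h₁ h₂

end Cfsg.Agent.Lib.Helper35.LinDL
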