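import Mathlib
import Cfsg.Agent.Lib.Helper35.LinDLBasic

set_option autoImplicit false

/-! Derived length of finite linear `p`-groups: the irreducible nonabelian step (an element of
the second centre modulo the kernel gives a system of imprimitivity). -/

namespace Cfsg.Agent.Lib.Helper35.LinDL

open Module
open scoped commutatorElement

universe u v w

variable {K : Type w} [Field K] {Q : Type u} [Group Q] {V : Type v} [AddCommGroup V] [Module K V]

theorem rho_mul_inv (ρ : Representation K Q V) (g : Q) : ρ g * ρ g⁻¹ = 1 := by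
  rw [← map_mul, mul_inv_cancel, map_one]

theorem rho_inv_mul (ρ : Representation K Q V) (g : Q) : ρ g⁻¹ * ρ g = 1 := by
  rw [← map_mul, inv_mul_cancel, map_one]

/-- an operator commuting with an irreducible group is a scalar -/
theorem scalar_of_central [IsAlgClosed K] [FiniteDimensional K V] [Nontrivial V]
    (ρ : Representation K Q V)
    (hirr : ∀ W : Submodule K V, (∀ g, W ≤ W.comap (ρ g)) → W = ⊥ ∨ W = ⊤)
    (c : End K V) (hc : ∀ g, c * ρ g = ρ g * c) : ∃ μ : K, c = μ • (1 : End K V) := by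
  obtain ⟨μ, hμ⟩ := Module.End.exists_eigenvalue c
  have hinv : ∀ g, Module.End.eigenspace c μ ≤ (Module.End.eigenspace c μ).comap (ρ g) := by
    intro g v hv
    rw [Submodule.mem_comap, Module.End.mem_eigenspace_iff]
    rw [Module.End.mem_eigenspace_iff] at hv
    have h1 : c (ρ g v) = (c * ρ g) v := rfl
    rw [h1, hc g, Module.End.mul_apply, hv, map_smul]
  rcases hirr _ hinv with h | h
  · exact absurd h hμ
  · refine ⟨μ, ?_⟩
    ext v
    have hv : v ∈ Module.End.eigenspace c μ := by rw [h]; trivial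
    rw [Module.End.mem_eigenspace_iff] at hv
    rw [hv]
    simp

/-- the inverse relation -/
theorem rel_inv (ρ : Representation K Q V) (T : End K V) (b : Q) (c : K) (hc : c ≠ 0)
    (h : T * ρ b = c • (ρ b * T)) : T * ρ b⁻¹ = c⁻¹ • (ρ b⁻¹ * T) := by
  have h0 : ρ b * T = c⁻¹ • (T * ρ b) := by
    rw [h, smul_smul, inv_mul_cancel₀ hc, one_smul]
  calc T * ρ b⁻¹ = (ρ b⁻¹ * ρ b) * (T * ρ b⁻¹) := by rw [rho_inv_mul, one_mul]
    _ = ρ b⁻¹ * (ρ b * T) * ρ b⁻¹ := by simp only [mul_assoc]
    _ = ρ b⁻¹ * (c⁻¹ • (T * ρ b)) * ρ b⁻¹ := by rw [h0]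
    _ = c⁻¹ • (ρ b⁻¹ * T * (ρ b * ρ b⁻¹)) := by
      rw [mul_smul_comm, smul_mul_assoc]
      simp only [mul_assoc]
    _ = c⁻¹ • (ρ b⁻¹ * T) := by rw [rho_mul_inv, mul_one]

/-- the multiplicative relation -/
theorem rel_mul (ρ : Representation K Q V) (T : End K V) (g h : Q) (a b : K)
    (hg : T * ρ g = a • (ρ g * T)) (hh : T * ρ h = b • (ρ h * T)) :
    T * ρ (g * h) = (a * b) • (ρ (g * h) * T) := by
  calc T * ρ (g * h) = (T * ρ g) * ρ h := by rw [map_mul, mul_assoc]
    _ = a • (ρ g * (T * ρ h)) := by rw [hg, smul_mul_assoc, mul_assoc]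
    _ = (a * b) • (ρ (g * h) * T) := by
      rw [hh, mul_smul_comm, smul_smul, map_mul, mul_assoc]

/-- commutators centralize an operator which is scaled by conjugation -/
theorem commutator_commute (ρ : Representation K Q V) (T : End K V)
    (hT : ∀ g, ∃ a : K, a ≠ 0 ∧ T * ρ g = a • (ρ g * T)) (g h : Q) :
    T * ρ ⁅g, h⁆ = ρ ⁅g, h⁆ * T := by
  obtain ⟨a, ha0, ha⟩ := hT g
  obtain ⟨b, hb0, hb⟩ := hT h
  have h1 := rel_mul ρ T g h a b ha hb
  have h2 := rel_mul ρ T h g b a hb ha
  have h3 := rel_inv ρ T (h * g) (b * a) (mul_ne_zero hb0 ha0) h2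
  have h4 := rel_mul ρ T (g * h) (h * g)⁻¹ _ _ h1 h3
  have h5 : ⁅g, h⁆ = (g * h) * (h * g)⁻¹ := by
    rw [commutatorElement_def]; group
  have h6 : a * b * (b * a)⁻¹ = 1 := by
    rw [mul_comm b a]
    exact mul_inv_cancel₀ (mul_ne_zero ha0 hb0)
  rw [h5, h4, h6, one_smul]

/-- an element whose image is not central but whose commutators have central images -/
theorem exists_second_center [Finite Q] {p : ℕ} [Fact p.Prime] (hQ : IsPGroup p Q)
    (ρ : Representation K Q V) (hnab : ¬ ∀ x y, ρ x * ρ y = ρ y * ρ x) :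
    ∃ z : Q, (∃ g, ρ z * ρ g ≠ ρ g * ρ z) ∧
      ∀ g h, ρ ⁅z, g⁆ * ρ h = ρ h * ρ ⁅z, g⁆ := by
  classical
  obtain ⟨c, hc⟩ := Subgroup.nilpotent_iff_lowerCentralSeries.mp hQ.isNilpotent
  let Cen : ℕ → Prop := fun j =>
    ∀ x ∈ Subgroup.lowerCentralSeries (⊤ : Subgroup Q) j, ∀ h, ρ x * ρ h = ρ h * ρ x
  have hex : ∃ j, Cen j := by
    refine ⟨c, ?_⟩
    intro x hx h
    rw [hc, Subgroup.mem_bot] at hx
    rw [hx, map_one, one_mul, mul_one]
  have h0 : ¬ Cen 0 := by
    intro h
    apply hnab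
    intro x y
    exact h x (by rw [Subgroup.lowerCentralSeries_zero]; trivial) y
  have hj0 : Nat.find hex ≠ 0 := by
    intro h
    apply h0
    have := Nat.find_spec hex
    rwa [h] at this
  obtain ⟨i, hi⟩ := Nat.exists_eq_succ_of_ne_zero hj0
  have hi1 : Cen (i + 1) := by
    have := Nat.find_spec hex
    rwa [hi] at this
  have hi0 : ¬ Cen i := Nat.find_min hex (by omega)
  simp only [Cen] at hi0
  push Not at hi0
  obtain ⟨z, hz, g₀, hg₀⟩ := hi0
  refine ⟨z, ⟨g₀, hg₀⟩, ?_⟩
  intro g h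
  apply hi1
  rw [Subgroup.lowerCentralSeries_succ]
  exact Subgroup.commutator_mem_commutator hz (Subgroup.mem_top g)

/-- the scaling relation for such an element -/
theorem exists_scaling [IsAlgClosed K] [FiniteDimensional K V] [Nontrivial V]
    (ρ : Representation K Q V)
    (hirr : ∀ W : Submodule K V, (∀ g, W ≤ W.comap (ρ g)) → W = ⊥ ∨ W = ⊤) (z : Q)
    (hz : ∀ g h, ρ ⁅z, g⁆ * ρ h = ρ h * ρ ⁅z, g⁆) (g : Q) :
    ∃ a : K, a ≠ 0 ∧ ρ z * ρ g = a • (ρ g * ρ z) := by
  obtain ⟨a, ha⟩ := scalar_of_central ρ hirr (ρ ⁅z, g⁆) (hz g)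
  have h1 : z * g = ⁅z, g⁆ * (g * z) := by
    rw [commutatorElement_def]; group
  have h2 : ρ z * ρ g = a • (ρ g * ρ z) := by
    rw [← map_mul, h1, map_mul, ha, smul_mul_assoc, one_mul, map_mul]
  refine ⟨a, ?_, h2⟩
  intro h0
  rw [h0, zero_smul] at h2
  have h3 : (1 : End K V) = 0 := by
    calc (1 : End K V) = (ρ z * ρ g) * (ρ g⁻¹ * ρ z⁻¹) := by
          rw [mul_assoc, ← mul_assoc (ρ g), rho_mul_inv, one_mul, rho_mul_inv]
      _ = 0 := by rw [h2, zero_mul]
  exact one_ne_zero h3

/-- **The irreducible nonabelian step.** -/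
theorem irr_step [IsAlgClosed K] [FiniteDimensional K V] [Finite Q] {p : ℕ} [Fact p.Prime]
    (hQ : IsPGroup p Q) (ρ : Representation K Q V) (n : ℕ) (hn : finrank K V = n) (hn1 : 1 ≤ n)
    (hirr : ∀ W : Submodule K V, (∀ g, W ≤ W.comap (ρ g)) → W = ⊥ ∨ W = ⊤)
    (hnab : ¬ ∀ x y, ρ x * ρ y = ρ y * ρ x)
    (ih : ∀ m < n, ∀ (Q' : Type u) [Group Q'] [Finite Q'], IsPGroup p Q' →
      ∀ (V' : Type v) [AddCommGroup V'] [Module K V'] [FiniteDimensional K V']
        (ρ' : Representation K Q' V'), finrank K V' = m →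
        derivedSeries Q' (Nat.log 2 m + 1) ≤ MonoidHom.ker ρ') :
    derivedSeries Q (Nat.log 2 n + 1) ≤ MonoidHom.ker ρ := by
  have hnt : Nontrivial V := Module.nontrivial_of_finrank_pos (R := K) (by omega)
  obtain ⟨z, ⟨g₀, hg₀⟩, hz⟩ := exists_second_center hQ ρ hnab
  obtain ⟨T, hT⟩ : ∃ T : End K V, T = ρ z := ⟨_, rfl⟩
  have hscal : ∀ g, ∃ a : K, a ≠ 0 ∧ T * ρ g = a • (ρ g * T) := by
    intro g; rw [hT]; exact exists_scaling ρ hirr z hz g
  -- the subgroup `M`
  let M : Subgroup Q :=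
    { carrier := {g | T * ρ g = ρ g * T}
      one_mem' := by simp
      mul_mem' := by
        intro a b ha hb
        simp only [Set.mem_ofPred_eq] at *
        rw [map_mul, ← mul_assoc, ha, mul_assoc, hb, mul_assoc]
      inv_mem' := by
        intro a ha
        simp only [Set.mem_ofPred_eq] at *
        have := rel_inv ρ T a 1 one_ne_zero (by rw [one_smul]; exact ha)
        rw [inv_one, one_smul] at this
        exact this }
  have hM : ∀ g, g ∈ M ↔ T * ρ g = ρ g * T := fun g => Iff.rfl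
  have hcomm : commutator Q ≤ M := by
    rw [commutator_eq_closure, Subgroup.closure_le]
    rintro x ⟨g, h, rfl⟩
    exact commutator_commute ρ T hscal g h
  -- eigenspaces
  have hE1 : ∀ (g : Q) (μ : K), ∃ μ' : K, ∀ v ∈ Module.End.eigenspace T μ,
      ρ g v ∈ Module.End.eigenspace T μ' := by
    intro g μ
    obtain ⟨a, ha0, ha⟩ := hscal g
    refine ⟨a * μ, ?_⟩
    intro v hv
    rw [Module.End.mem_eigenspace_iff] at hv ⊢
    have : T (ρ g v) = (T * ρ g) v := rfl
    rw [this, ha, LinearMap.smul_apply, Module.End.mul_apply, hv, map_smul, smul_smul]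
  have hsup : (⨆ μ : K, Module.End.eigenspace T μ) = ⊤ := by
    have hinv : ∀ g, (⨆ μ : K, Module.End.eigenspace T μ) ≤
        (⨆ μ : K, Module.End.eigenspace T μ).comap (ρ g) := by
      intro g
      rw [iSup_le_iff]
      intro μ v hv
      obtain ⟨μ', hμ'⟩ := hE1 g μ
      rw [Submodule.mem_comap]
      exact (le_iSup (fun μ : K => Module.End.eigenspace T μ) μ') (hμ' v hv)
    rcases hirr _ hinv with h | h
    · exfalso
      obtain ⟨μ, hμ⟩ := Module.End.exists_eigenvalue T
      apply hμ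
      rw [eq_bot_iff, ← h]
      exact le_iSup (fun μ : K => Module.End.eigenspace T μ) μ
    · exact h
  have hinj : ∀ g, Function.Injective (ρ g) := by
    intro g a b hab
    have := congrArg (ρ g⁻¹) hab
    rwa [← Module.End.mul_apply, ← Module.End.mul_apply, rho_inv_mul, Module.End.one_apply,
      Module.End.one_apply] at this
  -- the dimension bound
  have hdim : ∀ μ : K, 2 * finrank K (Module.End.eigenspace T μ) ≤ n := by
    intro μ
    by_cases hb : Module.End.eigenspace T μ = ⊥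
    · rw [hb, finrank_bot]; omega
    have hex : ∃ (g : Q) (μ' : K), μ' ≠ μ ∧ ∀ v ∈ Module.End.eigenspace T μ,
        ρ g v ∈ Module.End.eigenspace T μ' := by
      by_contra hcon
      push Not at hcon
      have hinv : ∀ g, Module.End.eigenspace T μ ≤ (Module.End.eigenspace T μ).comap (ρ g) := by
        intro g v hv
        obtain ⟨μ', hμ'⟩ := hE1 g μ
        by_cases hμμ : μ' = μ
        · rw [Submodule.mem_comap, ← hμμ]; exact hμ' v hv
        · exfalso
          obtain ⟨w, hw, hw'⟩ := hcon g μ' hμμ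
          exact hw' (hμ' w hw)
      rcases hirr _ hinv with h | h
      · exact hb h
      · apply hg₀
        have hTs : T = μ • (1 : End K V) := by
          ext v
          have hv : v ∈ Module.End.eigenspace T μ := by rw [h]; trivial
          rw [Module.End.mem_eigenspace_iff] at hv
          rw [hv]; simp
        rw [← hT, hTs, smul_mul_assoc, mul_smul_comm, one_mul, mul_one]
    obtain ⟨g, μ', hμ', hmap⟩ := hex
    have hle : (Module.End.eigenspace T μ).map (ρ g) ≤ Module.End.eigenspace T μ' := by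
      rintro _ ⟨v, hv, rfl⟩
      exact hmap v hv
    have h1 : finrank K ((Module.End.eigenspace T μ).map (ρ g)) =
        finrank K (Module.End.eigenspace T μ) :=
      (Submodule.equivMapOfInjective (ρ g) (hinj g) (Module.End.eigenspace T μ)).finrank_eq.symm
    have h2 := Submodule.finrank_mono hle
    have hdisj : Module.End.eigenspace T μ ⊓ Module.End.eigenspace T μ' = ⊥ := by
      rw [eq_bot_iff]
      intro v hv
      obtain ⟨hv1, hv2⟩ := Submodule.mem_inf.mp hv
      rw [Module.End.mem_eigenspace_iff] at hv1 hv2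
      have h3 : (μ - μ') • v = 0 := by rw [sub_smul, ← hv1, ← hv2, sub_self]
      have h4 : μ - μ' ≠ 0 := sub_ne_zero.mpr (Ne.symm hμ')
      rw [Submodule.mem_bot]
      exact (smul_eq_zero.mp h3).resolve_left h4
    have h5 := Submodule.finrank_sup_add_finrank_inf_eq (Module.End.eigenspace T μ)
      (Module.End.eigenspace T μ')
    rw [hdisj, finrank_bot, add_zero] at h5
    have h6 : finrank K ↥(Module.End.eigenspace T μ ⊔ Module.End.eigenspace T μ') ≤ n := by
      rw [← hn]; exact Submodule.finrank_le _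
    omega
  have hn2 : 2 ≤ n := by
    obtain ⟨μ, hμ⟩ := Module.End.exists_eigenvalue T
    have h1 := hdim μ
    have h2 : finrank K (Module.End.eigenspace T μ) ≠ 0 := by
      intro h
      exact hμ (Submodule.finrank_eq_zero.mp h)
    omega
  -- the representations of `M` on the eigenspaces
  obtain ⟨ρM, hρM⟩ : ∃ ρM : Representation K ↥M V, ρM = ρ.comp M.subtype := ⟨_, rfl⟩
  have hρMapp : ∀ x : ↥M, ρM x = ρ (x : Q) := by intro x; rw [hρM]; rfl
  have hinvM : ∀ (μ : K) (x : ↥M), Module.End.eigenspace T μ ≤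
      (Module.End.eigenspace T μ).comap (ρM x) := by
    intro μ x v hv
    rw [Submodule.mem_comap, hρMapp, Module.End.mem_eigenspace_iff]
    rw [Module.End.mem_eigenspace_iff] at hv
    have h1 : T (ρ (x : Q) v) = (T * ρ (x : Q)) v := rfl
    rw [h1, (hM x).mp x.2, Module.End.mul_apply, hv, map_smul]
  have hker : ∀ μ : K, derivedSeries ↥M (Nat.log 2 n) ≤
      MonoidHom.ker (ρM.subrepresentation (Module.End.eigenspace T μ) (hinvM μ)) := by
    intro μ
    have hm := hdim μ
    have h1 := ih (finrank K (Module.End.eigenspace T μ)) (by omega) ↥M (hQ.to_subgroup M)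
      ↥(Module.End.eigenspace T μ)
      (ρM.subrepresentation (Module.End.eigenspace T μ) (hinvM μ)) rfl
    refine le_trans (derivedSeries_antitone ↥M ?_) h1
    rcases Nat.eq_zero_or_pos (finrank K (Module.End.eigenspace T μ)) with h0 | hpos
    · rw [h0, Nat.log_zero_right]
      exact Nat.log_pos (by norm_num) hn2
    · rw [← Nat.log_mul_base (by norm_num) (by omega)]
      exact Nat.log_mono_right (by omega)
  have hD : ∀ x ∈ derivedSeries ↥M (Nat.log 2 n), ρ ((x : ↥M) : Q) = 1 := by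
    intro x hx
    ext v
    have hv : v ∈ (⨆ μ : K, Module.End.eigenspace T μ) := by rw [hsup]; trivial
    rw [Module.End.one_apply]
    induction hv using Submodule.iSup_induction' with
    | mem μ w hw =>
      have := apply_eq_self ρM (Module.End.eigenspace T μ) (hinvM μ) (hker μ hx) hw
      rwa [hρMapp] at this
    | zero => simp
    | add a b _ _ ha hb => rw [map_add, ha, hb]
  intro y hy
  obtain ⟨x, hx, rfl⟩ := derivedSeries_succ_le_map M hcomm (Nat.log 2 n) hy
  rw [MonoidHom.mem_ker]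
  exact hD x hx

end Cfsg.Agent.Lib.Helper35.LinDL
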