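import Mathlib
import Cfsg.Agent.Lib.Helper35.LinDLCharP
import Cfsg.Agent.Lib.Helper35.LinDLIrr

set_option autoImplicit false

/-! Derived length of finite linear `p`-groups: a finite `p`-subgroup of `GL_n(F)` has derived
length at most `log 2 n + 1`. -/

namespace Cfsg.Agent.Lib.Helper35.LinDL

open Module
open scoped commutatorElement

universe u v w

variable {K : Type w} [Field K]

/-- **Characteristic different from `p`** (algebraically closed field). -/
theorem derivedSeries_le_ker_of_ne_char [IsAlgClosed K] {p : ℕ} [Fact p.Prime]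
    (hpK : (p : K) ≠ 0) :
    ∀ (n : ℕ) (Q : Type u) [Group Q] [Finite Q], IsPGroup p Q →
      ∀ (V : Type v) [AddCommGroup V] [Module K V] [FiniteDimensional K V]
        (ρ : Representation K Q V), finrank K V = n →
        derivedSeries Q (Nat.log 2 n + 1) ≤ MonoidHom.ker ρ := by
  intro n
  induction n using Nat.strong_induction_on with
  | _ n ih =>
    intro Q _ _ hQ V _ _ _ ρ hn
    rcases Nat.eq_zero_or_pos n with h0 | hpos
    · rw [h0] at hn
      have hss : Subsingleton V := Module.finrank_zero_iff.mp hn
      intro g _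
      rw [MonoidHom.mem_ker]
      ext v
      exact Subsingleton.elim _ _
    by_cases hred : ∃ W : Submodule K V, (∀ g, W ≤ W.comap (ρ g)) ∧ W ≠ ⊥ ∧ W ≠ ⊤
    · obtain ⟨W, hW, hWb, hWt⟩ := hred
      have hq := Submodule.finrank_quotient_add_finrank W
      have hk1 : finrank K W ≠ 0 := fun h => hWb (Submodule.finrank_eq_zero.mp h)
      have hk2 : finrank K W < finrank K V := Submodule.finrank_lt hWt
      have h₁ : derivedSeries Q (Nat.log 2 n + 1) ≤
          MonoidHom.ker (ρ.subrepresentation W hW) := by
        refine le_trans (derivedSeries_antitone Q ?_)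
          (ih (finrank K W) (by omega) Q hQ ↥W (ρ.subrepresentation W hW) rfl)
        exact Nat.add_le_add_right (Nat.log_mono_right (by omega)) 1
      have h₂ : derivedSeries Q (Nat.log 2 n + 1) ≤ MonoidHom.ker (ρ.quotient W hW) := by
        refine le_trans (derivedSeries_antitone Q ?_)
          (ih (finrank K (V ⧸ W)) (by omega) Q hQ (V ⧸ W) (ρ.quotient W hW) rfl)
        exact Nat.add_le_add_right (Nat.log_mono_right (by omega)) 1
      intro x hx
      obtain ⟨j, hj⟩ := hQ x
      exact mem_ker_of_pow ρ W hW hpK j hj (h₁ hx) (h₂ hx)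
    · push Not at hred
      have hirr : ∀ W : Submodule K V, (∀ g, W ≤ W.comap (ρ g)) → W = ⊥ ∨ W = ⊤ := by
        intro W hW
        by_contra h
        push Not at h
        exact h.2 (hred W hW h.1)
      by_cases hab : ∀ x y, ρ x * ρ y = ρ y * ρ x
      · have h1 : derivedSeries Q 1 ≤ MonoidHom.ker ρ := by
          rw [derivedSeries_succ, derivedSeries_zero, Subgroup.commutator_le]
          intro x _ y _
          rw [MonoidHom.mem_ker, commutatorElement_def, map_mul, map_mul, map_mul, hab x y,
            mul_assoc (ρ y), rho_mul_inv, mul_one, rho_mul_inv]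
        exact le_trans (derivedSeries_antitone Q (by omega)) h1
      · exact irr_step hQ ρ n hn hpos hirr hab ih

/-- **Main theorem**: a finite `p`-group with a faithful matrix representation of degree `n`
over a field has derived length at most `log 2 n + 1`. -/
theorem derivedSeries_eq_bot_of_injective {P : Type u} [Group P] [Finite P] (p : ℕ)
    [Fact p.Prime] (hP : IsPGroup p P) (F : Type v) [Field F] (n : ℕ)
    (ρ : P →* Matrix.GeneralLinearGroup (Fin n) F) (hρ : Function.Injective ρ) :
    derivedSeries P (Nat.log 2 n + 1) = ⊥ := by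
  obtain ⟨ρ', hρ'⟩ : ∃ ρ' : Representation (AlgebraicClosure F) P (Fin n → AlgebraicClosure F),
      ρ' = ((((Matrix.toLinAlgEquiv' : Matrix (Fin n) (Fin n) (AlgebraicClosure F) ≃ₐ[_] _) :
        Matrix (Fin n) (Fin n) (AlgebraicClosure F) →* _).comp
        (((algebraMap F (AlgebraicClosure F)).mapMatrix :
          Matrix (Fin n) (Fin n) F →+* Matrix (Fin n) (Fin n) (AlgebraicClosure F)) :
          Matrix (Fin n) (Fin n) F →* _)).comp
        ((Units.coeHom (Matrix (Fin n) (Fin n) F)).comp ρ)) := ⟨_, rfl⟩
  have hker : MonoidHom.ker ρ' = ⊥ := by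
    rw [eq_bot_iff]
    intro x hx
    rw [MonoidHom.mem_ker, hρ'] at hx
    simp only [MonoidHom.comp_apply, MonoidHom.coe_coe] at hx
    have h1 := (Matrix.toLinAlgEquiv' : Matrix (Fin n) (Fin n) (AlgebraicClosure F) ≃ₐ[_] _).injective
      (hx.trans (map_one _).symm)
    have h2 : ((ρ x : Matrix.GeneralLinearGroup (Fin n) F) : Matrix (Fin n) (Fin n) F) = 1 := by
      apply Matrix.map_injective (algebraMap F (AlgebraicClosure F)).injective
      change (((ρ x : Matrix.GeneralLinearGroup (Fin n) F) : Matrix (Fin n) (Fin n) F)).map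
        (algebraMap F (AlgebraicClosure F)) = (1 : Matrix (Fin n) (Fin n) F).map
        (algebraMap F (AlgebraicClosure F))
      rw [Matrix.map_one _ (map_zero _) (map_one _)]
      exact h1
    rw [Subgroup.mem_bot]
    apply hρ
    rw [map_one]
    exact Units.ext h2
  have hfr : finrank (AlgebraicClosure F) (Fin n → AlgebraicClosure F) = n := by simp
  rw [eq_bot_iff, ← hker]
  by_cases hpK : ((p : ℕ) : AlgebraicClosure F) = 0
  · have h1 := derivedSeries_le_ker_of_char hP hpK n _ ρ' hfr
    refine le_trans (derivedSeries_antitone P ?_) h1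
    apply Nat.clog_le_of_le_pow
    exact (Nat.lt_pow_succ_log_self (by norm_num) n).le
  · exact derivedSeries_le_ker_of_ne_char hpK n P hP _ ρ' hfr

end Cfsg.Agent.Lib.Helper35.LinDL
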