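import Cfsg.Agent.Lib.Helper35.LqCorbCONJ
import Cfsg.Agent.Lib.Helper54.LqCQAB

set_option autoImplicit false

/-!
# `Lq` hive, `C-ORB` sub-hive: the ASSEMBLY of `exists_orb_data` from CORB-CONJ + CORB-PAD + C-EMAT + C-QAB + C-ZG,
with the pure sub-leaf CORB-PURE as a hypothesis (`corbasm_core`).
-/

namespace Cfsg.Agent.Lib.Helper21.Lq

open Module Cfsg.Agent.Lib.Helper6.Ls Cfsg.Agent.Lib.Helper13

section concrete

variable {F : Type*} [Field F] [Fintype F]

theorem corbasm_two [CharP F 2] : (2 : F) = 0 := CharP.cast_eq_zero F 2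

theorem corbasm_add_self [CharP F 2] (x : F) : x + x = 0 := by
  rw [← two_mul, corbasm_two, zero_mul]

theorem corbasm_neg [CharP F 2] (x : F) : -x = x := by
  rw [neg_eq_iff_add_eq_zero]; exact corbasm_add_self x

theorem corbasm_mem_Q (k : ℕ) (w : Vec F k) (c : F) : Eelt (e0 F k) (pad w) c ∈ Qgrp F k :=
  Subgroup.subset_closure ⟨w, c, rfl⟩

/-- ASSEMBLY of C-ORB, with the pure sub-leaf CORB-PURE (`corb_pure k`) as a hypothesis. -/
theorem corbasm_core [CharP F 2] (k : ℕ)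
    (hpure : ∀ (ψ : F → ℂ), ψ 0 = 1 → (∀ s t, ψ (s + t) = ψ s * ψ t) → (∃ c, ψ c ≠ 1) →
      ∀ (σ : Vec F k → ℂ), σ 0 = 1 →
      (∀ w w', σ (w + w') = σ w * σ w' * ψ (Cfsg.sympForm k F w w')) →
      ∃ (k0 : F) (d : Vec F k → Vec F k), k0 ≠ 0 ∧
        (∀ c' w, σ (w + Cfsg.sympForm k F w c' • c') = σ w * ψ (k0 * Cfsg.sympForm k F w (d c'))) ∧
        ∃ g : Fin (Fintype.card F ^ k * (Fintype.card F ^ k - 1) / 2) → Vec F k,
          Function.Injective (fun i => d (g i)))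
    (μ : Spg F (k + 1) → ℂ) (h1 : μ 1 = 1)
    (hmul : ∀ a ∈ Qgrp F k, ∀ b ∈ Qgrp F k, μ (a * b) = μ a * μ b)
    (hnt : ∃ z ∈ Zgrp (e0 F k), μ z ≠ 1) :
    ∃ (ι : Type) (_ : Fintype ι) (y : ι → Spg F (k + 1)),
      Fintype.card ι = Fintype.card F ^ k * (Fintype.card F ^ k - 1) / 2 ∧
      (∀ i, ∀ a ∈ Qgrp F k, (y i)⁻¹ * a * y i ∈ Qgrp F k) ∧
      (∀ i, ∀ z ∈ Zgrp (e0 F k), (y i)⁻¹ * z * y i = z) ∧
      (∀ i j, i ≠ j → ∃ a ∈ Qgrp F k, μ ((y i)⁻¹ * a * y i) ≠ μ ((y j)⁻¹ * a * y j)) := by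
  classical
  -- the two functions
  set ψ : F → ℂ := fun c => μ (Eelt (e0 F k) (pad (0 : Vec F k)) c) with hψdef
  set σ : Vec F k → ℂ := fun w => μ (Eelt (e0 F k) (pad w) 0) with hσdef
  have hpe : ∀ w : Vec F k, Cfsg.sympForm (k + 1) F (pad w) (e0 F k) = 0 := corb_sympForm_pad_e0
  have hE1 : Eelt (e0 F k) (pad (0 : Vec F k)) 0 = 1 := by
    rw [corb_pad_zero, Eelt_zero_eq]
    apply Subtype.ext
    rw [coe_sympTransvElt, sympTransvection_zero]; rfl
  -- product formula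
  have hprod : ∀ (w w' : Vec F k) (c c' : F),
      Eelt (e0 F k) (pad w) c * Eelt (e0 F k) (pad w') c' =
        Eelt (e0 F k) (pad (w + w')) (c + c' + Cfsg.sympForm k F w' w) := by
    intro w w' c c'
    rw [Eelt_mul _ _ _ (hpe w) (hpe w'), corb_pad_add, corb_sympForm_pad_pad]
  have hψ0 : ψ 0 = 1 := by simp only [hψdef]; rw [hE1, h1]
  have hσ0 : σ 0 = 1 := by simp only [hσdef]; rw [hE1, h1]
  have hψ : ∀ s t, ψ (s + t) = ψ s * ψ t := by
    intro s t
    simp only [hψdef]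
    rw [← hmul _ (corbasm_mem_Q k 0 s) _ (corbasm_mem_Q k 0 t), hprod, add_zero,
      sympForm_zero_left, add_zero]
  have hψsq : ∀ s, ψ s * ψ s = 1 := by
    intro s
    rw [← hψ, corbasm_add_self, hψ0]
  have hμE : ∀ (w : Vec F k) (c : F), μ (Eelt (e0 F k) (pad w) c) = σ w * ψ c := by
    intro w c
    simp only [hψdef, hσdef]
    rw [← hmul _ (corbasm_mem_Q k w 0) _ (corbasm_mem_Q k 0 c), hprod, add_zero, zero_add,
      sympForm_zero_left, add_zero]
  have hσ : ∀ w w', σ (w + w') = σ w * σ w' * ψ (Cfsg.sympForm k F w w') := by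
    intro w w'
    have h2 : σ w * σ w' = σ (w + w') * ψ (Cfsg.sympForm k F w' w) := by
      rw [← hμE]
      simp only [hσdef]
      rw [← hmul _ (corbasm_mem_Q k w 0) _ (corbasm_mem_Q k w' 0), hprod, add_zero, zero_add]
    have h3 : Cfsg.sympForm k F w' w = Cfsg.sympForm k F w w' := by
      rw [sympForm_swap, corbasm_neg]
    rw [h2, h3, mul_assoc, hψsq, mul_one]
  have hnt' : ∃ c, ψ c ≠ 1 := by
    obtain ⟨z, hz, hμz⟩ := hnt
    obtain ⟨c, rfl⟩ := (mem_Zgrp_iff _ _).1 hz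
    refine ⟨c, ?_⟩
    simp only [hψdef]
    rw [corb_pad_zero, Eelt_zero_eq]
    exact hμz
  have hσne : ∀ w, σ w ≠ 0 := by
    intro w hw
    have hww : w + w = 0 := by
      funext x
      exact corbasm_add_self (w x)
    have := hσ w w
    rw [hww, hσ0, hw] at this
    simp at this
  obtain ⟨k0, d, hk0, hd, g, hg⟩ := hpure ψ hψ0 hψ hnt' σ hσ0 hσ
  refine ⟨Fin (Fintype.card F ^ k * (Fintype.card F ^ k - 1) / 2), inferInstance,
    fun i => sympTransvElt (k + 1) (pad (g i)) 1, Fintype.card_fin _, ?_, ?_, ?_⟩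
  · intro i a ha
    obtain ⟨w, c, rfl⟩ := (mem_Qgrp_iff k a).1 ha
    rw [corb_conj]
    exact corbasm_mem_Q k _ c
  · intro i z hz
    exact corb_cent k (g i) z hz
  · intro i j hij
    have hdne : d (g i) - d (g j) ≠ 0 := by
      intro h
      exact hij (hg (sub_eq_zero.1 h))
    obtain ⟨w0, hw0⟩ := exists_sympForm_ne_zero k _ hdne
    obtain ⟨c1, hc1⟩ := hnt'
    have hw0' : Cfsg.sympForm k F w0 (d (g i) - d (g j)) ≠ 0 := by
      rw [sympForm_swap]
      exact neg_ne_zero.2 hw0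
    set w : Vec F k := (c1 / (k0 * Cfsg.sympForm k F w0 (d (g i) - d (g j)))) • w0 with hwdef
    have hwδ : k0 * Cfsg.sympForm k F w (d (g i)) = c1 + k0 * Cfsg.sympForm k F w (d (g j)) := by
      have : k0 * Cfsg.sympForm k F w (d (g i) - d (g j)) = c1 := by
        rw [hwdef, sympForm_smul_left]
        field_simp
      rw [sympForm_sub_right] at this
      linear_combination this
    refine ⟨Eelt (e0 F k) (pad w) 0, corbasm_mem_Q k w 0, ?_⟩
    show μ ((sympTransvElt (k + 1) (pad (g i)) 1)⁻¹ * Eelt (e0 F k) (pad w) 0 *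
        sympTransvElt (k + 1) (pad (g i)) 1) ≠
      μ ((sympTransvElt (k + 1) (pad (g j)) 1)⁻¹ * Eelt (e0 F k) (pad w) 0 *
        sympTransvElt (k + 1) (pad (g j)) 1)
    rw [corb_conj, corb_conj, hμE, hμE, hd, hd, hψ0, mul_one, mul_one, hwδ, hψ]
    intro h
    have hB : ψ (k0 * Cfsg.sympForm k F w (d (g j))) ≠ 0 := by
      intro h0
      have := hψsq (k0 * Cfsg.sympForm k F w (d (g j)))
      rw [h0] at this
      simp at this
    have h' := mul_left_cancel₀ (hσne w) h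
    apply hc1
    have h'' : ψ c1 * ψ (k0 * Cfsg.sympForm k F w (d (g j))) =
        1 * ψ (k0 * Cfsg.sympForm k F w (d (g j))) := by rw [h', one_mul]
    exact mul_right_cancel₀ hB h''

end concrete

end Cfsg.Agent.Lib.Helper21.Lq
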