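import Cfsg.Agent.Lib.Helper35.LqCorbPAD
import Cfsg.Agent.Lib.Helper43.LqCEMAT
import Cfsg.Agent.Lib.Helper95.LqCZG

set_option autoImplicit false

/-!
# `Lq` hive, `C-ORB` sub-hive: CORB-CONJ (the transvections `t_{pad c', 1}` normalise `Q` and centralise `Z`)
-/

namespace Cfsg.Agent.Lib.Helper21.Lq

open Module Cfsg.Agent.Lib.Helper6.Ls Cfsg.Agent.Lib.Helper13

section concrete

variable {F : Type*} [Field F] [Fintype F]

theorem corbconj_inv [CharP F 2] {m : ℕ} (e : Vec F m) :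
    (sympTransvElt m e (1 : F))⁻¹ = sympTransvElt m e 1 := by
  have h2 : (2 : F) = 0 := CharP.cast_eq_zero F 2
  apply inv_eq_of_mul_eq_one_right
  rw [lqczg_add, one_add_one_eq_two, h2, lqczg_zero]

theorem corbconj_e0_pad {k : ℕ} (c' : Vec F k) :
    Cfsg.sympForm (k + 1) F (e0 F k) (pad c') = 0 := by
  rw [sympForm_swap, corb_sympForm_pad_e0, neg_zero]

/-- CORB-CONJ (1): `y = t_{pad c', 1}` conjugates `E(pad w, c)` to `E(pad (w + f(w,c') c'), c)`. -/
theorem corb_conj [CharP F 2] (k : ℕ) (c' w : Vec F k) (c : F) :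
    (sympTransvElt (k + 1) (pad c') 1)⁻¹ * Eelt (e0 F k) (pad w) c * sympTransvElt (k + 1) (pad c') 1 =
      Eelt (e0 F k) (pad (w + Cfsg.sympForm k F w c' • c')) c := by
  have hge : Matrix.mulVec ((sympTransvElt (k + 1) (pad c') (1 : F) : Spg F (k + 1)) :
      Matrix (Fin (k + 1) ⊕ Fin (k + 1)) (Fin (k + 1) ⊕ Fin (k + 1)) F) (e0 F k) = (1 : F) • e0 F k := by
    rw [lqczg_mulVec, corbconj_e0_pad, mul_zero, zero_smul, add_zero, one_smul]
  have h := conj_Eelt (e0 F k) (pad w) (corb_sympForm_pad_e0 w) c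
    (sympTransvElt (k + 1) (pad c') (1 : F)) 1 hge
  rw [corbconj_inv] at h ⊢
  rw [h, one_smul, one_pow, one_mul, lqczg_mulVec, one_mul, corb_sympForm_pad_pad, ← corb_pad_smul,
    ← corb_pad_add]

/-- CORB-CONJ (2): `y = t_{pad c', 1}` centralises `Z`. -/
theorem corb_cent [CharP F 2] (k : ℕ) (c' : Vec F k) :
    ∀ z ∈ Zgrp (e0 F k),
      (sympTransvElt (k + 1) (pad c') 1)⁻¹ * z * sympTransvElt (k + 1) (pad c') 1 = z := by
  intro z hz
  have hy : sympTransvElt (k + 1) (pad c') (1 : F) ∈ Zgrp (pad c') :=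
    Subgroup.subset_closure ⟨1, rfl⟩
  have hc := Zgrp_commute (e0 F k) (pad c') (corbconj_e0_pad c') z hz _ hy
  rw [mul_assoc, hc, ← mul_assoc, inv_mul_cancel, one_mul]

end concrete

end Cfsg.Agent.Lib.Helper21.Lq
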