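import Cfsg.Agent.Lib.Helper21.Lq.Defs
import Cfsg.Agent.Lib.Helper13.SpParabolic

set_option autoImplicit false

/-!
# `Lq` hive, `C-ORB` sub-hive: CORB-SQ (square roots in characteristic 2) and CORB-PAD (`pad` lemmas)
-/

namespace Cfsg.Agent.Lib.Helper21.Lq

open Module Cfsg.Agent.Lib.Helper6.Ls Cfsg.Agent.Lib.Helper13

section concrete

variable {F : Type*} [Field F] [Fintype F]

/-- CORB-SQ (2) -/
theorem corb_sq_inj [CharP F 2] {x y : F} (h : x ^ 2 = y ^ 2) : x = y := by
  have h2 : (2 : F) = 0 := CharP.cast_eq_zero F 2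
  have h3 : (x - y) ^ 2 = 0 := by
    have : (x - y) ^ 2 = x ^ 2 + y ^ 2 - 2 * (x * y) := by ring
    rw [this, h2, zero_mul, sub_zero, h]
    rw [← two_mul, h2, zero_mul]
  exact sub_eq_zero.1 (pow_eq_zero_iff (two_ne_zero) |>.1 h3)

/-- CORB-SQ (1) -/
theorem corb_sqrt [CharP F 2] (x : F) : ∃ y : F, y ^ 2 = x := by
  have hinj : Function.Injective (fun y : F => y ^ 2) := fun a b hab => corb_sq_inj hab
  exact (Finite.injective_iff_surjective.1 hinj) x

/-- CORB-PAD (1) -/
theorem corb_pad_add {k : ℕ} (w w' : Vec F k) : pad (w + w') = pad w + pad w' := by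
  funext x
  rcases x with i | i
  · refine Fin.lastCases ?_ (fun j => ?_) i
    · simp [pad]
    · simp [pad]
  · refine Fin.lastCases ?_ (fun j => ?_) i
    · simp [pad]
    · simp [pad]

/-- CORB-PAD (2) -/
theorem corb_pad_smul {k : ℕ} (s : F) (w : Vec F k) : pad (s • w) = s • pad w := by
  funext x
  rcases x with i | i
  · refine Fin.lastCases ?_ (fun j => ?_) i
    · simp [pad]
    · simp [pad]
  · refine Fin.lastCases ?_ (fun j => ?_) i
    · simp [pad]
    · simp [pad]

/-- CORB-PAD (3) -/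
theorem corb_pad_zero {k : ℕ} : pad (0 : Vec F k) = 0 := by
  funext x
  rcases x with i | i
  · refine Fin.lastCases ?_ (fun j => ?_) i
    · simp [pad]
    · simp [pad]
  · refine Fin.lastCases ?_ (fun j => ?_) i
    · simp [pad]
    · simp [pad]

/-- CORB-PAD (4) -/
theorem corb_sympForm_pad_pad {k : ℕ} (w w' : Vec F k) :
    Cfsg.sympForm (k + 1) F (pad w) (pad w') = Cfsg.sympForm k F w w' := by
  rw [sympForm_expand, sympForm_expand, Fin.sum_univ_castSucc]
  simp [pad]

/-- CORB-PAD (5) -/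
theorem corb_sympForm_pad_e0 {k : ℕ} (w : Vec F k) :
    Cfsg.sympForm (k + 1) F (pad w) (e0 F k) = 0 := by
  rw [sympForm_expand, Fin.sum_univ_castSucc]
  simp [pad, e0]

end concrete

end Cfsg.Agent.Lib.Helper21.Lq
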