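import Mathlib
import Cfsg.Prelude.Def_Balance

/-! # S1305 hive (MC), leaf MC-OEX : a nonabelian subgroup of the layer does not centralize
every component. -/

set_option autoImplicit false

open Cfsg

namespace Cfsg.Agent.Lib.Helper18.Mc

open Subgroup

/-- MC-OEX.  A nonabelian subgroup of the layer does not centralize every component. -/
theorem exists_noncomm {X : Type*} [Group X] [Finite X] (K : Subgroup X) (hKL : K ≤ layer X)
    (hnab : ¬ ∀ k ∈ K, ∀ k' ∈ K, k * k' = k' * k) :
    ∃ J : Subgroup X, IsComponent J ∧ ¬ ∀ k ∈ K, ∀ x ∈ J, k * x = x * k := by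
  by_contra hcon
  apply hnab
  have hall : ∀ J : Subgroup X, IsComponent J → ∀ k ∈ K, ∀ x ∈ J, k * x = x * k := by
    intro J hJ
    by_contra h
    exact hcon ⟨J, hJ, h⟩
  have hle : layer X ≤ centralizer (K : Set X) := by
    unfold layer
    refine sSup_le ?_
    intro J hJ x hx
    rw [mem_centralizer_iff]
    intro k hk
    exact hall J hJ k hk x hx
  intro k hk k' hk'
  have h := (mem_centralizer_iff.mp (hle (hKL hk'))) k hk
  exact h

end Cfsg.Agent.Lib.Helper18.Mc
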