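import Cfsg.Agent.Lib.Helper81.Mi.Defs

set_option autoImplicit false

/-!
# Mi hive (S2140, owner helper81), leaf MI-ORB: `orbit_dichotomy`

Burnside analysis of a subgroup `Q` all of whose non-identity elements are conjugate under a subgroup `L`
normalising it, acting on the cosets of `H`, when `[G:H] < 2|Q|`.
-/

namespace Cfsg.Agent.Lib.Helper81.Mi

open scoped Pointwise

section abstract

open Classical in
/-- the `Q`-orbit of `y`, as a finset. -/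
noncomputable def orb_Qorb {G X : Type*} [Group G] [MulAction G X] [Fintype X] (Q : Subgroup G) (y : X) :
    Finset X := Finset.univ.filter (fun x => ∃ t ∈ Q, x = t • y)

open Classical in
/-- the `QL`-orbit of `ω`, as a finset. -/
noncomputable def orb_D {G X : Type*} [Group G] [MulAction G X] [Fintype X] (Q L : Subgroup G) (ω : X) :
    Finset X := Finset.univ.filter (fun x => ∃ l ∈ L, ∃ t ∈ Q, x = l • t • ω)

variable {G X : Type*} [Group G] [MulAction G X] [Fintype X]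

theorem orb_mem_Qorb (Q : Subgroup G) (y x : X) : x ∈ orb_Qorb Q y ↔ ∃ t ∈ Q, x = t • y := by
  simp [orb_Qorb]

theorem orb_mem_D (Q L : Subgroup G) (ω x : X) :
    x ∈ orb_D Q L ω ↔ ∃ l ∈ L, ∃ t ∈ Q, x = l • t • ω := by
  simp [orb_D]

theorem orb_self_mem_D (Q L : Subgroup G) (ω : X) : ω ∈ orb_D Q L ω := by
  rw [orb_mem_D]
  exact ⟨1, L.one_mem, 1, Q.one_mem, by simp⟩

theorem orb_norm' {Q L : Subgroup G} (hnorm : ∀ l ∈ L, ∀ t ∈ Q, l * t * l⁻¹ ∈ Q) :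
    ∀ l ∈ L, ∀ t ∈ Q, l⁻¹ * t * l ∈ Q := by
  intro l hl t ht
  simpa using hnorm l⁻¹ (L.inv_mem hl) t ht

theorem orb_D_smul_Q {Q L : Subgroup G} (hnorm : ∀ l ∈ L, ∀ t ∈ Q, l * t * l⁻¹ ∈ Q) (ω x : X)
    (hx : x ∈ orb_D Q L ω) (t : G) (ht : t ∈ Q) : t • x ∈ orb_D Q L ω := by
  rw [orb_mem_D] at hx ⊢
  obtain ⟨l, hl, t0, ht0, rfl⟩ := hx
  refine ⟨l, hl, (l⁻¹ * t * l) * t0, Q.mul_mem (orb_norm' hnorm l hl t ht) ht0, ?_⟩
  simp only [smul_smul]
  congr 1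
  group

theorem orb_D_smul_L {Q L : Subgroup G} (ω x : X)
    (hx : x ∈ orb_D Q L ω) (l : G) (hl : l ∈ L) : l • x ∈ orb_D Q L ω := by
  rw [orb_mem_D] at hx ⊢
  obtain ⟨l0, hl0, t0, ht0, rfl⟩ := hx
  exact ⟨l * l0, L.mul_mem hl hl0, t0, ht0, by simp only [smul_smul, mul_assoc]⟩

/-- points of `D(ω)` generate the same `D`. -/
theorem orb_D_eq_of_mem {Q L : Subgroup G} (hnorm : ∀ l ∈ L, ∀ t ∈ Q, l * t * l⁻¹ ∈ Q) (ω ω' : X)
    (h : ω' ∈ orb_D Q L ω) : orb_D Q L ω' ⊆ orb_D Q L ω := by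
  intro x hx
  rw [orb_mem_D] at hx
  obtain ⟨l, hl, t, ht, rfl⟩ := hx
  exact orb_D_smul_L ω _ (orb_D_smul_Q hnorm ω _ h t ht) l hl

theorem orb_mem_D_symm {Q L : Subgroup G} (hnorm : ∀ l ∈ L, ∀ t ∈ Q, l * t * l⁻¹ ∈ Q) (ω ω' : X)
    (h : ω' ∈ orb_D Q L ω) : ω ∈ orb_D Q L ω' := by
  rw [orb_mem_D] at h
  obtain ⟨l, hl, t, ht, rfl⟩ := h
  have h1 : t⁻¹ • l⁻¹ • (l • t • ω) ∈ orb_D Q L (l • t • ω) :=
    orb_D_smul_Q hnorm _ _ (orb_D_smul_L _ _ (orb_self_mem_D Q L _) l⁻¹ (L.inv_mem hl)) t⁻¹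
      (Q.inv_mem ht)
  simpa [smul_smul] using h1

/-- conjugation by a normalising element identifies the stabilisers in `Q`. -/
theorem orb_card_stab_smul {Q : Subgroup G} (g : G) (h1 : ∀ t ∈ Q, g * t * g⁻¹ ∈ Q)
    (h2 : ∀ t ∈ Q, g⁻¹ * t * g ∈ Q) (y : X) :
    Nat.card {t : Q // (t : G) • (g • y) = g • y} = Nat.card {t : Q // (t : G) • y = y} := by
  apply Nat.card_congr
  refine ⟨fun t => ⟨⟨g⁻¹ * t.1.1 * g, h2 _ t.1.2⟩, ?_⟩, fun t => ⟨⟨g * t.1.1 * g⁻¹, h1 _ t.1.2⟩, ?_⟩,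
    ?_, ?_⟩
  · have h := t.2
    show (g⁻¹ * t.1.1 * g) • y = y
    rw [mul_smul, mul_smul, h, smul_smul, inv_mul_cancel, one_smul]
  · have h := t.2
    show (g * t.1.1 * g⁻¹) • (g • y) = g • y
    rw [smul_smul, mul_assoc, mul_assoc, inv_mul_cancel, mul_one, mul_smul, h]
  · intro t
    apply Subtype.ext
    apply Subtype.ext
    show g * (g⁻¹ * t.1.1 * g) * g⁻¹ = t.1.1
    group
  · intro t
    apply Subtype.ext
    apply Subtype.ext
    show g⁻¹ * (g * t.1.1 * g⁻¹) * g = t.1.1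
    group

theorem orb_card_stab_D {Q L : Subgroup G} (hnorm : ∀ l ∈ L, ∀ t ∈ Q, l * t * l⁻¹ ∈ Q) (ω x : X)
    (hx : x ∈ orb_D Q L ω) :
    Nat.card {t : Q // (t : G) • x = x} = Nat.card {t : Q // (t : G) • ω = ω} := by
  rw [orb_mem_D] at hx
  obtain ⟨l, hl, t0, ht0, rfl⟩ := hx
  rw [smul_smul]
  apply orb_card_stab_smul
  · intro t ht
    have : l * t0 * t * (l * t0)⁻¹ = l * (t0 * t * t0⁻¹) * l⁻¹ := by group
    rw [this]
    exact hnorm l hl _ (Q.mul_mem (Q.mul_mem ht0 ht) (Q.inv_mem ht0))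
  · intro t ht
    have : (l * t0)⁻¹ * t * (l * t0) = t0⁻¹ * (l⁻¹ * t * l) * t0 := by group
    rw [this]
    exact Q.mul_mem (Q.mul_mem (Q.inv_mem ht0) (orb_norm' hnorm l hl t ht)) ht0

open Classical in
theorem orb_card_fix_le {Q L : Subgroup G} (ω : X) (t t' l : G) (hl : l ∈ L)
    (h : l * t * l⁻¹ = t') :
    ((orb_D Q L ω).filter (fun x => t • x = x)).card ≤
      ((orb_D Q L ω).filter (fun x => t' • x = x)).card := by
  apply Finset.card_le_card_of_injOn (fun x => l • x)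
  · intro x hx
    simp only [Finset.coe_filter, Set.mem_setOf_eq] at hx ⊢
    refine ⟨orb_D_smul_L ω x hx.1 l hl, ?_⟩
    rw [← h, smul_smul, mul_assoc, inv_mul_cancel, mul_one, mul_smul, hx.2]
  · intro x _ y _ hxy
    exact MulAction.injective l hxy

open Classical in
theorem orb_card_fix_eq {Q L : Subgroup G}
    (hconj : ∀ t ∈ Q, ∀ t' ∈ Q, t ≠ 1 → t' ≠ 1 → ∃ l ∈ L, l * t * l⁻¹ = t') (ω : X) (t t' : G)
    (ht : t ∈ Q) (ht' : t' ∈ Q) (h1 : t ≠ 1) (h1' : t' ≠ 1) :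
    ((orb_D Q L ω).filter (fun x => t • x = x)).card =
      ((orb_D Q L ω).filter (fun x => t' • x = x)).card := by
  obtain ⟨l, hl, h⟩ := hconj t ht t' ht' h1 h1'
  obtain ⟨l', hl', h'⟩ := hconj t' ht' t ht h1' h1
  exact le_antisymm (orb_card_fix_le ω t t' l hl h) (orb_card_fix_le ω t' t l' hl' h')

open Classical in
/-- double counting of the pairs `(t, x)`, `t ∈ Q`, `x ∈ D`, `t x = x`. -/
theorem orb_double_count [Fintype G] {Q L : Subgroup G}
    (hnorm : ∀ l ∈ L, ∀ t ∈ Q, l * t * l⁻¹ ∈ Q) (ω : X) :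
    ∑ t : Q, ((orb_D Q L ω).filter (fun x => (t : G) • x = x)).card =
      (orb_D Q L ω).card * Nat.card {t : Q // (t : G) • ω = ω} := by
  have h := Finset.sum_card_bipartiteAbove_eq_sum_card_bipartiteBelow
    (s := (Finset.univ : Finset Q)) (t := orb_D Q L ω) (r := fun (t : Q) (x : X) => (t : G) • x = x)
  have h2 : ∀ x ∈ orb_D Q L ω,
      (Finset.bipartiteBelow (fun (t : Q) (x : X) => (t : G) • x = x) Finset.univ x).card =
        Nat.card {t : Q // (t : G) • ω = ω} := by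
    intro x hx
    rw [← orb_card_stab_D hnorm ω x hx, Nat.card_eq_fintype_card, Fintype.card_subtype]
    rfl
  rw [Finset.sum_congr rfl h2, Finset.sum_const, smul_eq_mul] at h
  exact h

theorem orb_Qorb_eq_of_mem (Q : Subgroup G) (x y : X) (h : x ∈ orb_Qorb Q y) :
    orb_Qorb Q x = orb_Qorb Q y := by
  rw [orb_mem_Qorb] at h
  obtain ⟨t, ht, rfl⟩ := h
  ext z
  rw [orb_mem_Qorb, orb_mem_Qorb]
  constructor
  · rintro ⟨t', ht', rfl⟩
    exact ⟨t' * t, Q.mul_mem ht' ht, by rw [mul_smul]⟩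
  · rintro ⟨t', ht', rfl⟩
    exact ⟨t' * t⁻¹, Q.mul_mem ht' (Q.inv_mem ht), by rw [smul_smul, mul_assoc, inv_mul_cancel, mul_one]⟩

theorem orb_smul_Qorb [DecidableEq X] {Q L : Subgroup G} (hnorm : ∀ l ∈ L, ∀ t ∈ Q, l * t * l⁻¹ ∈ Q) (ω : X)
    (l : L) : l • orb_Qorb Q ω = orb_Qorb Q ((l : G) • ω) := by
  ext x
  rw [Finset.mem_smul_finset, orb_mem_Qorb]
  constructor
  · rintro ⟨y, hy, rfl⟩
    rw [orb_mem_Qorb] at hy
    obtain ⟨t, ht, rfl⟩ := hy
    refine ⟨(l : G) * t * (l : G)⁻¹, hnorm l l.2 t ht, ?_⟩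
    rw [Subgroup.smul_def, smul_smul, smul_smul]
    congr 1
    group
  · rintro ⟨t, ht, rfl⟩
    refine ⟨((l : G)⁻¹ * t * (l : G)) • ω, ?_, ?_⟩
    · rw [orb_mem_Qorb]
      exact ⟨_, orb_norm' hnorm l l.2 t ht, rfl⟩
    · rw [Subgroup.smul_def, smul_smul, smul_smul]
      congr 1
      group

open Classical in
/-- orbit-stabiliser for `Q`. -/
theorem orb_card_stab_mul [Fintype G] (Q : Subgroup G) (ω : X) :
    Nat.card {t : Q // (t : G) • ω = ω} * (orb_Qorb Q ω).card = Nat.card Q := by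
  have h := MulAction.card_orbit_mul_card_stabilizer_eq_card_group Q ω
  have h1 : Fintype.card (MulAction.orbit Q ω) = (orb_Qorb Q ω).card := by
    rw [← Fintype.card_coe]
    apply Fintype.card_congr
    apply Equiv.subtypeEquivRight
    intro x
    rw [orb_mem_Qorb, MulAction.mem_orbit_iff]
    constructor
    · rintro ⟨t, rfl⟩
      exact ⟨t, t.2, rfl⟩
    · rintro ⟨t, ht, rfl⟩
      exact ⟨⟨t, ht⟩, rfl⟩
  have h2 : Fintype.card (MulAction.stabilizer Q ω) = Nat.card {t : Q // (t : G) • ω = ω} := by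
    rw [Nat.card_eq_fintype_card]
    apply Fintype.card_congr
    apply Equiv.subtypeEquivRight
    intro t
    rw [MulAction.mem_stabilizer_iff]
    rfl
  rw [h1, h2] at h
  rw [Nat.card_eq_fintype_card (α := Q), ← h, mul_comm]

/-- `D(ω)` is the disjoint union of the `L`-translates of the `Q`-orbit of `ω`; the stabiliser `K` of that orbit
in `L` has index `|D| / s`. -/
theorem orb_card_D [DecidableEq X] {Q L : Subgroup G} (hnorm : ∀ l ∈ L, ∀ t ∈ Q, l * t * l⁻¹ ∈ Q) (ω : X) :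
    ∃ K : Subgroup L, K.index * (orb_Qorb Q ω).card = (orb_D Q L ω).card := by
  refine ⟨MulAction.stabilizer L (orb_Qorb Q ω), ?_⟩
  rw [MulAction.index_stabilizer]
  have hfin : (MulAction.orbit L (orb_Qorb Q ω)).Finite := Set.toFinite _
  rw [Set.ncard_eq_toFinset_card _ hfin]
  have hD : orb_D Q L ω = hfin.toFinset.biUnion id := by
    ext x
    rw [orb_mem_D, Finset.mem_biUnion]
    constructor
    · rintro ⟨l, hl, t, ht, rfl⟩
      refine ⟨(⟨l, hl⟩ : L) • orb_Qorb Q ω, ?_, ?_⟩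
      · rw [Set.Finite.mem_toFinset]
        exact MulAction.mem_orbit _ _
      · show l • t • ω ∈ (⟨l, hl⟩ : L) • orb_Qorb Q ω
        rw [Finset.mem_smul_finset]
        exact ⟨t • ω, (orb_mem_Qorb Q ω _).2 ⟨t, ht, rfl⟩, rfl⟩
    · rintro ⟨O, hO, hx⟩
      rw [Set.Finite.mem_toFinset, MulAction.mem_orbit_iff] at hO
      obtain ⟨l, rfl⟩ := hO
      change x ∈ l • orb_Qorb Q ω at hx
      rw [Finset.mem_smul_finset] at hx
      obtain ⟨y, hy, rfl⟩ := hx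
      rw [orb_mem_Qorb] at hy
      obtain ⟨t, ht, rfl⟩ := hy
      exact ⟨l, l.2, t, ht, rfl⟩
  rw [hD, Finset.card_biUnion]
  · rw [Finset.sum_const_nat (m := (orb_Qorb Q ω).card)]
    intro O hO
    rw [Set.Finite.mem_toFinset, MulAction.mem_orbit_iff] at hO
    obtain ⟨l, rfl⟩ := hO
    exact Finset.card_smul_finset l _
  · intro O hO O' hO' hne
    rw [Finset.mem_coe, Set.Finite.mem_toFinset, MulAction.mem_orbit_iff] at hO hO'
    obtain ⟨l, rfl⟩ := hO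
    obtain ⟨l', rfl⟩ := hO'
    show Disjoint (l • orb_Qorb Q ω) (l' • orb_Qorb Q ω)
    rw [Finset.disjoint_left]
    intro x hx hx'
    apply hne
    show l • orb_Qorb Q ω = l' • orb_Qorb Q ω
    rw [orb_smul_Qorb hnorm] at hx hx' ⊢
    rw [orb_smul_Qorb hnorm]
    rw [← orb_Qorb_eq_of_mem Q _ _ hx, ← orb_Qorb_eq_of_mem Q _ _ hx']

end abstract

end Cfsg.Agent.Lib.Helper81.Mi
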