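import Cfsg.Agent.Lib.Helper35.MiORB

set_option autoImplicit false

/-!
# Mi hive (S2140, owner helper81), leaf MI-ORB, part K (split with helper80): orbit sizes under `L`, the index-`a`
subgroup `K` of `L`, and `relIndex` as an orbit size.
-/

namespace Cfsg.Agent.Lib.Helper81.Mi

open scoped Pointwise

section abstract

variable {G : Type*} [Group G] [Finite G]

open Classical in
theorem orbk_natCard_Qorb {X : Type*} [MulAction G X] [Fintype X] (Q : Subgroup G) (z : X) :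
    Nat.card {y : X // ∃ t ∈ Q, y = t • z} = (orb_Qorb Q z).card := by
  rw [Nat.card_eq_fintype_card, Fintype.card_subtype]
  rfl

open Classical in
theorem orbk_natCard_D {X : Type*} [MulAction G X] [Fintype X] {Q L : Subgroup G}
    (hnorm : ∀ l ∈ L, ∀ t ∈ Q, l * t * l⁻¹ ∈ Q) (z : X) :
    Nat.card {y : X // ∃ l ∈ L, ∃ t ∈ Q, y = t • l • z} = (orb_D Q L z).card := by
  rw [Nat.card_eq_fintype_card, Fintype.card_subtype]
  congr 1
  ext y
  rw [orb_mem_D, Finset.mem_filter]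
  simp only [Finset.mem_univ, true_and]
  constructor
  · rintro ⟨l, hl, t, ht, rfl⟩
    refine ⟨l, hl, l⁻¹ * t * l, orb_norm' hnorm l hl t ht, ?_⟩
    rw [smul_smul, smul_smul]
    congr 1
    group
  · rintro ⟨l, hl, t, ht, rfl⟩
    refine ⟨l, hl, l * t * l⁻¹, hnorm l hl t ht, ?_⟩
    rw [smul_smul, smul_smul]
    congr 1
    group

/-- (1) -/
theorem orb_size_smul (H Q L : Subgroup G) (hnorm : ∀ l ∈ L, ∀ t ∈ Q, l * t * l⁻¹ ∈ Q) (l : G)
    (hl : l ∈ L) (x : G ⧸ H) :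
    Nat.card {y : G ⧸ H // ∃ t ∈ Q, y = t • l • x} = Nat.card {y : G ⧸ H // ∃ t ∈ Q, y = t • x} := by
  classical
  have : Fintype (G ⧸ H) := Fintype.ofFinite _
  rw [orbk_natCard_Qorb, orbk_natCard_Qorb]
  have h := orb_smul_Qorb hnorm x (⟨l, hl⟩ : L)
  rw [show ((⟨l, hl⟩ : L) : G) = l from rfl] at h
  rw [← h]
  exact Finset.card_smul_finset _ _

/-- (2) -/
theorem orb_K (H Q L : Subgroup G) (hnorm : ∀ l ∈ L, ∀ t ∈ Q, l * t * l⁻¹ ∈ Q) (x0 : G ⧸ H) :
    ∃ K : Subgroup L, K.index * Nat.card {y : G ⧸ H // ∃ t ∈ Q, y = t • x0} =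
      Nat.card {y : G ⧸ H // ∃ l ∈ L, ∃ t ∈ Q, y = t • l • x0} := by
  classical
  have : Fintype (G ⧸ H) := Fintype.ofFinite _
  obtain ⟨K, hK⟩ := orb_card_D hnorm x0
  refine ⟨K, ?_⟩
  rw [orbk_natCard_Qorb, orbk_natCard_D hnorm]
  exact hK

/-- (3) -/
theorem orb_relIndex (H Q : Subgroup G) (g : G) :
    (cj g H).relIndex Q = Nat.card {y : G ⧸ H // ∃ t ∈ Q, y = t • (g : G ⧸ H)} := by
  have hst : (cj g H).subgroupOf Q = MulAction.stabilizer Q (g : G ⧸ H) := by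
    ext t
    rw [Subgroup.mem_subgroupOf, mem_cj, MulAction.mem_stabilizer_iff]
    show g⁻¹ * ↑t * g ∈ H ↔ (((t : G) * g : G) : G ⧸ H) = (g : G ⧸ H)
    rw [QuotientGroup.eq, mul_inv_rev]
    constructor
    · intro h
      have := H.inv_mem h
      simpa [mul_assoc] using this
    · intro h
      have := H.inv_mem h
      simpa [mul_assoc] using this
  rw [Subgroup.relIndex, hst, MulAction.index_stabilizer, ← Nat.card_coe_set_eq]
  apply Nat.card_congr
  apply Equiv.subtypeEquivRight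
  intro y
  rw [MulAction.mem_orbit_iff]
  constructor
  · rintro ⟨t, rfl⟩
    exact ⟨t, t.2, rfl⟩
  · rintro ⟨t, ht, rfl⟩
    exact ⟨⟨t, ht⟩, rfl⟩

end abstract

end Cfsg.Agent.Lib.Helper81.Mi
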