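import Cfsg.Agent.Lib.Helper35.MiORBK

set_option autoImplicit false

/-!
# Mi hive (S2140, owner helper81), leaf MI-ORB: a complete `orbit_dichotomy` (backup version, helper35)
-/

namespace Cfsg.Agent.Lib.Helper81.Mi

open scoped Pointwise

section abstract

open Classical in
/-- the key counting lemma on one `QL`-orbit. -/
theorem orbf_key {G X : Type*} [Group G] [Fintype G] [MulAction G X] [Fintype X] (Q L : Subgroup G)
    (hnorm : ∀ l ∈ L, ∀ t ∈ Q, l * t * l⁻¹ ∈ Q)
    (hconj : ∀ t ∈ Q, ∀ t' ∈ Q, t ≠ 1 → t' ≠ 1 → ∃ l ∈ L, l * t * l⁻¹ = t')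
    (ω : X) (hω : ∃ t ∈ Q, t • ω ≠ ω) :
    ∃ a f : ℕ, (∃ K : Subgroup L, K.index = a) ∧
      (orb_D Q L ω).card = a * (orb_Qorb Q ω).card ∧ 1 < (orb_Qorb Q ω).card ∧
      (orb_Qorb Q ω).card ∣ Nat.card Q ∧
      a * Nat.card Q = a * (orb_Qorb Q ω).card + (Nat.card Q - 1) * f ∧
      f < a * (orb_Qorb Q ω).card ∧
      (∀ t ∈ Q, t ≠ 1 → ((orb_D Q L ω).filter (fun x => t • x = x)).card = f) := by
  obtain ⟨K, hK⟩ := orb_card_D hnorm ω
  obtain ⟨t1, ht1, ht1ω⟩ := hω
  have ht1ne : t1 ≠ 1 := by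
    rintro rfl
    exact ht1ω (one_smul _ _)
  have hes := orb_card_stab_mul Q ω
  set s := (orb_Qorb Q ω).card with hs
  set e := Nat.card {t : Q // (t : G) • ω = ω} with he
  set D := orb_D Q L ω with hD
  have hs1 : 1 < s := by
    rw [hs, Finset.one_lt_card]
    refine ⟨ω, (orb_mem_Qorb Q ω ω).2 ⟨1, Q.one_mem, (one_smul _ _).symm⟩, t1 • ω,
      (orb_mem_Qorb Q ω _).2 ⟨t1, ht1, rfl⟩, fun h => ht1ω h.symm⟩
  have hfix : ∀ t ∈ Q, t ≠ 1 → (D.filter (fun x => t • x = x)).card =
      (D.filter (fun x => t1 • x = x)).card := fun t ht hne =>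
    orb_card_fix_eq hconj ω t t1 ht ht1 hne ht1ne
  set f := (D.filter (fun x => t1 • x = x)).card with hf
  have hdc := orb_double_count hnorm ω (Q := Q) (L := L)
  have hsum : ∑ t : Q, (D.filter (fun x => (t : G) • x = x)).card = D.card + (Nat.card Q - 1) * f := by
    rw [← Finset.add_sum_erase Finset.univ _ (Finset.mem_univ (1 : Q))]
    congr 1
    · congr 1
      apply Finset.filter_true_of_mem
      intro x _
      exact one_smul _ _
    · rw [Finset.sum_const_nat (m := f)]
      · rw [Finset.card_erase_of_mem (Finset.mem_univ _), Finset.card_univ, Nat.card_eq_fintype_card]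
      · intro t ht
        rw [Finset.mem_erase] at ht
        exact hfix t t.2 (fun h => ht.1 (Subtype.ext h))
  have hDas : D.card = K.index * s := hK.symm
  refine ⟨K.index, f, ⟨K, rfl⟩, hDas, hs1, Dvd.intro_left e hes, ?_, ?_, hfix⟩
  · rw [← hes]
    have : D.card * e = D.card + (e * s - 1) * f := by rw [← hdc, hsum, hes]
    rw [hDas] at this
    rw [← this]
    ring
  · rw [← hDas]
    apply Finset.card_lt_card
    rw [Finset.filter_ssubset]
    exact ⟨ω, orb_self_mem_D Q L ω, ht1ω⟩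

/-- arithmetic: `a N = a s + (N-1) f`, `f < a s` give `a ≥ f + 1` and `a s = (a - f) N + f`. -/
theorem orbf_arith (a s f N : ℕ) (hN : 1 ≤ N) (h1 : a * N = a * s + (N - 1) * f) (h2 : f < a * s) :
    f + 1 ≤ a ∧ a * s = (a - f) * N + f := by
  obtain ⟨M, rfl⟩ : ∃ M, N = M + 1 := ⟨N - 1, by omega⟩
  simp only [Nat.add_sub_cancel] at h1
  have h3 : f < a := by
    by_contra hcon
    rw [not_lt] at hcon
    have : a * (M + 1) ≤ f * (M + 1) := Nat.mul_le_mul_right _ hcon
    nlinarith
  refine ⟨h3, ?_⟩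
  obtain ⟨k, rfl⟩ : ∃ k, a = f + k := ⟨a - f, by omega⟩
  simp only [Nat.add_sub_cancel_left]
  nlinarith

theorem orbf_mem_cj_iff {G : Type*} [Group G] (H : Subgroup G) (g t : G) :
    t ∈ cj g H ↔ t • (g : G ⧸ H) = (g : G ⧸ H) := by
  rw [mem_cj]
  show g⁻¹ * t * g ∈ H ↔ ((t * g : G) : G ⧸ H) = (g : G ⧸ H)
  rw [QuotientGroup.eq, mul_inv_rev]
  constructor
  · intro h
    have := H.inv_mem h
    simpa [mul_assoc] using this
  · intro h
    have := H.inv_mem h
    simpa [mul_assoc] using this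

variable {G : Type*} [Group G] [Finite G]

/-- MI-ORB (complete backup version; same statement as `orbit_dichotomy` of the skeleton). -/
theorem orbf_orbit_dichotomy (H Q L : Subgroup G) (N : ℕ) (hN : Nat.card Q = N)
    (hnorm : ∀ l ∈ L, ∀ t ∈ Q, l * t * l⁻¹ ∈ Q)
    (hconj : ∀ t ∈ Q, ∀ t' ∈ Q, t ≠ 1 → t' ≠ 1 → ∃ l ∈ L, l * t * l⁻¹ = t')
    (hnt : ∃ g : G, ¬ Q ≤ cj g H) (hd : H.index < 2 * N) :
    ∃ s a : ℕ, 1 < s ∧ s ∣ N ∧ a * (s - 1) = N - 1 ∧
      H.index = a * s + Nat.card {x : G ⧸ H // ∀ t ∈ Q, t • x = x} ∧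
      (∀ g : G, Q ≤ cj g H ∨ (cj g H).relIndex Q = s) ∧
      (∃ K : Subgroup L, K.index = a) ∧
      (∀ t ∈ Q, t ≠ 1 → Nat.card {x : G ⧸ H // t • x = x} =
        (a - 1) + Nat.card {x : G ⧸ H // ∀ t ∈ Q, t • x = x}) := by
  classical
  have : Fintype G := Fintype.ofFinite _
  have : Fintype (G ⧸ H) := Fintype.ofFinite _
  subst hN
  have hN1 : 1 ≤ Nat.card Q := Nat.card_pos
  -- the base point
  obtain ⟨g0, hg0⟩ := hnt
  have hω0 : ∃ t ∈ Q, t • (g0 : G ⧸ H) ≠ (g0 : G ⧸ H) := by
    by_contra hcon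
    push Not at hcon
    exact hg0 (fun t ht => (orbf_mem_cj_iff H g0 t).2 (hcon t ht))
  set ω0 : G ⧸ H := (g0 : G ⧸ H) with hω0def
  obtain ⟨a, f, hK, hDas, hs1, hsN, hburn, hfas, hfix⟩ := orbf_key Q L hnorm hconj ω0 hω0
  set s := (orb_Qorb Q ω0).card with hs
  set D0 := orb_D Q L ω0 with hD0
  obtain ⟨haf, hasN⟩ := orbf_arith a s f _ hN1 hburn hfas
  set Fix : Finset (G ⧸ H) := Finset.univ.filter (fun x => ∀ t ∈ Q, t • x = x) with hFix
  have hes := orb_card_stab_mul Q ω0
  -- points of `D0` are not fixed by `Q`, and their `Q`-orbits have size `s`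
  have hstabD : ∀ x ∈ D0, Nat.card {t : Q // (t : G) • x = x} * s = Nat.card Q := by
    intro x hx
    rw [orb_card_stab_D hnorm ω0 x hx]
    exact hes
  have hDnotFix : ∀ x ∈ D0, x ∉ Fix := by
    intro x hx hxF
    rw [hFix, Finset.mem_filter] at hxF
    have h1 : Nat.card {t : Q // (t : G) • x = x} = Nat.card Q := by
      apply Nat.card_congr
      exact Equiv.subtypeUnivEquiv (fun t => hxF.2 t t.2)
    have h2 := hstabD x hx
    rw [h1] at h2
    have : s = 1 := by
      have hpos : 0 < Nat.card Q := hN1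
      nlinarith [Nat.eq_of_mul_eq_mul_left hpos (by rw [h2, mul_one] : Nat.card Q * s = Nat.card Q * 1)]
    omega
  have hQorbD : ∀ x ∈ D0, (orb_Qorb Q x).card = s := by
    intro x hx
    have h1 := orb_card_stab_mul Q x
    rw [orb_card_stab_D hnorm ω0 x hx] at h1
    have hepos : 0 < Nat.card {t : Q // (t : G) • ω0 = ω0} := by
      rcases Nat.eq_zero_or_pos (Nat.card {t : Q // (t : G) • ω0 = ω0}) with h0 | h0
      · rw [h0, zero_mul] at hes
        omega
      · exact h0
    exact Nat.eq_of_mul_eq_mul_left hepos (h1.trans hes.symm)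
  -- every point is fixed by `Q` or lies in `D0`
  have hcover : ∀ x : G ⧸ H, x ∈ Fix ∨ x ∈ D0 := by
    intro x
    by_contra hcon
    push Not at hcon
    obtain ⟨hxF, hxD⟩ := hcon
    have hx : ∃ t ∈ Q, t • x ≠ x := by
      by_contra h
      push Not at h
      exact hxF (by rw [hFix, Finset.mem_filter]; exact ⟨Finset.mem_univ _, h⟩)
    obtain ⟨a1, f1, -, hDas1, -, -, hburn1, hfas1, -⟩ := orbf_key Q L hnorm hconj x hx
    obtain ⟨haf1, hasN1⟩ := orbf_arith a1 _ f1 _ hN1 hburn1 hfas1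
    have hdisj : Disjoint D0 (orb_D Q L x) := by
      rw [Finset.disjoint_left]
      intro y hy0 hy1
      apply hxD
      exact orb_D_eq_of_mem hnorm ω0 y hy0 (orb_mem_D_symm hnorm x y hy1)
    have hcard : D0.card + (orb_D Q L x).card ≤ Fintype.card (G ⧸ H) := by
      rw [← Finset.card_union_of_disjoint hdisj]
      exact Finset.card_le_univ _
    have hidx : H.index = Fintype.card (G ⧸ H) := by
      rw [Subgroup.index, Nat.card_eq_fintype_card]
    have h1 : Nat.card Q ≤ D0.card := by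
      rw [hDas, hasN]
      have : 1 ≤ a - f := by omega
      nlinarith
    have h2 : Nat.card Q ≤ (orb_D Q L x).card := by
      rw [hDas1, hasN1]
      have : 1 ≤ a1 - f1 := by omega
      nlinarith
    omega
  have hidx : H.index = Fix.card + D0.card := by
    rw [Subgroup.index, Nat.card_eq_fintype_card, ← Finset.card_univ]
    rw [← Finset.card_union_of_disjoint]
    · congr 1
      ext x
      simp only [Finset.mem_univ, Finset.mem_union, true_iff]
      exact hcover x
    · rw [Finset.disjoint_right]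
      exact hDnotFix
  have hFixcard : Nat.card {x : G ⧸ H // ∀ t ∈ Q, t • x = x} = Fix.card := by
    rw [Nat.card_eq_fintype_card, Fintype.card_subtype]
  -- `a = f + 1`
  have haf' : a = f + 1 := by
    by_contra hne
    have h2 : 2 ≤ a - f := by omega
    have : 2 * Nat.card Q ≤ a * s := by
      rw [hasN]
      nlinarith
    rw [hidx, hDas] at hd
    omega
  have has' : a * s = Nat.card Q + f := by
    rw [hasN, haf']
    simp
  refine ⟨s, a, hs1, hsN, ?_, ?_, ?_, hK, ?_⟩
  · rw [Nat.mul_sub, mul_one, has', haf']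
    omega
  · rw [hidx, hDas, hFixcard, add_comm]
  · intro g
    rcases hcover (g : G ⧸ H) with hF | hD
    · left
      intro t ht
      rw [hFix, Finset.mem_filter] at hF
      exact (orbf_mem_cj_iff H g t).2 (hF.2 t ht)
    · right
      rw [orb_relIndex, orbk_natCard_Qorb]
      exact hQorbD _ hD
  · intro t ht hne
    rw [Nat.card_eq_fintype_card, Fintype.card_subtype, hFixcard]
    have hsplit : (Finset.univ.filter (fun x : G ⧸ H => t • x = x)) =
        (D0.filter (fun x => t • x = x)) ∪ Fix := by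
      ext x
      simp only [Finset.mem_filter, Finset.mem_univ, true_and, Finset.mem_union]
      constructor
      · intro hx
        rcases hcover x with hF | hD
        · exact Or.inr hF
        · exact Or.inl ⟨hD, hx⟩
      · rintro (⟨_, hx⟩ | hF)
        · exact hx
        · rw [hFix, Finset.mem_filter] at hF
          exact hF.2 t ht
    rw [hsplit, Finset.card_union_of_disjoint]
    · congr 1
      rw [haf', Nat.add_sub_cancel]
      convert hfix t ht hne
    · rw [Finset.disjoint_left]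
      intro x hx hxF
      exact hDnotFix x (Finset.mem_filter.1 hx).1 hxF

end abstract

end Cfsg.Agent.Lib.Helper81.Mi
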