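import Mathlib
import Cfsg.Statements.S2924
import Cfsg.Agent.Lib.Helper22.CharP2
import Cfsg.Agent.Lib.Helper22.FStar
import Cfsg.Agent.Lib.Helper22.OcDefs
import Cfsg.Agent.Lib.Helper30.PPrimeCore
import Cfsg.Agent.Lib.Helper79.Oc3a
import Cfsg.Agent.Lib.Helper88.OcOC3b
import Cfsg.Agent.Lib.Helper97.Oc3c
import Cfsg.Agent.Lib.Helper69.OcOC3d
import Cfsg.Agent.Lib.Helper9.OcOC3e
import Cfsg.Agent.Lib.Helper75.OcOC3f

/-! # Oc hive (S2924, helper22): leaf OC3 - `H/O(H)` has characteristic 2 (assembly of OC3a-f) -/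

set_option autoImplicit false
set_option linter.style.haveILetI false
open Cfsg Subgroup

namespace Cfsg.Agent.Lib.Helper35.Oc3

open Cfsg.Agent.Lib.Helper22.Oc (oc3b oc3d oc3e oc3f)
open Cfsg.Agent.Lib.Helper79.Oc3a (oc3a)
open Cfsg.Agent.Lib.Helper97.Oc3c (oc3c)

universe u

/-- a subgroup inverted elementwise by some element is commutative -/
theorem oc3_comm_of_inverted {H : Type u} [Group H] (N : Subgroup H) (z : H)
    (hinv : ∀ n ∈ N, z * n * z⁻¹ = n⁻¹) : N ≤ centralizer (N : Set H) := by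
  intro n hn
  rw [mem_centralizer_iff]
  intro m hm
  have h1 := hinv (m * n) (N.mul_mem hm hn)
  have h2 := hinv m hm
  have h3 := hinv n hn
  have h4 : z * (m * n) * z⁻¹ = (z * m * z⁻¹) * (z * n * z⁻¹) := by group
  rw [h4, h2, h3, mul_inv_rev] at h1
  -- m⁻¹ * n⁻¹ = n⁻¹ * m⁻¹
  have h5 : (m⁻¹ * n⁻¹)⁻¹ = (n⁻¹ * m⁻¹)⁻¹ := by rw [h1]
  have h6 : n * m = m * n := by simpa [mul_inv_rev] using h5
  exact h6.symm

/-- a nontrivial layer contains a component -/
theorem oc3_exists_component {G : Type u} [Group G] (h : layer G ≠ ⊥) :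
    ∃ K : Subgroup G, IsComponent K := by
  by_contra hno
  have hno : ∀ K : Subgroup G, ¬ IsComponent K := fun K hK => hno ⟨K, hK⟩
  apply h
  unfold layer
  rw [eq_bot_iff]
  apply sSup_le
  intro K hK
  exact absurd hK (hno K)

/-- OC3. `H/O(H)` has characteristic 2. -/
theorem oc3 {H : Type u} [Group H] [Finite H] (z : H) (hz2 : z ^ 2 = 1)
    (hinv : ∀ n ∈ oddCore H, z * n * z⁻¹ = n⁻¹)
    (hE : layer H = ⊥) (hEz : layer ↥(centralizer ({z} : Set H)) = ⊥) :
    generalizedFittingSubgroup (H ⧸ oddCore H) = pCore 2 (H ⧸ oddCore H) := by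
  haveI : Fact (Nat.Prime 2) := ⟨Nat.prime_two⟩
  have hNodd : Odd (Nat.card (oddCore H)) := by
    have := Cfsg.Agent.Lib.Helper30.pPrimeCore_card_coprime (G := H) 2
    exact Nat.Coprime.odd_of_right this
  apply Cfsg.Agent.Lib.Helper22.generalizedFitting_eq_pCore_of 2
  · by_contra hne
    obtain ⟨K, hK⟩ := oc3_exists_component hne
    -- the centralizer of `N` and its image
    have hCn : (centralizer ((oddCore H : Subgroup H) : Set H)).Normal := inferInstance
    haveI : ((centralizer ((oddCore H : Subgroup H) : Set H)).map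
        (QuotientGroup.mk' (oddCore H))).Normal :=
      Subgroup.Normal.map hCn _ (QuotientGroup.mk'_surjective _)
    rcases oc3f K ((centralizer ((oddCore H : Subgroup H) : Set H)).map
        (QuotientGroup.mk' (oddCore H))) hK with hle | hcomm
    · apply oc3a (oddCore H) K hK _ hE
      have h1 : K.comap (QuotientGroup.mk' (oddCore H)) ≤
          ((centralizer ((oddCore H : Subgroup H) : Set H)).map
            (QuotientGroup.mk' (oddCore H))).comap (QuotientGroup.mk' (oddCore H)) :=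
        Subgroup.comap_mono hle
      rw [Subgroup.comap_map_eq, QuotientGroup.ker_mk'] at h1
      exact h1.trans (sup_le le_rfl (oc3_comm_of_inverted _ z hinv))
    · have h2 : K ≤ centralizer ({(QuotientGroup.mk z : H ⧸ oddCore H)} : Set (H ⧸ oddCore H)) := by
        apply oc3b (oddCore H) z hinv K hK
        intro k hk c hc
        exact hcomm k hk _ (Subgroup.mem_map_of_mem _ hc)
      exact oc3d K _ hK h2 (oc3c (oddCore H) hNodd z hz2 hinv hEz)
  · intro q hq hq2
    exact oc3e q hq hq2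

end Cfsg.Agent.Lib.Helper35.Oc3
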