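import Mathlib
import Cfsg.Prelude.Def_GeometricClasses

/-! # S5981 hive (helper44), leaf OF-NSQ1 (helper35): a similitude `y` of a nondegenerate quadratic
form in even dimension over a finite field of odd characteristic with `y * y = z` -/

set_option autoImplicit false
set_option linter.unusedSimpArgs false
set_option linter.style.haveILetI false
open scoped MatrixGroups
open Matrix Polynomial

namespace Cfsg.Agent.Lib.Helper44.Of

universe v

variable {F : Type v} [Field F]

/-- the form `α² + c β²` (`c ≠ 0`) represents every element of a finite field of odd characteristic -/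
theorem nsq1_exists_norm_eq [Fintype F] (h2 : (2 : F) ≠ 0) (c δ : F) (hc : c ≠ 0) :
    ∃ α β : F, α ^ 2 + c * β ^ 2 = δ := by
  have hchar : ringChar F ≠ 2 := by
    intro h
    haveI : CharP F 2 := ringChar.of_eq h
    exact h2 CharTwo.two_eq_zero
  have hK := FiniteField.odd_card_of_char_ne_two hchar
  obtain ⟨α, β, hab⟩ := FiniteField.exists_root_sum_quadratic
    (f := (X : F[X]) ^ 2 - C δ) (g := C c * X ^ 2)
    (degree_X_pow_sub_C (by decide) _) (degree_C_mul_X_pow 2 hc) hK
  refine ⟨α, β, ?_⟩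
  simp only [eval_sub, eval_pow, eval_X, eval_C, eval_mul] at hab
  linear_combination hab

/-- the polar form of `Q` as a Mathlib bilinear form -/
noncomputable def nsq1_B {n : ℕ} (Q : (Fin n → F) → F)
    (hQ : Cfsg.Geo.IsNondegenerateQuadraticForm Q) : LinearMap.BilinForm F (Fin n → F) :=
  LinearMap.mk₂ F (QuadraticMap.polar Q) hQ.polar_bilinear.add_left
    (fun c m n => by rw [hQ.polar_bilinear.smul_left, smul_eq_mul]) hQ.polar_bilinear.add_right
    (fun c m n => by rw [hQ.polar_bilinear.smul_right, smul_eq_mul])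

theorem nsq1_B_apply {n : ℕ} (Q : (Fin n → F) → F)
    (hQ : Cfsg.Geo.IsNondegenerateQuadraticForm Q) (u v : Fin n → F) :
    nsq1_B Q hQ u v = QuadraticMap.polar Q u v := rfl

/-- abstract construction on an orthogonal basis indexed by `ι ⊕ ι` -/
theorem nsq1_exists_linear [Fintype F] (h2 : (2 : F) ≠ 0) {V : Type*} [AddCommGroup V] [Module F V]
    {ι : Type*} (B : LinearMap.BilinForm F V) (e : Module.Basis (ι ⊕ ι) F V)
    (ho : ∀ i j, i ≠ j → B (e i) (e j) = 0) (hd : ∀ i, B (e i) (e i) ≠ 0) (z : F) :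
    ∃ f : V →ₗ[F] V, (∀ u, f (f u) = z • u) ∧ ∀ u w, B (f u) (f w) = z * B u w := by
  classical
  have hex : ∀ k : ι, ∃ α β : F,
      α ^ 2 + (B (e (Sum.inl k)) (e (Sum.inl k)) / B (e (Sum.inr k)) (e (Sum.inr k))) * β ^ 2 = z :=
    fun k => nsq1_exists_norm_eq h2 _ z (div_ne_zero (hd _) (hd _))
  choose α β hαβ using hex
  let γ : ι → F := fun k =>
    B (e (Sum.inl k)) (e (Sum.inl k)) * β k / B (e (Sum.inr k)) (e (Sum.inr k))
  let img : ι ⊕ ι → V := Sum.elim (fun k => α k • e (Sum.inl k) + γ k • e (Sum.inr k))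
    (fun k => β k • e (Sum.inl k) - α k • e (Sum.inr k))
  let f : V →ₗ[F] V := e.constr F img
  have hfl : ∀ k, f (e (Sum.inl k)) = α k • e (Sum.inl k) + γ k • e (Sum.inr k) := fun k => by
    simp only [f, Module.Basis.constr_basis, img, Sum.elim_inl]
  have hfr : ∀ k, f (e (Sum.inr k)) = β k • e (Sum.inl k) - α k • e (Sum.inr k) := fun k => by
    simp only [f, Module.Basis.constr_basis, img, Sum.elim_inr]
  have h1 : ∀ k, γ k * B (e (Sum.inr k)) (e (Sum.inr k))
      = B (e (Sum.inl k)) (e (Sum.inl k)) * β k := fun k => by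
    simp only [γ]
    rw [div_mul_cancel₀ _ (hd _)]
  have hγβ : ∀ k, γ k * β k = z - α k ^ 2 := fun k => by
    have := hαβ k
    simp only [γ]
    rw [← this]
    ring
  have hff : f ∘ₗ f = z • LinearMap.id := by
    apply e.ext
    rintro (k | k)
    · simp only [LinearMap.comp_apply, hfl, hfr, map_add, map_smul, map_sub, LinearMap.smul_apply,
        LinearMap.id_apply]
      have hz : z = α k * α k + γ k * β k := by rw [hγβ]; ring
      rw [hz]
      module
    · simp only [LinearMap.comp_apply, hfl, hfr, map_add, map_smul, map_sub, LinearMap.smul_apply,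
        LinearMap.id_apply]
      have hz : z = α k * α k + γ k * β k := by rw [hγβ]; ring
      rw [hz]
      module
  have hlr : ∀ k l, B (e (Sum.inl k)) (e (Sum.inr l)) = 0 := fun k l => ho _ _ (by simp)
  have hrl : ∀ k l, B (e (Sum.inr k)) (e (Sum.inl l)) = 0 := fun k l => ho _ _ (by simp)
  have hBB : B.compl₁₂ f f = z • B := by
    apply LinearMap.BilinForm.ext_basis e
    rintro (k | k) (l | l)
    · simp only [LinearMap.compl₁₂_apply, hfl, hfr, map_add, map_smul, map_sub, LinearMap.add_apply,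
        LinearMap.smul_apply, LinearMap.sub_apply, smul_eq_mul, hlr, hrl]
      by_cases hkl : k = l
      · subst hkl
        linear_combination γ k * h1 k + B (e (Sum.inl k)) (e (Sum.inl k)) * hγβ k
      · have e1 : B (e (Sum.inl k)) (e (Sum.inl l)) = 0 := ho _ _ (by simpa using hkl)
        have e2 : B (e (Sum.inr k)) (e (Sum.inr l)) = 0 := ho _ _ (by simpa using hkl)
        rw [e1, e2]; ring
    · simp only [LinearMap.compl₁₂_apply, hfl, hfr, map_add, map_smul, map_sub, LinearMap.add_apply,
        LinearMap.smul_apply, LinearMap.sub_apply, smul_eq_mul, hlr, hrl]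
      by_cases hkl : k = l
      · subst hkl
        linear_combination (-α k) * h1 k
      · have e1 : B (e (Sum.inl k)) (e (Sum.inl l)) = 0 := ho _ _ (by simpa using hkl)
        have e2 : B (e (Sum.inr k)) (e (Sum.inr l)) = 0 := ho _ _ (by simpa using hkl)
        rw [e1, e2]; ring
    · simp only [LinearMap.compl₁₂_apply, hfl, hfr, map_add, map_smul, map_sub, LinearMap.add_apply,
        LinearMap.smul_apply, LinearMap.sub_apply, smul_eq_mul, hlr, hrl]
      by_cases hkl : k = l
      · subst hkl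
        linear_combination (-α k) * h1 k
      · have e1 : B (e (Sum.inl k)) (e (Sum.inl l)) = 0 := ho _ _ (by simpa using hkl)
        have e2 : B (e (Sum.inr k)) (e (Sum.inr l)) = 0 := ho _ _ (by simpa using hkl)
        rw [e1, e2]; ring
    · simp only [LinearMap.compl₁₂_apply, hfl, hfr, map_add, map_smul, map_sub, LinearMap.add_apply,
        LinearMap.smul_apply, LinearMap.sub_apply, smul_eq_mul, hlr, hrl]
      by_cases hkl : k = l
      · subst hkl
        linear_combination (-β k) * h1 k + B (e (Sum.inr k)) (e (Sum.inr k)) * hγβ k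
      · have e1 : B (e (Sum.inl k)) (e (Sum.inl l)) = 0 := ho _ _ (by simpa using hkl)
        have e2 : B (e (Sum.inr k)) (e (Sum.inr l)) = 0 := ho _ _ (by simpa using hkl)
        rw [e1, e2]; ring
  refine ⟨f, fun u => ?_, fun u w => ?_⟩
  · have := LinearMap.congr_fun hff u
    simpa using this
  · have := LinearMap.congr_fun (LinearMap.congr_fun hBB u) w
    simpa [LinearMap.compl₁₂_apply] using this

/-- OF-NSQ1 -/
theorem exists_mem_sq_eq [Fintype F] (h2 : (2 : F) ≠ 0) {n : ℕ} (hn : Even n)
    (Q : (Fin n → F) → F) (hQ : Cfsg.Geo.IsNondegenerateQuadraticForm Q) (z : F) (hz : z ≠ 0) :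
    ∃ y : GL (Fin n) F, y ∈ Cfsg.Geo.quadSimilarityGroup Q ∧
      (y : Matrix (Fin n) (Fin n) F) * (y : Matrix (Fin n) (Fin n) F) = z • (1 : Matrix (Fin n) (Fin n) F) := by
  classical
  obtain ⟨m, hm⟩ := hn
  have hsymm : LinearMap.IsSymm (nsq1_B Q hQ) := by
    refine ⟨fun u w => ?_⟩
    simp only [nsq1_B_apply, RingHom.id_apply]
    exact QuadraticMap.polar_comm Q u w
  haveI : Invertible (2 : F) := invertibleOfNonzero h2
  obtain ⟨v, hv⟩ := LinearMap.BilinForm.exists_orthogonal_basis hsymm
  have hfr : Module.finrank F (Fin n → F) = m + m := by rw [Module.finrank_fin_fun, hm]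
  let σ : Fin (Module.finrank F (Fin n → F)) ≃ Fin m ⊕ Fin m :=
    (finCongr hfr).trans finSumFinEquiv.symm
  let e : Module.Basis (Fin m ⊕ Fin m) F (Fin n → F) := v.reindex σ
  have ho : ∀ i j, i ≠ j → nsq1_B Q hQ (e i) (e j) = 0 := by
    intro i j hij
    simp only [e, Module.Basis.reindex_apply]
    exact hv (fun h => hij (σ.symm.injective h))
  have hsep : (nsq1_B Q hQ).SeparatingLeft := by
    intro x hx
    by_contra hx0
    obtain ⟨-, ⟨w, hw⟩⟩ := hQ.nondegenerate x hx0
    exact hw (hx w)
  have hd : ∀ i, nsq1_B Q hQ (e i) (e i) ≠ 0 := by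
    intro i
    simp only [e, Module.Basis.reindex_apply]
    exact hv.not_isOrtho_basis_self_of_separatingLeft hsep _
  obtain ⟨f, hff, hfB⟩ := nsq1_exists_linear h2 (nsq1_B Q hQ) e ho hd z
  have hMM : LinearMap.toMatrix' f * LinearMap.toMatrix' f = z • (1 : Matrix (Fin n) (Fin n) F) := by
    rw [← LinearMap.toMatrix'_comp]
    have : f ∘ₗ f = z • LinearMap.id := LinearMap.ext hff
    rw [this, map_smul, LinearMap.toMatrix'_id]
  have hMv : ∀ u, LinearMap.toMatrix' f *ᵥ u = f u := fun u => by
    rw [← Matrix.toLin'_apply, Matrix.toLin'_toMatrix']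
  have hQB : ∀ u, nsq1_B Q hQ u u = 2 * Q u := by
    intro u
    rw [nsq1_B_apply]
    unfold QuadraticMap.polar
    rw [← two_smul F u, hQ.smul]
    ring
  let y : GL (Fin n) F := ⟨LinearMap.toMatrix' f, z⁻¹ • LinearMap.toMatrix' f,
    by rw [Matrix.mul_smul, hMM, smul_smul, inv_mul_cancel₀ hz, one_smul],
    by rw [Matrix.smul_mul, hMM, smul_smul, inv_mul_cancel₀ hz, one_smul]⟩
  refine ⟨y, ⟨Units.mk0 z hz, fun u => ?_⟩, hMM⟩
  show Q (LinearMap.toMatrix' f *ᵥ u) = z * Q u
  rw [hMv]
  have h := hfB u u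
  rw [hQB, hQB] at h
  exact mul_left_cancel₀ h2 (by linear_combination h)

end Cfsg.Agent.Lib.Helper44.Of
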