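import Mathlib
import Cfsg.Prelude.Def_GeometricClasses
import Cfsg.Agent.Lib.Helper44.OcDefs
import Cfsg.Agent.Lib.Helper35.OfNSQ1

/-! # Oc hive (helper44, S5977 / S5978), leaf OC-EJ (helper35): a self-adjoint `J` with `J² = δ` commuting with
an involutive isometry of determinant one. -/

set_option autoImplicit false
set_option linter.unusedSimpArgs false
set_option linter.style.haveILetI false
set_option linter.unusedVariables false
open scoped MatrixGroups
open Matrix

namespace Cfsg.Agent.Lib.Helper44.Oc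

universe v

variable {F : Type v} [Field F] {ι : Type} [Fintype ι] [DecidableEq ι]

/-- on an even-dimensional nondegenerate symmetric space over a finite field of odd characteristic there is a
linear map `f` with `f ∘ f = z` and `B (f u) (f w) = z * B u w` -/
theorem ej_exists_on [Fintype F] (h2 : (2 : F) ≠ 0) {V : Type*} [AddCommGroup V] [Module F V]
    [FiniteDimensional F V] (B : LinearMap.BilinForm F V) (hs : LinearMap.IsSymm B)
    (hnd : B.SeparatingLeft) (he : Even (Module.finrank F V)) (z : F) :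
    ∃ f : V →ₗ[F] V, (∀ u, f (f u) = z • u) ∧ ∀ u w, B (f u) (f w) = z * B u w := by
  classical
  obtain ⟨m, hm⟩ := he
  haveI : Invertible (2 : F) := invertibleOfNonzero h2
  obtain ⟨b, hb⟩ := LinearMap.BilinForm.exists_orthogonal_basis hs
  let σ : Fin (Module.finrank F V) ≃ Fin m ⊕ Fin m := (finCongr hm).trans finSumFinEquiv.symm
  let e : Module.Basis (Fin m ⊕ Fin m) F V := b.reindex σ
  have ho : ∀ i j, i ≠ j → B (e i) (e j) = 0 := by
    intro i j hij
    simp only [e, Module.Basis.reindex_apply]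
    exact hb (fun h => hij (σ.symm.injective h))
  have hd : ∀ i, B (e i) (e i) ≠ 0 := by
    intro i
    simp only [e, Module.Basis.reindex_apply]
    exact hb.not_isOrtho_basis_self_of_separatingLeft hnd _
  exact Cfsg.Agent.Lib.Helper44.Of.nsq1_exists_linear h2 B e ho hd z

/-- abstract form of OC-EJ -/
theorem ej_abstract [Fintype F] (h2 : (2 : F) ≠ 0) {V : Type*} [AddCommGroup V] [Module F V]
    [FiniteDimensional F V] (B : LinearMap.BilinForm F V) (hs : LinearMap.IsSymm B)
    (hnd : B.SeparatingLeft) (X : V →ₗ[F] V) (hXX : ∀ v, X (X v) = v)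
    (hXB : ∀ u v, B (X u) (X v) = B u v) (hev : Even (Module.finrank F V))
    (hdet : LinearMap.det X = 1) (δ : F) (hδ0 : δ ≠ 0) :
    ∃ J : V →ₗ[F] V, (∀ v, J (J v) = δ • v) ∧ (∀ u v, B (J u) v = B u (J v)) ∧
      ∀ v, X (J v) = J (X v) := by
  classical
  have h2' : (2 : F)⁻¹ * 2 = 1 := inv_mul_cancel₀ h2
  have hsymm : ∀ u w, B u w = B w u := fun u w => by
    have := hs.eq u w
    simpa using this
  set Vp : Submodule F V := LinearMap.ker (X - 1) with hVp
  set Vm : Submodule F V := LinearMap.ker (X + 1) with hVm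
  have memp : ∀ v, v ∈ Vp ↔ X v = v := fun v => by
    rw [hVp, LinearMap.mem_ker, LinearMap.sub_apply, Module.End.one_apply, sub_eq_zero]
  have memm : ∀ v, v ∈ Vm ↔ X v = -v := fun v => by
    rw [hVm, LinearMap.mem_ker, LinearMap.add_apply, Module.End.one_apply, add_eq_zero_iff_eq_neg]
  let Pp : V →ₗ[F] V := (2 : F)⁻¹ • (LinearMap.id + X)
  let Pm : V →ₗ[F] V := (2 : F)⁻¹ • (LinearMap.id - X)
  have hPp : ∀ v, Pp v = (2 : F)⁻¹ • (v + X v) := fun v => rfl
  have hPm : ∀ v, Pm v = (2 : F)⁻¹ • (v - X v) := fun v => rfl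
  have hPp_mem : ∀ v, Pp v ∈ Vp := fun v => by
    rw [memp, hPp, map_smul, map_add, hXX, add_comm]
  have hPm_mem : ∀ v, Pm v ∈ Vm := fun v => by
    rw [memm, hPm, map_smul, map_sub, hXX, ← smul_neg, neg_sub]
  have hsum : ∀ v, Pp v + Pm v = v := fun v => by
    rw [hPp, hPm, ← smul_add, add_add_sub_cancel, ← two_smul F v, smul_smul, h2', one_smul]
  have hPp_p : ∀ w ∈ Vp, Pp w = w := fun w hw => by
    rw [hPp, (memp w).1 hw, ← two_smul F w, smul_smul, h2', one_smul]
  have hPm_p : ∀ w ∈ Vp, Pm w = 0 := fun w hw => by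
    rw [hPm, (memp w).1 hw, sub_self, smul_zero]
  have hPp_m : ∀ w ∈ Vm, Pp w = 0 := fun w hw => by
    rw [hPp, (memm w).1 hw, add_neg_cancel, smul_zero]
  have hPm_m : ∀ w ∈ Vm, Pm w = w := fun w hw => by
    rw [hPm, (memm w).1 hw, sub_neg_eq_add, ← two_smul F w, smul_smul, h2', one_smul]
  have hPpX : ∀ v, Pp (X v) = Pp v := fun v => by
    rw [hPp, hPp, hXX, add_comm]
  have hPmX : ∀ v, Pm (X v) = -Pm v := fun v => by
    rw [hPm, hPm, hXX, ← smul_neg, neg_sub]
  have horth : ∀ u ∈ Vp, ∀ w ∈ Vm, B u w = 0 := by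
    intro u hu w hw
    have h := hXB u w
    rw [(memp u).1 hu, (memm w).1 hw, map_neg] at h
    have : (2 : F) * B u w = 0 := by linear_combination -h
    exact (mul_eq_zero.1 this).resolve_left h2
  have horth' : ∀ u ∈ Vp, ∀ w ∈ Vm, B w u = 0 := fun u hu w hw => by
    rw [hsymm]; exact horth u hu w hw
  -- restricted forms
  let Bp : LinearMap.BilinForm F Vp := B.restrict Vp
  let Bm : LinearMap.BilinForm F Vm := B.restrict Vm
  have hBp : ∀ a b : Vp, Bp a b = B a b := fun a b => rfl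
  have hBm : ∀ a b : Vm, Bm a b = B a b := fun a b => rfl
  have hsp : LinearMap.IsSymm Bp := ⟨fun a b => by
    simp only [hBp, RingHom.id_apply]; exact hsymm _ _⟩
  have hsm : LinearMap.IsSymm Bm := ⟨fun a b => by
    simp only [hBm, RingHom.id_apply]; exact hsymm _ _⟩
  have hndp : Bp.SeparatingLeft := by
    intro a ha
    have h0 : (a : V) = 0 := by
      apply hnd
      intro v
      rw [← hsum v, map_add]
      have h1 : B a (Pp v) = 0 := ha ⟨Pp v, hPp_mem v⟩
      rw [h1, horth a a.2 (Pm v) (hPm_mem v), add_zero]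
    exact Subtype.ext h0
  have hndm : Bm.SeparatingLeft := by
    intro a ha
    have h0 : (a : V) = 0 := by
      apply hnd
      intro v
      rw [← hsum v, map_add]
      have h1 : B a (Pm v) = 0 := ha ⟨Pm v, hPm_mem v⟩
      rw [h1, horth' (Pp v) (hPp_mem v) a a.2, add_zero]
    exact Subtype.ext h0
  -- complement and determinant
  have hcompl : IsCompl Vp Vm := by
    constructor
    · rw [Submodule.disjoint_def]
      intro w hp hm
      have h1 := (memp w).1 hp
      have h2m := (memm w).1 hm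
      have h3 : (2 : F) • w = 0 := by
        rw [two_smul]
        nth_rewrite 1 [← h1]
        rw [h2m, neg_add_cancel]
      exact (smul_eq_zero.1 h3).resolve_left h2
    · rw [codisjoint_iff, eq_top_iff]
      intro w _
      rw [← hsum w]
      exact Submodule.add_mem_sup (hPp_mem w) (hPm_mem w)
  have hX : X = (Submodule.prodEquivOfIsCompl Vp Vm hcompl).toLinearMap ∘ₗ
      (LinearMap.prodMap (LinearMap.id : Vp →ₗ[F] Vp) ((-1 : F) • (LinearMap.id : Vm →ₗ[F] Vm))) ∘ₗ
      (Submodule.prodEquivOfIsCompl Vp Vm hcompl).symm.toLinearMap := by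
    apply LinearMap.ext
    intro w
    obtain ⟨⟨a, b⟩, rfl⟩ := (Submodule.prodEquivOfIsCompl Vp Vm hcompl).surjective w
    simp only [LinearMap.comp_apply, LinearEquiv.coe_coe, LinearEquiv.symm_apply_apply,
      LinearMap.prodMap_apply, LinearMap.id_apply, LinearMap.smul_apply,
      Submodule.coe_prodEquivOfIsCompl', map_add]
    rw [(memp a).1 a.2, (memm b).1 b.2]
    simp
  have hevm : Even (Module.finrank F Vm) := by
    have hd := hdet
    rw [hX, LinearMap.det_conj, LinearMap.det_prodMap, LinearMap.det_id, LinearMap.det_smul,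
      LinearMap.det_id, one_mul, mul_one] at hd
    have hne : (-1 : F) ≠ 1 := fun h => h2 (by linear_combination -h)
    exact (neg_one_pow_eq_one_iff_even hne).1 hd
  have hevp : Even (Module.finrank F Vp) := by
    have hadd := Submodule.finrank_add_eq_of_isCompl hcompl
    rw [← hadd] at hev
    exact (Nat.even_add.1 hev).2 hevm
  obtain ⟨fp, hfp1, hfp2⟩ := ej_exists_on h2 Bp hsp hndp hevp δ
  obtain ⟨fm, hfm1, hfm2⟩ := ej_exists_on h2 Bm hsm hndm hevm δ
  have hfps : ∀ a b : Vp, Bp (fp a) b = Bp a (fp b) := by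
    intro a b
    have h := hfp2 a (fp b)
    rw [hfp1, map_smul, smul_eq_mul] at h
    exact mul_left_cancel₀ hδ0 h
  have hfms : ∀ a b : Vm, Bm (fm a) b = Bm a (fm b) := by
    intro a b
    have h := hfm2 a (fm b)
    rw [hfm1, map_smul, smul_eq_mul] at h
    exact mul_left_cancel₀ hδ0 h
  let pp : V →ₗ[F] Vp := Pp.codRestrict Vp hPp_mem
  let pm : V →ₗ[F] Vm := Pm.codRestrict Vm hPm_mem
  have hppc : ∀ v, ((pp v : Vp) : V) = Pp v := fun v => rfl
  have hpmc : ∀ v, ((pm v : Vm) : V) = Pm v := fun v => rfl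
  let J : V →ₗ[F] V := Vp.subtype ∘ₗ fp ∘ₗ pp + Vm.subtype ∘ₗ fm ∘ₗ pm
  have hJ : ∀ v, J v = ((fp (pp v) : Vp) : V) + ((fm (pm v) : Vm) : V) := fun v => rfl
  have hpp_p : ∀ a : Vp, pp (a : V) = a := fun a => Subtype.ext (hPp_p a a.2)
  have hpp_m : ∀ b : Vm, pp (b : V) = 0 := fun b => Subtype.ext (hPp_m b b.2)
  have hpm_p : ∀ a : Vp, pm (a : V) = 0 := fun a => Subtype.ext (hPm_p a a.2)
  have hpm_m : ∀ b : Vm, pm (b : V) = b := fun b => Subtype.ext (hPm_m b b.2)
  have hppJ : ∀ v, pp (J v) = fp (pp v) := fun v => by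
    rw [hJ, map_add, hpp_p, hpp_m, add_zero]
  have hpmJ : ∀ v, pm (J v) = fm (pm v) := fun v => by
    rw [hJ, map_add, hpm_p, hpm_m, zero_add]
  have hBdec : ∀ u w, B u w = Bp (pp u) (pp w) + Bm (pm u) (pm w) := by
    intro u w
    rw [hBp, hBm, hppc, hppc, hpmc, hpmc]
    conv_lhs => rw [← hsum u, ← hsum w]
    rw [map_add, map_add, LinearMap.add_apply, LinearMap.add_apply,
      horth (Pp u) (hPp_mem u) (Pm w) (hPm_mem w), horth' (Pp w) (hPp_mem w) (Pm u) (hPm_mem u)]
    ring
  refine ⟨J, ?_, ?_, ?_⟩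
  · intro w
    rw [hJ (J w), hppJ, hpmJ, hfp1, hfm1]
    conv_rhs => rw [← hsum w]
    rw [smul_add]
    rfl
  · intro u w
    rw [hBdec (J u) w, hBdec u (J w), hppJ, hpmJ, hppJ, hpmJ, hfps, hfms]
  · intro w
    rw [hJ, map_add, (memp _).1 (fp (pp w)).2, (memm _).1 (fm (pm w)).2, hJ]
    have h1 : pp (X w) = pp w := Subtype.ext (hPpX w)
    have h2m : pm (X w) = -pm w := Subtype.ext (by rw [hpmc, hPmX]; rfl)
    rw [h1, h2m, map_neg]
    rfl

/-- **OC-EJ** -/
theorem exists_J_commute_invol [Fintype F] (h2 : (2 : F) ≠ 0) (Q : (ι → F) → F)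
    (hQ : Cfsg.Geo.IsNondegenerateQuadraticForm Q) (hcard : Even (Fintype.card ι)) (δ : F) (hδ : ¬ IsSquare δ)
    (x : GL ι F) (hx : x ∈ Cfsg.isometryGroup F Q)
    (hxx : (x : Matrix ι ι F) * (x : Matrix ι ι F) = 1) (hdet : (x : Matrix ι ι F).det = 1) :
    ∃ J : Matrix ι ι F, IsJ Q δ J ∧ (x : Matrix ι ι F) * J = J * (x : Matrix ι ι F) := by
  classical
  let B : LinearMap.BilinForm F (ι → F) :=
    LinearMap.mk₂ F (QuadraticMap.polar Q) hQ.polar_bilinear.add_left
      (fun c m n => by rw [hQ.polar_bilinear.smul_left, smul_eq_mul]) hQ.polar_bilinear.add_right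
      (fun c m n => by rw [hQ.polar_bilinear.smul_right, smul_eq_mul])
  have hBa : ∀ u w, B u w = QuadraticMap.polar Q u w := fun _ _ => rfl
  have hs : LinearMap.IsSymm B := ⟨fun u w => by
    simp only [hBa, RingHom.id_apply]; exact QuadraticMap.polar_comm Q u w⟩
  have hnd : B.SeparatingLeft := by
    intro u hu
    by_contra h0
    obtain ⟨-, ⟨w, hw⟩⟩ := hQ.nondegenerate u h0
    exact hw (hu w)
  let X : (ι → F) →ₗ[F] (ι → F) := Matrix.toLin' (x : Matrix ι ι F)
  have hXa : ∀ w, X w = (x : Matrix ι ι F) *ᵥ w := fun w => Matrix.toLin'_apply _ _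
  have hXX : ∀ w, X (X w) = w := by
    intro w
    rw [hXa, hXa, Matrix.mulVec_mulVec, hxx, Matrix.one_mulVec]
  have hQX : ∀ w, Q (X w) = Q w := fun w => by rw [hXa]; exact hx w w
  have hXB : ∀ u w, B (X u) (X w) = B u w := by
    intro u w
    simp only [hBa, QuadraticMap.polar]
    rw [← map_add, hQX, hQX, hQX]
  have hev : Even (Module.finrank F (ι → F)) := by
    rw [Module.finrank_fintype_fun_eq_card]; exact hcard
  have hdetX : LinearMap.det X = 1 := by rw [LinearMap.det_toLin']; exact hdet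
  have hδ0 : δ ≠ 0 := fun h => hδ (h ▸ ⟨0, by ring⟩)
  obtain ⟨J, hJJ, hJs, hJX⟩ := ej_abstract h2 B hs hnd X hXX hXB hev hdetX δ hδ0
  have hMv : ∀ u, LinearMap.toMatrix' J *ᵥ u = J u := fun u => by
    rw [← Matrix.toLin'_apply, Matrix.toLin'_toMatrix']
  refine ⟨LinearMap.toMatrix' J, ⟨?_, ?_⟩, ?_⟩
  · rw [← LinearMap.toMatrix'_comp]
    have : J ∘ₗ J = δ • LinearMap.id := LinearMap.ext hJJ
    rw [this, map_smul, LinearMap.toMatrix'_id]
  · intro u w
    rw [hMv, hMv]
    exact hJs u w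
  · have hx' : (x : Matrix ι ι F) = LinearMap.toMatrix' X := (LinearMap.toMatrix'_toLin' _).symm
    rw [hx', ← LinearMap.toMatrix'_comp, ← LinearMap.toMatrix'_comp]
    congr 1
    exact LinearMap.ext hJX

end Cfsg.Agent.Lib.Helper44.Oc
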