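import Mathlib
import Cfsg.Agent.Lib.Helper39.OoDefs

/-! # S2547 OO hive (helper39), leaves OO-DIAG + OO-PERM (helper35) -/

set_option autoImplicit false

namespace Cfsg.Agent.Lib.Helper39.OoBN

open Matrix Cfsg

variable {F : Type*} [Field F] {m : ℕ}

/-- LEAF DIAG (S): diagonal isometries. -/
theorem exists_diag (d : Idx m → F) (h0 : d e0 ^ 2 = 1) (hd : ∀ i : Fin m, d (xi i) * d (yi i) = 1) :
    ∃ g : OG F m, mat g = Matrix.diagonal d := by
  have hbar : ∀ a, d a * d (bar a) = 1 := by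
    rintro (u | i | i)
    · show d e0 * d e0 = 1
      rw [← sq]; exact h0
    · exact hd i
    · show d (yi i) * d (xi i) = 1
      rw [mul_comm]; exact hd i
  have hbar' : ∀ a, d (bar a) * d a = 1 := fun a => by rw [mul_comm]; exact hbar a
  refine ⟨mkOG (Matrix.diagonal d) (Matrix.diagonal fun a => d (bar a)) ?_ ?_ ?_, mat_mkOG _ _ _ _ _⟩
  · rw [Matrix.diagonal_mul_diagonal]
    simp only [hbar]
    exact Matrix.diagonal_one
  · rw [Matrix.diagonal_mul_diagonal]
    simp only [hbar']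
    exact Matrix.diagonal_one
  · intro v
    unfold Cfsg.quadFormOdd
    simp only [Matrix.mulVec_diagonal]
    have e1 : (d (Sum.inl ()) * v (Sum.inl ())) ^ 2 = v (Sum.inl ()) ^ 2 := by
      have : d (Sum.inl ()) ^ 2 = 1 := h0
      rw [mul_pow, this, one_mul]
    rw [e1]
    congr 1
    apply Finset.sum_congr (Eq.refl _)
    intro i _
    have := hd i
    unfold xi yi at this
    linear_combination (v (Sum.inr (Sum.inl i)) * v (Sum.inr (Sum.inr i))) * this

/-- `permMat` is multiplicative -/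
theorem perm_permMat_mul (σ τ : Equiv.Perm (Idx m)) :
    permMat F σ * permMat F τ = permMat F (σ * τ) := by
  ext a s
  rw [Matrix.mul_apply, permMat_apply]
  simp only [permMat_apply, Equiv.Perm.mul_apply]
  rw [Finset.sum_eq_single (τ s)]
  · by_cases h : a = σ (τ s) <;> simp [h]
  · intro b _ hb
    rw [if_neg hb, mul_zero]
  · intro h; exact absurd (Finset.mem_univ _) h

theorem perm_permMat_one : permMat F (1 : Equiv.Perm (Idx m)) = 1 := by
  ext a s
  rw [permMat_apply, Matrix.one_apply, Equiv.Perm.one_apply]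

theorem perm_permMat_mulVec (σ : Equiv.Perm (Idx m)) (v : Idx m → F) (a : Idx m) :
    (permMat F σ *ᵥ v) a = v (σ.symm a) := by
  rw [Matrix.mulVec, dotProduct]
  simp only [permMat_apply]
  rw [Finset.sum_eq_single (σ.symm a)]
  · simp
  · intro b _ hb
    rw [if_neg, zero_mul]
    intro h
    apply hb
    rw [h, Equiv.symm_apply_apply]
  · intro h; exact absurd (Finset.mem_univ _) h

/-- LEAF PERM (S/M): permutation matrices of permutations fixing `e₀` and commuting with `bar` are isometries. -/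
theorem exists_perm (σ : Equiv.Perm (Idx m)) (h0 : σ e0 = e0) (hσ : ∀ a, σ (bar a) = bar (σ a)) :
    ∃ g : OG F m, mat g = permMat F σ := by
  have h0' : σ.symm e0 = e0 := by rw [Equiv.symm_apply_eq, h0]
  have hσ' : ∀ a, σ.symm (bar a) = bar (σ.symm a) := by
    intro a
    rw [Equiv.symm_apply_eq, hσ, Equiv.apply_symm_apply]
  -- the induced permutation of the pairs
  let pr : Idx m → Fin m → Fin m := fun b i =>
    match b with
    | Sum.inl _ => i
    | Sum.inr (Sum.inl j) => j
    | Sum.inr (Sum.inr j) => j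
  have key : ∀ (ρ : Equiv.Perm (Idx m)), ρ e0 = e0 → (∀ a, ρ (bar a) = bar (ρ a)) →
      ∀ i : Fin m, (ρ (xi i) = xi (pr (ρ (xi i)) i) ∧ ρ (yi i) = yi (pr (ρ (xi i)) i)) ∨
        (ρ (xi i) = yi (pr (ρ (xi i)) i) ∧ ρ (yi i) = xi (pr (ρ (xi i)) i)) := by
    intro ρ hρ0 hρ i
    have hy : ρ (yi i) = bar (ρ (xi i)) := by rw [← hρ, bar_xi]
    rcases hb : ρ (xi i) with u | j | j
    · exfalso
      have : ρ (xi i) = ρ e0 := by rw [hb, hρ0]; rfl
      have := ρ.injective this
      exact absurd this (by simp [xi, e0])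
    · left
      refine ⟨rfl, ?_⟩
      rw [hy, hb]; rfl
    · right
      refine ⟨rfl, ?_⟩
      rw [hy, hb]; rfl
  let τ : Fin m → Fin m := fun i => pr (σ.symm (xi i)) i
  let τ' : Fin m → Fin m := fun j => pr (σ (xi j)) j
  have hττ' : ∀ i, τ' (τ i) = i := by
    intro i
    rcases key σ.symm h0' hσ' i with ⟨h1, h2⟩ | ⟨h1, h2⟩
    · have : σ (xi (τ i)) = xi i := by rw [← h1, Equiv.apply_symm_apply]
      show pr (σ (xi (τ i))) (τ i) = i
      rw [this]; exact Eq.refl _
    · have : σ (yi (τ i)) = xi i := by rw [← h1, Equiv.apply_symm_apply]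
      have h3 : σ (xi (τ i)) = yi i := by
        rw [← bar_yi, hσ, this, bar_xi]
      show pr (σ (xi (τ i))) (τ i) = i
      rw [h3]; exact Eq.refl _
  have hτ'τ : ∀ j, τ (τ' j) = j := by
    intro j
    rcases key σ h0 hσ j with ⟨h1, h2⟩ | ⟨h1, h2⟩
    · have : σ.symm (xi (τ' j)) = xi j := by rw [← h1, Equiv.symm_apply_apply]
      show pr (σ.symm (xi (τ' j))) (τ' j) = j
      rw [this]; exact Eq.refl _
    · have : σ.symm (yi (τ' j)) = xi j := by rw [← h1, Equiv.symm_apply_apply]
      have h3 : σ.symm (xi (τ' j)) = yi j := by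
        rw [← bar_yi, hσ', this, bar_xi]
      show pr (σ.symm (xi (τ' j))) (τ' j) = j
      rw [h3]; exact Eq.refl _
  let e : Fin m ≃ Fin m := ⟨τ, τ', hττ', hτ'τ⟩
  refine ⟨mkOG (permMat F σ) (permMat F σ.symm) ?_ ?_ ?_, mat_mkOG _ _ _ _ _⟩
  · rw [perm_permMat_mul]
    have : σ * σ.symm = 1 := by ext a; simp
    rw [this, perm_permMat_one]
  · rw [perm_permMat_mul]
    have : σ.symm * σ = 1 := by ext a; simp
    rw [this, perm_permMat_one]
  · intro v
    unfold Cfsg.quadFormOdd
    simp only [perm_permMat_mulVec]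
    have e1 : v (σ.symm (Sum.inl ())) = v (Sum.inl ()) := by
      have : σ.symm (Sum.inl ()) = (Sum.inl () : Idx m) := h0'
      rw [this]
    rw [e1]
    congr 1
    rw [← Equiv.sum_comp e (fun j => v (Sum.inr (Sum.inl j)) * v (Sum.inr (Sum.inr j)))]
    apply Finset.sum_congr (Eq.refl _)
    intro i _
    show v (σ.symm (xi i)) * v (σ.symm (yi i)) = v (xi (τ i)) * v (yi (τ i))
    rcases key σ.symm h0' hσ' i with ⟨h1, h2⟩ | ⟨h1, h2⟩
    · rw [h1, h2]
    · rw [h1, h2, mul_comm]

end Cfsg.Agent.Lib.Helper39.OoBN
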