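import Cfsg.Agent.Lib.Helper35.RhDERcore
import Cfsg.Agent.Lib.Helper27.RhBURN1
import Cfsg.Agent.Lib.Helper18.RhBURN2
import Cfsg.Agent.Lib.Helper60.RhFIX3
import Cfsg.Agent.Lib.Helper49.RhFIXC
import Cfsg.Agent.Lib.Helper38.RhINVC

/-! # Rh hive (helper38), RH-DER: the number of fixed-point-free elements (exact-name leaf) -/

set_option autoImplicit false

namespace Cfsg.Agent.Lib.Helper38.Rh

open Cfsg.Agent.Lib.Helper12.Rt

section partB
variable {K : Type*} [Field K] [Fintype K] {G : Type*} [Group G] {m : ℕ} (D : RtData K G m)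

include D

/-- RH-DER.  The number of fixed-point-free elements. -/
theorem card_derangements (hm : 1 ≤ m) : (Nat.card {g : G // fixN D g = 0} : ℚ) = (gg m : ℚ) * EE m := by
  exact der_core D (card_fix_pairs D) (card_fix_triples D) (fixN_cases D) (fixN_invol D) (fixN_one D)
    (card_involutions D)

end partB

end Cfsg.Agent.Lib.Helper38.Rh
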