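import Mathlib

/-! # Rh hive (helper38), RH-DER: the generic counting core (Mathlib only)

A finite group `G` acting on a finite set `X` with `∑ fix = |G|`, `∑ fix² = 2 |G|`, where every `g ≠ 1` fixes
`0`, `1`, `2` points or is an involution fixing `q + 1` points, and `1` fixes `t` points:
`n₀ = |G|/2 - (t-1)(t-2)/2 - I q (q-1) / 2`. -/

set_option autoImplicit false

namespace Cfsg.Agent.Lib.Helper38.Rh

/-- the weight `(x-1)(x-2)/2`: `1, 0, 0` at `0, 1, 2` -/
noncomputable def der_w (x : ℕ) : ℚ := ((x : ℚ) - 1) * ((x : ℚ) - 2) / 2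

theorem der_sum_fix {G X : Type*} [Group G] [Fintype G] [MulAction G X] [Finite X]
    (hpairs : Nat.card {x : G × X // x.1 • x.2 = x.2} = Nat.card G) :
    ∑ g : G, Nat.card {c : X // g • c = c} = Nat.card G := by
  rw [← hpairs, Nat.card_congr (Equiv.subtypeProdEquivSigmaSubtype (fun (g : G) (c : X) => g • c = c)),
    Nat.card_sigma]

theorem der_sum_fix_sq {G X : Type*} [Group G] [Fintype G] [MulAction G X] [Finite X]
    (htriples : Nat.card {x : G × X × X // x.1 • x.2.1 = x.2.1 ∧ x.1 • x.2.2 = x.2.2} = 2 * Nat.card G) :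
    ∑ g : G, Nat.card {c : X // g • c = c} ^ 2 = 2 * Nat.card G := by
  rw [← htriples,
    Nat.card_congr (Equiv.subtypeProdEquivSigmaSubtype
      (fun (g : G) (y : X × X) => g • y.1 = y.1 ∧ g • y.2 = y.2)),
    Nat.card_sigma]
  refine Finset.sum_congr rfl fun g _ => ?_
  rw [Nat.card_congr (Equiv.subtypeProdEquivProd (p := fun c : X => g • c = c) (q := fun c : X => g • c = c)),
    Nat.card_prod, sq]

theorem der_generic {G X : Type*} [Group G] [Finite G] [MulAction G X] [Finite X] (q t : ℕ) (ht : t ≠ 0)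
    (hpairs : Nat.card {x : G × X // x.1 • x.2 = x.2} = Nat.card G)
    (htriples : Nat.card {x : G × X × X // x.1 • x.2.1 = x.2.1 ∧ x.1 • x.2.2 = x.2.2} = 2 * Nat.card G)
    (hcases : ∀ g : G, g ≠ 1 → Nat.card {c : X // g • c = c} = 0 ∨ Nat.card {c : X // g • c = c} = 1 ∨
      Nat.card {c : X // g • c = c} = 2 ∨ (Nat.card {c : X // g • c = c} = q + 1 ∧ g * g = 1))
    (hinvol : ∀ g : G, g ≠ 1 → g * g = 1 → Nat.card {c : X // g • c = c} = q + 1)
    (hone : Nat.card {c : X // (1 : G) • c = c} = t) :
    (Nat.card {g : G // Nat.card {c : X // g • c = c} = 0} : ℚ) =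
      (Nat.card G : ℚ) / 2 - der_w t - (Nat.card {g : G // g ≠ 1 ∧ g * g = 1} : ℚ) * der_w (q + 1) := by
  classical
  have : Fintype G := Fintype.ofFinite G
  set f : G → ℕ := fun g => Nat.card {c : X // g • c = c} with hf
  have h1 : ∑ g : G, (f g : ℚ) = (Nat.card G : ℚ) := by
    have := der_sum_fix (G := G) (X := X) hpairs
    exact_mod_cast this
  have h2 : ∑ g : G, (f g : ℚ) ^ 2 = 2 * (Nat.card G : ℚ) := by
    have := der_sum_fix_sq (G := G) (X := X) htriples
    exact_mod_cast this
  -- the sum of the weights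
  have h3 : ∑ g : G, der_w (f g) = (Nat.card G : ℚ) / 2 := by
    have : ∀ g : G, der_w (f g) = ((f g : ℚ) ^ 2 - 3 * (f g : ℚ) + 2) / 2 := by
      intro g; unfold der_w; ring
    simp_rw [this]
    rw [← Finset.sum_div, Finset.sum_add_distrib, Finset.sum_sub_distrib, ← Finset.mul_sum, h1, h2]
    simp only [Finset.sum_const, Finset.card_univ, nsmul_eq_mul]
    rw [← Nat.card_eq_fintype_card]
    ring
  -- pointwise decomposition
  have h4 : ∀ g : G, der_w (f g) = (if g = 1 then der_w t else 0) +
      (if g ≠ 1 ∧ g * g = 1 then der_w (q + 1) else 0) + (if f g = 0 then 1 else 0) := by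
    intro g
    by_cases hg : g = 1
    · subst hg
      have : f 1 = t := hone
      rw [this]
      simp [ht]
    · by_cases hg2 : g * g = 1
      · have : f g = q + 1 := hinvol g hg hg2
        rw [this]
        simp [hg, hg2]
      · rcases hcases g hg with h | h | h | h
        · have : f g = 0 := h
          rw [this]; simp [hg, hg2, der_w]
        · have : f g = 1 := h
          rw [this]; simp [hg, hg2, der_w]
        · have : f g = 2 := h
          rw [this]; simp [hg, hg2, der_w]
        · exact absurd h.2 hg2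
  have h5 : ∑ g : G, der_w (f g) = der_w t +
      (Nat.card {g : G // g ≠ 1 ∧ g * g = 1} : ℚ) * der_w (q + 1) +
      (Nat.card {g : G // f g = 0} : ℚ) := by
    simp_rw [h4]
    rw [Finset.sum_add_distrib, Finset.sum_add_distrib]
    congr 1
    · congr 1
      · simp
      · rw [← Finset.sum_filter, Finset.sum_const, nsmul_eq_mul, Nat.card_eq_fintype_card,
          Fintype.card_subtype]
    · rw [Finset.sum_boole, Nat.card_eq_fintype_card, Fintype.card_subtype]
  rw [h3] at h5
  linarith
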