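import Cfsg.Agent.Lib.Helper38.RhDefsB
import Cfsg.Agent.Lib.Helper35.RhDERgen

/-! # Rh hive (helper38), RH-DER core: the number of fixed-point-free elements, on the statements of
RH-BURN1, RH-BURN2, RH-FIX3, RH-FIXC, RH-INVC as hypotheses -/

set_option autoImplicit false

namespace Cfsg.Agent.Lib.Helper38.Rh

open Cfsg.Agent.Lib.Helper12.Rt

/-- the arithmetic: `|G|/2 - w(q³+1) - I w(q+1) = |G| E` -/
theorem der_arith (m : ℕ) :
    (gg m : ℚ) / 2 - der_w (qq m ^ 3 + 1) -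
        ((qq m ^ 2 * (qq m ^ 2 - qq m + 1) : ℕ) : ℚ) * der_w (qq m + 1) = (gg m : ℚ) * EE m := by
  have hq1 : 1 ≤ qq m := Nat.one_le_pow _ _ (by norm_num)
  have hq2 : qq m ≤ qq m ^ 2 := by nlinarith
  unfold gg EE NN der_w
  generalize qq m = q at hq1 hq2 ⊢
  push_cast [Nat.cast_sub hq1, Nat.cast_sub hq2]
  have hqpos : (0 : ℚ) < q := by exact_mod_cast hq1
  have hN : (q : ℚ) ^ 2 - q + 1 ≠ 0 := by nlinarith
  have hq1' : (q : ℚ) + 1 ≠ 0 := by positivity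
  rw [div_add_div _ _ (mul_ne_zero (by norm_num) hq1') (mul_ne_zero (by norm_num) hN),
    ← mul_div_assoc ((q : ℚ) ^ 3 * ((q : ℚ) - 1) * ((q : ℚ) ^ 3 + 1)),
    eq_div_iff (mul_ne_zero (mul_ne_zero (by norm_num) hq1') (mul_ne_zero (by norm_num) hN))]
  ring

section partB
variable {K : Type*} [Field K] [Fintype K] {G : Type*} [Group G] {m : ℕ} (D : RtData K G m)

/-- RH-DER core. -/
theorem der_core
    (hpairs : Nat.card {x : G × (G ⧸ D.R.B) // x.1 • x.2 = x.2} = Nat.card G)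
    (htriples : Nat.card {x : G × (G ⧸ D.R.B) × (G ⧸ D.R.B) // x.1 • x.2.1 = x.2.1 ∧ x.1 • x.2.2 = x.2.2} =
      2 * Nat.card G)
    (hcases : ∀ g : G, g ≠ 1 →
      fixN D g = 0 ∨ fixN D g = 1 ∨ fixN D g = 2 ∨ (fixN D g = qq m + 1 ∧ g * g = 1))
    (hinvol : ∀ g : G, g ≠ 1 → g * g = 1 → fixN D g = qq m + 1)
    (hone : fixN D 1 = qq m ^ 3 + 1)
    (hI : Nat.card {g : G // g ≠ 1 ∧ g * g = 1} = qq m ^ 2 * (qq m ^ 2 - qq m + 1)) :
    (Nat.card {g : G // fixN D g = 0} : ℚ) = (gg m : ℚ) * EE m := by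
  have := D.finite
  have hG : (Nat.card G : ℚ) = (gg m : ℚ) := by
    have := D.card_G
    unfold gg qq
    exact_mod_cast this
  have key := der_generic (G := G) (X := G ⧸ D.R.B) (qq m) (qq m ^ 3 + 1) (by positivity) hpairs htriples
    hcases hinvol hone
  rw [hI, hG] at key
  rw [← der_arith m]
  exact key

end partB

end Cfsg.Agent.Lib.Helper38.Rh
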