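import Mathlib

/-! # Rm hive (helper6), RM-AR: arithmetic for `q = 3^(2m+1)` -/

set_option autoImplicit false

namespace Cfsg.Agent.Lib.Helper6.Rm

theorem rmar_mod (m : ℕ) : 3 ^ (2 * m + 1) % 4 = 3 := by
  induction m with
  | zero => norm_num
  | succ n ih =>
    have : 3 ^ (2 * (n + 1) + 1) = 9 * 3 ^ (2 * n + 1) := by ring
    rw [this]
    omega

/-- RM-AR (Mathlib, arithmetic; `q = 3^(2m+1) ≡ 3 (mod 4)`). -/
theorem rm_arith (m : ℕ) :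
    ((3 ^ (2 * m + 1) - 1) * 3 ^ (2 * m + 1)) % 4 = 2 ∧
    (3 ^ (2 * m + 1)) ^ 2 - 3 ^ (2 * m + 1) + 1 = (3 ^ (2 * m + 1) - 1) * 3 ^ (2 * m + 1) + 1 := by
  have h := rmar_mod m
  generalize 3 ^ (2 * m + 1) = q at h ⊢
  obtain ⟨k, rfl⟩ : ∃ k, q = 4 * k + 3 := ⟨q / 4, by omega⟩
  constructor
  · have : (4 * k + 3 - 1) * (4 * k + 3) = 4 * (4 * k * k + 5 * k + 1) + 2 := by
      have : 4 * k + 3 - 1 = 4 * k + 2 := by omega
      rw [this]; ring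
    rw [this]
    omega
  · have h1 : 4 * k + 3 - 1 = 4 * k + 2 := by omega
    rw [h1]
    have h2 : (4 * k + 3) ^ 2 = (4 * k + 2) * (4 * k + 3) + (4 * k + 3) := by ring
    rw [h2, Nat.add_sub_cancel]

end Cfsg.Agent.Lib.Helper6.Rm
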