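import Cfsg.Agent.Lib.Helper6.Rm.Sub

set_option autoImplicit false

/-! # `Rm` mini-hive (helper6, S2343): leaf RM-HEIS — the Heisenberg data of `U¹` -/

namespace Cfsg.Agent.Lib.Helper6.Rm

open Cfsg Cfsg.Lie Cfsg.Agent.Lib.Helper36

variable {K : Type*} [Field K] [Fintype K] {m : ℕ}

/-- `x(0,u,v) x(t,0,0) = x(t,u,v - tu)`. -/
theorem rmheis_qy (hK : Fintype.card K = 3 ^ (2 * m + 1)) (t u v : K) :
    (xg m (0, u, v) : RG K m) * xg m (t, 0, 0) = xg m (t, u, v - t * u) := by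
  rw [xg_mul hK]
  congr 1
  refine Prod.ext ?_ (Prod.ext ?_ ?_)
  · show (0 : K) + t = t
    ring
  · show u + 0 - t ^ (3 ^ m * 3) * 0 = u
    ring
  · show v + 0 - t * u - t ^ (3 ^ m * 3) * 0 ^ 2 + t ^ (3 ^ m * 3) * 0 * t = v - t * u
    ring

/-- `x(t,0,0) x(0,u,v) = x(t,u,v)`. -/
theorem rmheis_yq (hK : Fintype.card K = 3 ^ (2 * m + 1)) (t u v : K) :
    (xg m (t, 0, 0) : RG K m) * xg m (0, u, v) = xg m (t, u, v) := by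
  rw [xg_mul hK]
  have h0 : (0 : K) ^ (3 ^ m * 3) = 0 := zero_pow (by positivity)
  congr 1
  refine Prod.ext ?_ (Prod.ext ?_ ?_)
  · show t + 0 = t
    ring
  · show 0 + u - (0 : K) ^ (3 ^ m * 3) * t = u
    rw [h0]; ring
  · show 0 + v - 0 * 0 - (0 : K) ^ (3 ^ m * 3) * t ^ 2 + (0 : K) ^ (3 ^ m * 3) * t * 0 = v
    rw [h0]; ring

/-- `y_t⁻¹ x(0,u,v) y_t = x(0,u,v - tu)`. -/
theorem rmheis_conj (hK : Fintype.card K = 3 ^ (2 * m + 1)) (t u v : K) :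
    (xg m (t, 0, 0) : RG K m)⁻¹ * xg m (0, u, v) * xg m (t, 0, 0) = xg m (0, u, v - t * u) := by
  rw [mul_assoc, inv_mul_eq_iff_eq_mul, rmheis_qy hK, rmheis_yq hK]

/-- RM-HEIS: the Heisenberg data. -/
theorem heis_data (hK : Fintype.card K = 3 ^ (2 * m + 1)) :
    (∀ t : K, ∀ z ∈ Zr K m, (xg m (t, 0, 0) : RG K m) * z = z * xg m (t, 0, 0)) ∧
    (∀ t : K, ∀ a ∈ Qr K m, (xg m (t, 0, 0) : RG K m)⁻¹ * a * xg m (t, 0, 0) * a⁻¹ ∈ Zr K m) ∧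
    (∀ t t' : K, t ≠ t' → ∀ z ∈ Zr K m, ∃ a ∈ Qr K m,
      (xg m (t, 0, 0) : RG K m)⁻¹ * a * xg m (t, 0, 0) * ((xg m (t', 0, 0))⁻¹ * a * xg m (t', 0, 0))⁻¹ = z) := by
  refine ⟨?_, ?_, ?_⟩
  · intro t z hz
    obtain ⟨c, rfl⟩ := (mem_Zr_iff hK z).1 hz
    rw [rmsub_xz hK, rmsub_zx hK]
  · intro t a ha
    obtain ⟨u, v, rfl⟩ := (mem_Qr_iff hK a).1 ha
    rw [rmheis_conj hK, rmsub_q_inv hK, rmsub_qq hK, mem_Zr_iff hK]
    exact ⟨v - t * u + -v, by rw [add_neg_cancel]⟩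
  · intro t t' htt z hz
    obtain ⟨c, rfl⟩ := (mem_Zr_iff hK z).1 hz
    have hne : t' - t ≠ 0 := sub_ne_zero.2 (Ne.symm htt)
    refine ⟨xg m (0, c / (t' - t), 0), (mem_Qr_iff hK _).2 ⟨_, _, rfl⟩, ?_⟩
    rw [rmheis_conj hK, rmheis_conj hK, rmsub_q_inv hK, rmsub_qq hK]
    congr 1
    refine Prod.ext ?_ (Prod.ext ?_ ?_)
    · rfl
    · show c / (t' - t) + -(c / (t' - t)) = 0
      ring
    · show 0 - t * (c / (t' - t)) + -(0 - t' * (c / (t' - t))) = c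
      field_simp
      ring

end Cfsg.Agent.Lib.Helper6.Rm
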