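import Cfsg.Agent.Lib.Helper41.StnDefs

/-! # Stn hive (S2401), sub-hive SYM (helper35): shared definitions for the Steinberg symbols -/

set_option autoImplicit false

namespace Cfsg.Agent.Lib.Helper41.Stn

variable {K : Type*} [Field K] {n : ℕ}

/-- abstract symbol of a map `h : K → G`: `sy h t u = h(tu) h(t)⁻¹ h(u)⁻¹` -/
def sy {G : Type*} [Group G] (h : K → G) (t u : K) : G := h (t * u) * (h t)⁻¹ * (h u)⁻¹

/-- the Steinberg symbol of the pair `(i,j)`: `tau i j t u = h_ij(tu) h_ij(t)⁻¹ h_ij(u)⁻¹` -/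
noncomputable def tau (i j : Fin n) (t u : K) : St K n := sy (hh i j) t u

/-- the properties of `h = hh i j` that force its symbol to vanish over a finite field -/
structure SymData {G : Type*} [Group G] (h : K → G) : Prop where
  h_one : h 1 = 1
  cen : ∀ t u : K, t ≠ 0 → u ≠ 0 → ∀ g : G, g * sy h t u = sy h t u * g
  mul_left : ∀ t₁ t₂ u : K, t₁ ≠ 0 → t₂ ≠ 0 → u ≠ 0 → sy h (t₁ * t₂) u = sy h t₁ u * sy h t₂ u
  mul_right : ∀ t u₁ u₂ : K, t ≠ 0 → u₁ ≠ 0 → u₂ ≠ 0 → sy h t (u₁ * u₂) = sy h t u₁ * sy h t u₂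
  comm : ∀ t u : K, t ≠ 0 → u ≠ 0 → h t * h u * (h t)⁻¹ * (h u)⁻¹ = sy h (t ^ 2) u
  neg_inv : ∀ t : K, t ≠ 0 → h t * h (-t⁻¹) = h (-1)
  steinberg : ∀ a : K, a ≠ 0 → a ≠ 1 → h a * (h (a - 1))⁻¹ = h (a / (1 - a)) * (h (-1))⁻¹

end Cfsg.Agent.Lib.Helper41.Stn
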