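import Mathlib
import Cfsg.Prelude.Def_EvenType

/-!
# S1788 hive "Tr": generic lemmas on `Cfsg.PRankAtLeast`
-/

set_option autoImplicit false

namespace Cfsg.Agent.Lib.Helper35.Tr

open Cfsg

/-- the image of an elementary abelian `p`-subgroup under an injective homomorphism -/
theorem prank_of_injective {X Y : Type*} [Group X] [Group Y] (f : X →* Y)
    (hf : Function.Injective f) {p k : ℕ} (h : PRankAtLeast p k X) : PRankAtLeast p k Y := by
  obtain ⟨A, hc, hexp, hcard⟩ := h
  refine ⟨A.map f, ?_, ?_, ?_⟩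
  · constructor
    constructor
    rintro ⟨x, a, ha, rfl⟩ ⟨y, b, hb, rfl⟩
    apply Subtype.ext
    show f a * f b = f b * f a
    have h1 : (⟨a, ha⟩ : A) * ⟨b, hb⟩ = ⟨b, hb⟩ * ⟨a, ha⟩ := hc.is_comm.comm _ _
    have h2 : a * b = b * a := congrArg Subtype.val h1
    rw [← map_mul, ← map_mul, h2]
  · rintro y ⟨a, ha, rfl⟩
    rw [← map_pow, hexp a ha, map_one]
  · rw [Nat.card_congr (A.equivMapOfInjective f hf).symm.toEquiv]
    exact hcard

/-- transport of `PRankAtLeast` along an isomorphism -/
theorem prank_of_mulEquiv {G H : Type*} [Group G] [Group H] (e : G ≃* H) {p k : ℕ}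
    (h : PRankAtLeast p k H) : PRankAtLeast p k G :=
  prank_of_injective e.symm.toMonoidHom e.symm.injective h

/-- an injective homomorphism from an elementary abelian group -/
theorem prank_of_hom {X : Type*} [Group X] {V : Type*} [CommGroup V] {p k : ℕ}
    (hV : ∀ v : V, v ^ p = 1) (f : V →* X) (hf : Function.Injective f)
    (hcard : p ^ k ≤ Nat.card V) : PRankAtLeast p k X := by
  apply prank_of_injective f hf
  refine ⟨⊤, ?_, fun a _ => hV a, ?_⟩
  · constructor
    constructor
    rintro ⟨a, _⟩ ⟨b, _⟩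
    exact Subtype.ext (mul_comm a b)
  · rw [Nat.card_congr Subgroup.topEquiv.toEquiv]
    exact hcard

/-- pushing an elementary abelian `p`-subgroup to a quotient by a normal subgroup it meets trivially -/
theorem prank_quot {H : Type*} [Group H] (N : Subgroup H) [N.Normal] {p k : ℕ} (A : Subgroup H)
    (hc : ∀ a ∈ A, ∀ b ∈ A, a * b = b * a) (hexp : ∀ a ∈ A, a ^ p = 1)
    (hcard : p ^ k ≤ Nat.card A) (hdisj : ∀ a ∈ A, a ∈ N → a = 1) :
    PRankAtLeast p k (H ⧸ N) := by
  let g : A →* H ⧸ N := (QuotientGroup.mk' N).comp A.subtype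
  have hg : Function.Injective g := by
    rw [injective_iff_map_eq_one]
    rintro ⟨a, ha⟩ h
    have : a ∈ N := by
      have h' : (QuotientGroup.mk' N) a = 1 := h
      rwa [QuotientGroup.mk'_apply, QuotientGroup.eq_one_iff] at h'
    exact Subtype.ext (hdisj a ha this)
  apply prank_of_injective g hg
  refine ⟨⊤, ?_, ?_, ?_⟩
  · constructor
    constructor
    rintro ⟨⟨a, ha⟩, _⟩ ⟨⟨b, hb⟩, _⟩
    exact Subtype.ext (Subtype.ext (hc a ha b hb))
  · rintro ⟨a, ha⟩ _
    exact Subtype.ext (hexp a ha)
  · rw [Nat.card_congr Subgroup.topEquiv.toEquiv]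
    exact hcard

/-- an injective homomorphism from an elementary abelian group into `H`, whose image meets the normal
subgroup `N` trivially, gives an elementary abelian subgroup of `H ⧸ N` -/
theorem prank_quot_of_hom {H : Type*} [Group H] (N : Subgroup H) [N.Normal] {V : Type*} [CommGroup V]
    {p k : ℕ} (hV : ∀ v : V, v ^ p = 1) (f : V →* H)
    (hfN : ∀ v : V, f v ∈ N → v = 1) (hcard : p ^ k ≤ Nat.card V) :
    PRankAtLeast p k (H ⧸ N) := by
  have hf : Function.Injective ((QuotientGroup.mk' N).comp f) := by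
    rw [injective_iff_map_eq_one]
    intro v h
    have h' : (QuotientGroup.mk' N) (f v) = 1 := h
    rw [QuotientGroup.mk'_apply, QuotientGroup.eq_one_iff] at h'
    exact hfN v h'
  exact prank_of_hom hV _ hf hcard

/-- in a group of odd order (more generally: without elements of order 2) an element with `a ^ 2 = 1` is trivial;
used for the centres, which have odd order in characteristic 2 -/
theorem eq_one_of_sq_of_odd_card {Z : Type*} [Group Z] [Finite Z] (hodd : Odd (Nat.card Z)) (a : Z)
    (ha : a ^ 2 = 1) : a = 1 := by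
  have h1 : orderOf a ∣ 2 := orderOf_dvd_of_pow_eq_one ha
  have h2 : orderOf a ∣ Nat.card Z := orderOf_dvd_natCard a
  have h3 : orderOf a ∣ Nat.gcd 2 (Nat.card Z) := Nat.dvd_gcd h1 h2
  have h4 : Nat.gcd 2 (Nat.card Z) = 1 := Nat.coprime_two_left.mpr hodd
  rw [h4, Nat.dvd_one] at h3
  exact orderOf_eq_one_iff.mp h3

end Cfsg.Agent.Lib.Helper35.Tr
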